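import Groth.Agent.Curves.K329.Link
import Mathlib.Algebra.Polynomial.Taylor

/-!
# The substitutions `z ↦ (c + z) t^A`, `t ↦ t^B` and the exchange of the variables

`bl c A B : k⟦z,t⟧ →ₐ[k] k⟦z,t⟧`, with coefficients `cf_bl`; `sw` exchanges the variables.
-/

set_option autoImplicit false
universe u v

namespace K329.BlowSub

open MvPowerSeries K329.SubstWt

variable (k : Type u) [Field k]

/-- The images of the variables. -/
noncomputable def tg (c : k) (A B : ℕ) : Fin 2 → MvPowerSeries (Fin 2) k :=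
  ![(C c + X 0) * X 1 ^ A, X 1 ^ B]

noncomputable def tsw : Fin 2 → MvPowerSeries (Fin 2) k := ![X 1, X 0]

lemma hasSubst_tg (c : k) {A B : ℕ} (hA : 0 < A) (hB : 0 < B) : HasSubst (tg k c A B) := by
  apply hasSubst_of_constantCoeff_zero
  intro s
  fin_cases s
  · change constantCoeff ((C c + X 0) * X 1 ^ A : MvPowerSeries (Fin 2) k) = 0
    rw [map_mul, map_pow, constantCoeff_X, zero_pow hA.ne', mul_zero]
  · change constantCoeff (X 1 ^ B : MvPowerSeries (Fin 2) k) = 0
    rw [map_pow, constantCoeff_X, zero_pow hB.ne']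

lemma hasSubst_tsw : HasSubst (tsw k) := by
  apply hasSubst_of_constantCoeff_zero
  intro s
  fin_cases s
  · exact constantCoeff_X _
  · exact constantCoeff_X _

/-- The substitution `z ↦ (c + z) t^A`, `t ↦ t^B`. -/
noncomputable def bl (c : k) {A B : ℕ} (hA : 0 < A) (hB : 0 < B) :
    MvPowerSeries (Fin 2) k →ₐ[k] MvPowerSeries (Fin 2) k :=
  substAlgHom (R := k) (hasSubst_tg k c hA hB)

/-- The exchange of the variables. -/
noncomputable def sw : MvPowerSeries (Fin 2) k →ₐ[k] MvPowerSeries (Fin 2) k :=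
  substAlgHom (R := k) (hasSubst_tsw k)

variable {k}

lemma bl_X0 (c : k) {A B : ℕ} (hA : 0 < A) (hB : 0 < B) : bl k c hA hB (X 0) = (C c + X 0) * X 1 ^ A := by
  rw [bl, substAlgHom_apply, subst_X (hasSubst_tg k c hA hB)]
  rfl

lemma bl_X1 (c : k) {A B : ℕ} (hA : 0 < A) (hB : 0 < B) : bl k c hA hB (X 1) = X 1 ^ B := by
  rw [bl, substAlgHom_apply, subst_X (hasSubst_tg k c hA hB)]
  rfl

lemma sw_X0 : sw k (X 0) = X 1 := by
  rw [sw, substAlgHom_apply, subst_X (hasSubst_tsw k)]
  rfl

lemma sw_X1 : sw k (X 1) = X 0 := by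
  rw [sw, substAlgHom_apply, subst_X (hasSubst_tsw k)]
  rfl

lemma cf_aeval (p : Polynomial k) (i n : ℕ) :
    cf (Polynomial.aeval (X 0 : MvPowerSeries (Fin 2) k) p) (i, n) = if n = 0 then p.coeff i else 0 := by
  classical
  induction p using Polynomial.induction_on' with
  | add p q hp hq =>
    rw [map_add]
    change coeff (idx (i, n)) _ = _
    rw [map_add]
    change cf _ (i, n) + cf _ (i, n) = _
    rw [hp, hq]
    split_ifs
    · rw [Polynomial.coeff_add]
    · rw [add_zero]
  | monomial m a =>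
    rw [Polynomial.aeval_monomial]
    change coeff (idx (i, n)) (C a * (X 0) ^ m) = _
    rw [coeff_C_mul, coeff_X_pow, Polynomial.coeff_monomial]
    have h : idx (i, n) = Finsupp.single 0 m ↔ m = i ∧ n = 0 := by
      constructor
      · intro h
        have h0 := DFunLike.congr_fun h 0
        have h1 := DFunLike.congr_fun h 1
        rw [idx_zero, Finsupp.single_eq_same] at h0
        rw [idx_one, Finsupp.single_eq_of_ne (by decide)] at h1
        exact ⟨h0.symm, h1⟩
      · rintro ⟨rfl, rfl⟩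
        ext j
        fin_cases j
        · rw [Fin.zero_eta, idx_zero, Finsupp.single_eq_same]
        · rw [Fin.mk_one, idx_one, Finsupp.single_eq_of_ne (by decide)]
    by_cases hn : n = 0
    · rw [if_pos hn]
      by_cases hm : m = i
      · rw [if_pos (h.2 ⟨hm, hn⟩), if_pos hm, mul_one]
      · rw [if_neg (fun h' => hm (h.1 h').1), if_neg hm, mul_zero]
    · rw [if_neg hn, if_neg (fun h' => hn (h.1 h').2), mul_zero]

/-- Coefficients of a multiple of a power of `t`. -/
lemma cf_mul_X1_pow (f : MvPowerSeries (Fin 2) k) (m i n : ℕ) :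
    cf (f * X 1 ^ m) (i, n) = if m ≤ n then cf f (i, n - m) else 0 := by
  classical
  split_ifs with h
  · have h1 : idx (i, n) = idx (i, n - m) + Finsupp.single 1 m := by
      ext j
      fin_cases j
      · rw [Fin.zero_eta, Finsupp.add_apply, idx_zero, idx_zero, Finsupp.single_eq_of_ne (by decide), add_zero]
      · rw [Fin.mk_one, Finsupp.add_apply, idx_one, idx_one, Finsupp.single_eq_same]
        exact (Nat.sub_add_cancel h).symm
    rw [cf, h1, X_pow_eq, coeff_add_mul_monomial, mul_one]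
  · have h1 : (X 1 : MvPowerSeries (Fin 2) k) ^ m ∣ f * X 1 ^ m := ⟨f, mul_comm _ _⟩
    exact X_pow_dvd_iff.1 h1 _ (by rw [idx_one]; omega)

/-- A power of `t` divides. -/
lemma exists_eq_mul_X1_pow (f : MvPowerSeries (Fin 2) k) (m : ℕ) (h : ∀ i, ∀ n < m, cf f (i, n) = 0) :
    ∃ g, f = g * X 1 ^ m := by
  have h1 : (X 1 : MvPowerSeries (Fin 2) k) ^ m ∣ f := by
    rw [X_pow_dvd_iff]
    intro d hd
    have := h (d 0) (d 1) hd
    rwa [cf, idx_surj] at this
  obtain ⟨g, hg⟩ := h1
  exact ⟨g, by rw [hg, mul_comm]⟩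

lemma cf_tg_prod (c : k) (A B : ℕ) (d : Fin 2 →₀ ℕ) (i n : ℕ) :
    cf (d.prod fun s e => (tg k c A B s) ^ e) (i, n) =
      if A * d 0 + B * d 1 = n then ((Polynomial.X + Polynomial.C c) ^ d 0).coeff i else 0 := by
  have h1 : (d.prod fun s e => (tg k c A B s) ^ e) =
      Polynomial.aeval (X 0 : MvPowerSeries (Fin 2) k) ((Polynomial.X + Polynomial.C c) ^ d 0) *
        X 1 ^ (A * d 0 + B * d 1) := by
    rw [Finsupp.prod_fintype _ _ (fun _ => pow_zero _), Fin.prod_univ_two]
    change ((C c + X 0) * X 1 ^ A) ^ d 0 * (X 1 ^ B) ^ d 1 = _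
    rw [mul_pow, mul_assoc, ← pow_mul, ← pow_mul, ← pow_add, map_pow, map_add, Polynomial.aeval_X, Polynomial.aeval_C,
      add_comm (C c)]
    rfl
  rw [h1, cf_mul_X1_pow]
  by_cases h : A * d 0 + B * d 1 = n
  · rw [if_pos h.le, if_pos h, cf_aeval, if_pos (by omega)]
  · rw [if_neg h]
    split_ifs with h2
    · rw [cf_aeval, if_neg (by omega)]
    · rfl

/-- The coefficients of the substitution. -/
theorem cf_bl (c : k) {A B : ℕ} (hA : 0 < A) (hB : 0 < B) (f : MvPowerSeries (Fin 2) k) (i n : ℕ) :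
    cf (bl k c hA hB f) (i, n) = (Polynomial.taylor c (lead f A B n)).coeff i := by
  have h1 : cf (bl k c hA hB f) (i, n) = coeff (idx (i, n)) (subst (tg k c A B) f) := by
    rw [bl, substAlgHom_apply]
  rw [h1, coeff_subst (hasSubst_tg k c hA hB)]
  have h2 : ∀ d : Fin 2 →₀ ℕ, coeff (idx (i, n)) (d.prod fun s e => (tg k c A B s) ^ e) =
      if A * d 0 + B * d 1 = n then ((Polynomial.X + Polynomial.C c) ^ d 0).coeff i else 0 :=
    fun d => cf_tg_prod c A B d i n
  simp only [h2]
  let F : Finset (ℕ × ℕ) := (Finset.range (n + 1) ×ˢ Finset.range (n + 1)).filter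
    fun x : ℕ × ℕ => A * x.1 + B * x.2 = n
  rw [finsum_eq_sum_of_support_subset (s := F.map ⟨idx, idx_injective⟩)]
  · rw [Finset.sum_map, lead, map_sum, Polynomial.finsetSum_coeff]
    apply Finset.sum_congr rfl
    intro x hx
    have hx' := (Finset.mem_filter.1 hx).2
    simp only [Function.Embedding.coeFn_mk, idx_zero, idx_one]
    rw [if_pos hx', Polynomial.taylor_monomial, Polynomial.coeff_C_mul, smul_eq_mul]
  · intro d hd
    rw [Function.mem_support] at hd
    rw [Finset.coe_map, Set.mem_image]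
    have h3 : A * d 0 + B * d 1 = n := by
      by_contra hcon
      rw [if_neg hcon, smul_zero] at hd
      exact hd rfl
    exact ⟨(d 0, d 1), mem_lead_index hA hB h3, idx_surj d⟩

theorem cf_sw (f : MvPowerSeries (Fin 2) k) (i n : ℕ) : cf (sw k f) (i, n) = cf f (n, i) := by
  classical
  have h1 : cf (sw k f) (i, n) = coeff (idx (i, n)) (subst (tsw k) f) := by
    rw [sw, substAlgHom_apply]
  have h3 : ∀ d : Fin 2 →₀ ℕ, (d.prod fun s e => (tsw k s) ^ e) = monomial (idx (d 1, d 0)) (1 : k) := by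
    intro d
    rw [Finsupp.prod_fintype _ _ (fun _ => pow_zero _), Fin.prod_univ_two]
    change X 1 ^ d 0 * X 0 ^ d 1 = _
    have h4 : (Finsupp.single 1 (d 0) + Finsupp.single 0 (d 1) : Fin 2 →₀ ℕ) = idx (d 1, d 0) := by
      ext j
      fin_cases j
      · rw [Fin.zero_eta, Finsupp.add_apply, idx_zero, Finsupp.single_eq_of_ne (by decide), Finsupp.single_eq_same,
          zero_add]
      · rw [Fin.mk_one, Finsupp.add_apply, idx_one, Finsupp.single_eq_same, Finsupp.single_eq_of_ne (by decide),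
          add_zero]
    rw [X_pow_eq, X_pow_eq, monomial_mul_monomial, one_mul, h4]
  rw [h1, coeff_subst (hasSubst_tsw k), finsum_eq_single _ (idx (n, i))]
  · rw [h3, idx_zero, idx_one, coeff_monomial_same, smul_eq_mul, mul_one]
  · intro d hd
    rw [h3, coeff_monomial, if_neg, smul_zero]
    intro h
    apply hd
    have h0 := congrArg Prod.fst (idx_injective h)
    have h4 := congrArg Prod.snd (idx_injective h)
    rw [← idx_surj d]
    simp only at h0 h4
    rw [← h0, ← h4]

lemma sw_sw (f : MvPowerSeries (Fin 2) k) : sw k (sw k f) = f := by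
  apply ext_cf
  rintro ⟨i, n⟩
  rw [cf_sw, cf_sw]

lemma sw_injective : Function.Injective (sw k) := Function.LeftInverse.injective sw_sw

lemma cf_zero (f : MvPowerSeries (Fin 2) k) : cf f (0, 0) = constantCoeff f := by
  have : idx (0, 0) = 0 := by
    ext i
    fin_cases i <;> rfl
  rw [cf, this, coeff_zero_eq_constantCoeff_apply]

lemma constantCoeff_sw (f : MvPowerSeries (Fin 2) k) : constantCoeff (sw k f) = constantCoeff f := by
  rw [← cf_zero, ← cf_zero, cf_sw]

lemma bl_injective (c : k) {A B : ℕ} (hA : 0 < A) (hB : 0 < B) : Function.Injective (bl k c hA hB) := by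
  rw [injective_iff_map_eq_zero]
  intro f hf
  apply ext_cf
  intro x
  have h2 : lead f A B (A * x.1 + B * x.2) = 0 := by
    rw [← Polynomial.taylor_eq_zero (r := c)]
    ext i
    rw [← cf_bl c hA hB, hf]
    exact (map_zero _)
  have h3 := coeff_lead f hA hB (x := x) rfl
  rw [h2, Polynomial.coeff_zero] at h3
  rw [← h3]
  exact (map_zero _).symm

lemma lead_zero (f : MvPowerSeries (Fin 2) k) {A B : ℕ} (hA : 0 < A) (hB : 0 < B) :
    lead f A B 0 = Polynomial.C (constantCoeff f) := by
  ext i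
  rw [Polynomial.coeff_C]
  split_ifs with hi
  · subst hi
    have := coeff_lead f hA hB (x := (0, 0)) (n := 0) rfl
    rw [this, cf_zero]
  · apply coeff_lead_eq_zero
    intro j hj
    have : A * i = 0 := by omega
    rcases Nat.mul_eq_zero.1 this with h | h
    · omega
    · exact absurd h hi

lemma constantCoeff_bl (c : k) {A B : ℕ} (hA : 0 < A) (hB : 0 < B) (f : MvPowerSeries (Fin 2) k) :
    constantCoeff (bl k c hA hB f) = constantCoeff f := by
  rw [← cf_zero, cf_bl, lead_zero f hA hB, Polynomial.taylor_C, Polynomial.coeff_C_zero]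

end K329.BlowSub
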