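import Groth.Agent.Curves.K329.TwoArcs
import Groth.Agent.Curves.K329.BlowSub
import Mathlib.RingTheory.PowerSeries.Inverse
import Mathlib.RingTheory.Valuation.ValuationRing

/-!
# Arcs `k⟦z,t⟧ → k⟦s⟧`, leading vectors, and multiples of tuples

`LeadAt f p a`: the tuple `f` of power series in one variable starts with `a s^p`. `hom_ext`: a `k`-algebra homomorphism
`k⟦z,t⟧ → k⟦s⟧` is determined by the images of `z` and `t`. `Lk.of_mul`, `lk_of_weight`.
-/

set_option autoImplicit false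
universe u v w

namespace K329.ArcLead

open MvPowerSeries K329.SubstWt K329.Link K329.TwoArcs K329.BlowSub

variable {k : Type u} [Field k] {L : Type v} [Field L] [Algebra k L] {ι : Type w}

/-! ### Products in one variable -/

lemma coeff_mul_eq_zero {K : Type*} [Field K] {f g : PowerSeries K} {m p : ℕ}
    (hf : ∀ i < m, PowerSeries.coeff i f = 0) (hg : ∀ i < p, PowerSeries.coeff i g = 0) {n : ℕ} (hn : n < m + p) :
    PowerSeries.coeff n (f * g) = 0 := by
  rw [PowerSeries.coeff_mul]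
  refine Finset.sum_eq_zero fun x hx => ?_
  have hx' := Finset.mem_antidiagonal.1 hx
  rcases lt_or_ge x.1 m with h | h
  · rw [hf _ h, zero_mul]
  · rw [hg x.2 (by omega), mul_zero]

lemma coeff_mul_eq {K : Type*} [Field K] {f g : PowerSeries K} {m p : ℕ}
    (hf : ∀ i < m, PowerSeries.coeff i f = 0) (hg : ∀ i < p, PowerSeries.coeff i g = 0) :
    PowerSeries.coeff (m + p) (f * g) = PowerSeries.coeff m f * PowerSeries.coeff p g := by
  rw [PowerSeries.coeff_mul]
  refine Finset.sum_eq_single (m, p) (fun x hx hne => ?_) fun h =>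
    absurd (Finset.mem_antidiagonal.2 (show (m, p).1 + (m, p).2 = m + p from rfl)) h
  have hx' := Finset.mem_antidiagonal.1 hx
  rcases lt_or_ge x.1 m with h | h
  · rw [hf _ h, zero_mul]
  · rcases lt_or_ge x.2 p with h2 | h2
    · rw [hg _ h2, mul_zero]
    · exact absurd (Prod.ext (by simp only; omega) (by simp only; omega)) hne

lemma exists_order {K : Type*} [Field K] {f : PowerSeries K} (hf : f ≠ 0) :
    ∃ m, PowerSeries.coeff m f ≠ 0 ∧ ∀ i < m, PowerSeries.coeff i f = 0 := by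
  classical
  have h : ∃ m, PowerSeries.coeff m f ≠ 0 := by
    by_contra hcon
    push Not at hcon
    exact hf (PowerSeries.ext fun n => by rw [hcon n, map_zero])
  refine ⟨Nat.find h, Nat.find_spec h, fun i hi => ?_⟩
  have := Nat.find_min h hi
  push Not at this
  exact this

/-- The tuple starts with `a s^p`. -/
def LeadAt (f : ι → PowerSeries k) (p : ℕ) (a : ι → k) : Prop :=
  a ≠ 0 ∧ (∀ l, PowerSeries.coeff p (f l) = a l) ∧ ∀ j < p, ∀ l, PowerSeries.coeff j (f l) = 0

lemma LeadAt.isLead {f : ι → PowerSeries k} {p : ℕ} {a : ι → k} (h : LeadAt f p a) : IsLead f a := ⟨p, h⟩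

lemma exists_leadAt (f : ι → PowerSeries k) {l : ι} (hl : f l ≠ 0) : ∃ p a, LeadAt f p a := by
  obtain ⟨a, p, h⟩ := exists_isLead f l hl
  exact ⟨p, a, h⟩

lemma LeadAt.unique {f : ι → PowerSeries k} {p p' : ℕ} {a a' : ι → k} (h : LeadAt f p a) (h' : LeadAt f p' a') :
    p = p' ∧ a = a' := by
  have hp : p = p' := by
    rcases lt_trichotomy p p' with hlt | heq | hlt
    · exact absurd (funext fun l => by rw [← h.2.1 l, h'.2.2 p hlt l]; rfl) h.1
    · exact heq
    · exact absurd (funext fun l => by rw [← h'.2.1 l, h.2.2 p' hlt l]; rfl) h'.1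
  subst hp
  exact ⟨rfl, funext fun l => by rw [← h.2.1 l, h'.2.1 l]⟩

lemma LeadAt.mul {f g : ι → PowerSeries k} {W : PowerSeries k} {m p : ℕ} {a : ι → k}
    (hW : PowerSeries.coeff m W ≠ 0) (hW' : ∀ i < m, PowerSeries.coeff i W = 0) (h : ∀ l, f l = W * g l)
    (hg : LeadAt g p a) : LeadAt f (m + p) (PowerSeries.coeff m W • a) := by
  refine ⟨smul_ne_zero hW hg.1, fun l => ?_, fun j hj l => ?_⟩
  · rw [h l, coeff_mul_eq hW' (fun i hi => hg.2.2 i hi l), hg.2.1 l]
    rfl
  · rw [h l, coeff_mul_eq_zero hW' (fun i hi => hg.2.2 i hi l) hj]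

/-- Dividing a tuple by a common factor. -/
lemma LeadAt.of_mul {f g : ι → PowerSeries k} {W : PowerSeries k} {m p : ℕ} {b : ι → k}
    (hW : PowerSeries.coeff m W ≠ 0) (hW' : ∀ i < m, PowerSeries.coeff i W = 0) (h : ∀ l, f l = W * g l)
    (hf : LeadAt f p b) : ∃ p' b', LeadAt g p' b' ∧ p = m + p' ∧ Prp b b' := by
  obtain ⟨l, hl⟩ : ∃ l, g l ≠ 0 := by
    by_contra hcon
    push Not at hcon
    apply hf.1
    funext l
    rw [← hf.2.1 l, h l, hcon l, mul_zero, map_zero]
    rfl
  obtain ⟨p', b', hb'⟩ := exists_leadAt g hl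
  obtain ⟨h1, h2⟩ := hf.unique (LeadAt.mul hW hW' h hb')
  exact ⟨p', b', hb', h1, (PowerSeries.coeff m W)⁻¹, inv_ne_zero hW, by rw [h2, smul_smul, inv_mul_cancel₀ hW, one_smul]⟩

/-! ### Homomorphisms to power series in one variable -/

section arcs

variable (γ : MvPowerSeries (Fin 2) k →ₐ[k] PowerSeries k)

/-- A `k`-algebra homomorphism is compatible with constant coefficients. -/
lemma constantCoeff_arc (f : MvPowerSeries (Fin 2) k) :
    PowerSeries.constantCoeff (γ f) = constantCoeff f := by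
  by_contra hne
  let s : k := PowerSeries.constantCoeff (γ f)
  have h1 : IsUnit (f - C s) := by
    rw [MvPowerSeries.isUnit_iff_constantCoeff, map_sub, constantCoeff_C, isUnit_iff_ne_zero, sub_ne_zero]
    exact fun h => hne h.symm
  have h2 := (h1.map γ).map (PowerSeries.constantCoeff (R := k))
  have h3 : γ (C s) = PowerSeries.C s := γ.commutes s
  rw [map_sub, map_sub, h3, PowerSeries.constantCoeff_C] at h2
  exact not_isUnit_zero ((sub_self s) ▸ h2)

lemma exists_decomp (f : MvPowerSeries (Fin 2) k) {n : ℕ} (h : ∀ i j, i + j < n + 1 → cf f (i, j) = 0) :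
    ∃ g g' : MvPowerSeries (Fin 2) k, f = g * X 0 + g' * X 1 ∧ (∀ i j, i + j < n → cf g (i, j) = 0) ∧
      ∀ i j, i + j < n → cf g' (i, j) = 0 := by
  classical
  -- the part of degree `0` in `t`
  let f₀ : MvPowerSeries (Fin 2) k := fun d => if d 1 = 0 then coeff d f else 0
  have hf₀ : ∀ i j, cf f₀ (i, j) = if j = 0 then cf f (i, j) else 0 := fun i j => rfl
  obtain ⟨g', hg'⟩ := exists_eq_mul_X1_pow (f - f₀) 1 (fun i n hn => by
    rw [cf, map_sub, sub_eq_zero]
    have := hf₀ i n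
    rw [if_pos (by omega)] at this
    exact this.symm)
  obtain ⟨g, hg⟩ := exists_eq_mul_X1_pow (sw k f₀) 1 (fun i n hn => by
    rw [cf_sw, hf₀]
    obtain rfl : n = 0 := by omega
    split_ifs with hi
    · subst hi
      exact h 0 0 (by omega)
    · rfl)
  have hg0 : f₀ = sw k g * X 0 := by
    have := congrArg (sw k) hg
    rw [sw_sw, map_mul, map_pow, sw_X1, pow_one] at this
    exact this
  refine ⟨sw k g, g', ?_, fun i j hij => ?_, fun i j hij => ?_⟩
  · rw [← hg0]
    have h1 : f - f₀ = g' * X 1 := by rw [hg', pow_one]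
    rw [← h1]
    ring
  · rw [cf_sw]
    have h1 := cf_mul_X1_pow g 1 j (i + 1)
    rw [if_pos (by omega), Nat.add_sub_cancel, ← hg, cf_sw, hf₀] at h1
    rw [← h1]
    split_ifs with hj
    · exact h _ _ (by omega)
    · rfl
  · have h1 := cf_mul_X1_pow g' 1 i (j + 1)
    rw [if_pos (by omega), Nat.add_sub_cancel, ← hg'] at h1
    rw [← h1, cf, map_sub, sub_eq_zero]
    have h2 := hf₀ i (j + 1)
    rw [if_neg (by omega)] at h2
    exact (h i (j + 1) (by omega)).trans h2.symm

/-- Continuity of arcs. -/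
lemma X_pow_dvd_arc (n : ℕ) : ∀ (f : MvPowerSeries (Fin 2) k) (_ : ∀ i j, i + j < n → cf f (i, j) = 0),
    PowerSeries.X ^ n ∣ γ f := by
  induction n with
  | zero => intro f _; rw [pow_zero]; exact one_dvd _
  | succ n ih =>
    intro f hf
    obtain ⟨g, g', h1, h2, h3⟩ := exists_decomp f hf
    have hx : ∀ i : Fin 2, PowerSeries.X ∣ γ (X i) := fun i => by
      rw [PowerSeries.X_dvd_iff, constantCoeff_arc, constantCoeff_X]
    rw [h1, map_add, map_mul, map_mul, pow_succ]
    exact dvd_add (mul_dvd_mul (ih g h2) (hx 0)) (mul_dvd_mul (ih g' h3) (hx 1))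

lemma arc_eq_zero (h0 : γ (X 0) = 0) (h1 : γ (X 1) = 0) (f : MvPowerSeries (Fin 2) k) (hf : constantCoeff f = 0) :
    γ f = 0 := by
  obtain ⟨g, g', h2, -, -⟩ := exists_decomp (n := 0) f (fun i j hij => by
    obtain ⟨rfl, rfl⟩ : i = 0 ∧ j = 0 := by omega
    rw [cf_zero, hf])
  rw [h2, map_add, map_mul, map_mul, h0, h1, mul_zero, mul_zero, add_zero]

/-- the polynomial truncation -/
noncomputable def trn (f : MvPowerSeries (Fin 2) k) (n : ℕ) : MvPowerSeries (Fin 2) k :=
  ∑ x ∈ Finset.range (n + 1) ×ˢ Finset.range (n + 1), C (cf f x) * (X 0 ^ x.1 * X 1 ^ x.2)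

lemma cf_monomial (x y : ℕ × ℕ) : cf (X 0 ^ x.1 * X 1 ^ x.2 : MvPowerSeries (Fin 2) k) y = if y = x then 1 else 0 := by
  classical
  obtain ⟨i, n⟩ := y
  rw [cf_mul_X1_pow]
  have h := cf_aeval (k := k) (Polynomial.X ^ x.1) i (n - x.2)
  rw [map_pow, Polynomial.aeval_X, Polynomial.coeff_X_pow] at h
  by_cases h1 : (i, n) = x
  · subst h1
    rw [if_pos le_rfl, if_pos rfl, h, if_pos (by simp), if_pos rfl]
  · rw [if_neg h1]
    split_ifs with h2
    · rw [h]
      split_ifs with h3 h4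
      · exact absurd (Prod.ext h4 (by simp only at h3 ⊢; omega)) h1
      · rfl
      · rfl
    · rfl

lemma cf_trn (f : MvPowerSeries (Fin 2) k) {n : ℕ} {i j : ℕ} (h : i + j < n + 1) : cf (trn f n) (i, j) = cf f (i, j) := by
  classical
  have h1 : cf (trn f n) (i, j) = ∑ x ∈ Finset.range (n + 1) ×ˢ Finset.range (n + 1),
      cf f x * (if (i, j) = x then 1 else 0) := by
    rw [trn, cf, map_sum]
    refine Finset.sum_congr rfl fun x _ => ?_
    rw [coeff_C_mul]
    congr 1
    exact cf_monomial x (i, j)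
  rw [h1, Finset.sum_eq_single (i, j)]
  · rw [if_pos rfl, mul_one]
  · intro x _ hx
    rw [if_neg (Ne.symm hx), mul_zero]
  · intro hn
    exact absurd (Finset.mem_product.2 ⟨Finset.mem_range.2 (by simp only; omega), Finset.mem_range.2 (by simp only; omega)⟩) hn

/-- Arcs are determined by the images of the variables. -/
theorem hom_ext (γ γ' : MvPowerSeries (Fin 2) k →ₐ[k] PowerSeries k) (h0 : γ (X 0) = γ' (X 0))
    (h1 : γ (X 1) = γ' (X 1)) : γ = γ' := by
  apply AlgHom.ext
  intro f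
  apply PowerSeries.ext
  intro n
  have h2 : γ (trn f n) = γ' (trn f n) := by
    rw [trn, map_sum, map_sum]
    refine Finset.sum_congr rfl fun x _ => ?_
    rw [map_mul, map_mul, map_mul, map_mul, map_pow, map_pow, map_pow, map_pow, h0, h1]
    congr 1
    exact (γ.commutes (cf f x)).trans (γ'.commutes (cf f x)).symm
  have h3 : ∀ i j, i + j < n + 1 → cf (f - trn f n) (i, j) = 0 := by
    intro i j hij
    rw [cf, map_sub]
    change cf f (i, j) - cf (trn f n) (i, j) = 0
    rw [cf_trn f hij, sub_self]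
  have h4 := PowerSeries.X_pow_dvd_iff.1 (X_pow_dvd_arc γ (n + 1) _ h3) n (Nat.lt_succ_self n)
  have h5 := PowerSeries.X_pow_dvd_iff.1 (X_pow_dvd_arc γ' (n + 1) _ h3) n (Nat.lt_succ_self n)
  rw [map_sub, map_sub, sub_eq_zero] at h4 h5
  rw [h4, h5, h2]

/-- The arc with given images of the variables. -/
theorem exists_arc (x y : PowerSeries k) (hx : PowerSeries.constantCoeff x = 0) (hy : PowerSeries.constantCoeff y = 0) :
    ∃ γ : MvPowerSeries (Fin 2) k →ₐ[k] PowerSeries k, γ (X 0) = x ∧ γ (X 1) = y := by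
  let a : Fin 2 → MvPowerSeries Unit k := ![x, y]
  have ha : HasSubst a := by
    apply hasSubst_of_constantCoeff_zero
    intro s
    fin_cases s
    · exact hx
    · exact hy
  refine ⟨substAlgHom (R := k) ha, ?_, ?_⟩
  · rw [substAlgHom_apply, subst_X ha]
    rfl
  · rw [substAlgHom_apply, subst_X ha]
    rfl

/-- Lifting an arc to the blow-up. -/
theorem exists_lift (y : PowerSeries k) (hy : γ (X 0) = γ (X 1) * y) :
    ∃ γ' : MvPowerSeries (Fin 2) k →ₐ[k] PowerSeries k,
      (∀ f, γ' (bl k (PowerSeries.constantCoeff y) one_pos one_pos f) = γ f) ∧ γ' (X 1) = γ (X 1) := by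
  obtain ⟨γ', h0, h1⟩ := exists_arc (y - PowerSeries.C (PowerSeries.constantCoeff y)) (γ (X 1))
    (by rw [map_sub, PowerSeries.constantCoeff_C, sub_self]) (by rw [constantCoeff_arc, constantCoeff_X])
  refine ⟨γ', fun f => ?_, h1⟩
  have h := hom_ext (γ'.comp (bl k (PowerSeries.constantCoeff y) one_pos one_pos)) γ ?_ ?_
  · exact DFunLike.congr_fun h f
  · rw [AlgHom.comp_apply, bl_X0, pow_one, map_mul, map_add, h0, h1, hy]
    have h2 : γ' (C (PowerSeries.constantCoeff y)) = PowerSeries.C (PowerSeries.constantCoeff y) :=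
      γ'.commutes _
    rw [h2]
    ring
  · rw [AlgHom.comp_apply, bl_X1, pow_one, h1]

end arcs

/-! ### Weighted limits -/

theorem Lk.of_mul {u : L} {φ φ' : ι → MvPowerSeries (Fin 2) k} {a : ι → k} {q : ℕ} (W : MvPowerSeries (Fin 2) k)
    (hW : W ≠ 0) (h : ∀ l, φ l = W * φ' l) (hlk : Lk u φ' a q) : Lk u φ a q := by
  obtain ⟨σ, n, p, v, h1, h2, h3, h4, h5, h6, h7, h8⟩ := hlk
  have hσW : σ W ≠ 0 := fun h0 => hW (h1 (by rw [h0, map_zero]))
  obtain ⟨m, hm, hm'⟩ := exists_order hσW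
  refine ⟨σ, m + n, p, PowerSeries.coeff m (σ W) * v, h1, h2, fun l j hj => ?_, mul_ne_zero hm h4, fun l => ?_, h6,
    h7, h8⟩
  · rw [h l, map_mul, coeff_mul_eq_zero hm' (h3 l) hj]
  · rw [h l, map_mul, coeff_mul_eq hm' (h3 l), h5 l, mul_assoc]

/-- The weighted limit for a line meeting the support from below. -/
theorem lk_of_weight {u : L} (hu : Transcendental k u) (φ : ι → MvPowerSeries (Fin 2) k) (a : ι → k)
    {α β n q : ℕ} (hα : 0 < α) (hβ : 0 < β) (hsup : ∀ z ∈ supp φ, n ≤ α * z.1 + β * z.2) (x : ℕ × ℕ)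
    (hxn : α * x.1 + β * x.2 = n) (hx : Prp a (cv φ x))
    (hline : ∀ z ∈ supp φ, α * z.1 + β * z.2 = n → x.1 ≤ z.1 ∧ z.1 ≤ x.1 + q)
    (y : ℕ × ℕ) (hy : y ∈ supp φ) (hyn : α * y.1 + β * y.2 = n) (hya : ¬ Prp a (cv φ y)) : Lk u φ a q := by
  have hu0 : u ≠ 0 := fun h => hu (h ▸ isAlgebraic_zero)
  let g : ι → Polynomial k := fun l => lead (φ l) α β n
  have hg0 : ∀ l, ∀ i < x.1, (g l).coeff i = 0 := by
    intro l i hi
    apply coeff_lead_eq_zero
    intro j hj
    apply cf_eq_zero_of_notMem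
    intro hmem
    have := (hline (i, j) hmem hj).1
    change x.1 ≤ i at this
    omega
  have hg1 : ∀ l, ∀ i, x.1 + q < i → (g l).coeff i = 0 := by
    intro l i hi
    apply coeff_lead_eq_zero
    intro j hj
    apply cf_eq_zero_of_notMem
    intro hmem
    have := (hline (i, j) hmem hj).2
    change i ≤ x.1 + q at this
    omega
  have hdvd : ∀ l, ∃ h : Polynomial k, g l = Polynomial.X ^ x.1 * h := fun l =>
    Polynomial.X_pow_dvd_iff.2 (hg0 l)
  choose h hh using hdvd
  have hcoeff : ∀ l i, (h l).coeff i = (g l).coeff (i + x.1) := by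
    intro l i
    rw [hh l, Polynomial.coeff_X_pow_mul]
  have hxy : x.1 ≤ y.1 := (hline y hy hyn).1
  refine ⟨sub k u hα hβ, n, h, u ^ x.1, sub_injective hu hα hβ,
    constantCoeff_sub u hα hβ, ?_, pow_ne_zero _ hu0, ?_, ?_, ?_, ?_⟩
  · intro l m hm
    rw [coeff_sub, lead_eq_zero_of_lt hsup hm, map_zero]
  · intro l
    rw [coeff_sub]
    change Polynomial.aeval u (g l) = _
    rw [hh l, map_mul, map_pow, Polynomial.aeval_X]
  · intro l
    rw [Polynomial.natDegree_le_iff_coeff_eq_zero]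
    intro i hi
    rw [hcoeff]
    exact hg1 l _ (by omega)
  · have : (fun l => (h l).coeff 0) = cv φ x := by
      funext l
      rw [hcoeff, zero_add]
      exact coeff_lead (φ l) hα hβ hxn
    rw [this]
    exact hx
  · refine ⟨y.1 - x.1, ?_⟩
    have : (fun l => (h l).coeff (y.1 - x.1)) = cv φ y := by
      funext l
      rw [hcoeff, Nat.sub_add_cancel hxy]
      exact coeff_lead (φ l) hα hβ hyn
    rw [this]
    exact ⟨hy, hya⟩

end K329.ArcLead
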