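import Groth.Agent.Curves.K329.Curve

/-!
# Limits along two arcs

`arc_limit`: the limit of a rational map along an arc `Spec k⟦t⟧ ⟶ Spec k⟦z,t⟧` in terms of coordinates.
`rc`: if the limits along the arcs `z = 0` and `z = t` differ, there is a rational curve through the first one.
-/

set_option autoImplicit false
universe u

open CategoryTheory AlgebraicGeometry IsLocalRing

namespace K329.ArcLim

open CohB1 K329.Pt K329.P1Gen K329.SubstWt K329.Link K329.TwoArcs K329.Prim K329.Limit K329.Curve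

variable {k : Type u} [Field k] {N : ℕ}

/-- The coordinates of the limit along an arc. -/
theorem arc_limit {X Y : Scheme.{u}} (pX : X ⟶ Spec (CommRingCat.of k)) (pY : Y ⟶ Spec (CommRingCat.of k))
    (ι : Y ⟶ ProjSpace N k) (hι : ι ≫ ProjSpace.toSpec N k = pY)
    (θ : Spec (CommRingCat.of (MvPowerSeries (Fin 2) k)) ⟶ X)
    (hθ : θ ≫ pX = Spec.map (CommRingCat.ofHom (algebraMap k (MvPowerSeries (Fin 2) k))))
    (U : X.Opens) (g : (U : Scheme.{u}) ⟶ Y) (hg : g ≫ pY = U.ι ≫ pX)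
    {K : Type u} [Field K] [Algebra k K]
    [Algebra (MvPowerSeries (Fin 2) k) K] [IsScalarTower k (MvPowerSeries (Fin 2) k) K]
    [IsFractionRing (MvPowerSeries (Fin 2) k) K] (m₀ : Spec (CommRingCat.of K) ⟶ (U : Scheme.{u}))
    (hm₀ : m₀ ≫ U.ι = Spec.map (CommRingCat.ofHom (algebraMap (MvPowerSeries (Fin 2) k) K)) ≫ θ)
    (φ : Fin (N + 1) → MvPowerSeries (Fin 2) k)
    (hprim : ∀ π : MvPowerSeries (Fin 2) k, MvPowerSeries.constantCoeff π = 0 → ¬ ∀ l, π ∣ φ l)
    (i₀ : Fin (N + 1)) (hi₀ : IsUnit (algebraMap (MvPowerSeries (Fin 2) k) K (φ i₀)))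
    (hφ : (m₀ ≫ g) ≫ ι = pt k (fun l => algebraMap (MvPowerSeries (Fin 2) k) K (φ l)) i₀ hi₀)
    (ρ : MvPowerSeries (Fin 2) k →ₐ[k] PowerSeries k) (hρ : IsArc ρ)
    {F : Type u} [Field F] [Algebra k F] (i : PowerSeries k →ₐ[k] F) (hi : Function.Injective i)
    (γ : Spec (CommRingCat.of F) ⟶ (U : Scheme.{u}))
    (hγ : γ ≫ U.ι = Spec.map (CommRingCat.ofHom (i : PowerSeries k →+* F)) ≫
      Spec.map (CommRingCat.ofHom (ρ : MvPowerSeries (Fin 2) k →+* PowerSeries k)) ≫ θ)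
    (β : Spec (CommRingCat.of (PowerSeries k)) ⟶ Y)
    (hβ : β ≫ pY = Spec.map (CommRingCat.ofHom (algebraMap k (PowerSeries k))))
    (hβγ : Spec.map (CommRingCat.ofHom (i : PowerSeries k →+* F)) ≫ β = γ ≫ g)
    (a : Fin (N + 1) → k) (ha : IsLead (fun l => ρ (φ l)) a) (i₁ : Fin (N + 1)) (hi₁ : IsUnit (a i₁)) :
    Spec.map (CommRingCat.ofHom (cc k k : PowerSeries k →+* k)) ≫ β ≫ ι = pt k a i₁ hi₁ := by
  let O := MvPowerSeries (Fin 2) k
  let P : Ideal O := RingHom.ker (ρ : O →+* PowerSeries k)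
  have hP : P.IsPrime := RingHom.ker_isPrime _
  have hPmem : ∀ x : O, x ∈ P ↔ ρ x = 0 := fun x => RingHom.mem_ker
  let B := Localization.AtPrime P
  have hle : P.primeCompl ≤ nonZeroDivisors O := P.primeCompl_le_nonZeroDivisors
  have hB : IsDomain B := IsLocalization.isDomain_of_le_nonZeroDivisors (M := P.primeCompl) _ hle
  have hOK : Function.Injective (algebraMap O K) := IsFractionRing.injective O K
  have hu : ∀ y : P.primeCompl, IsUnit ((IsScalarTower.toAlgHom k O K) y) := by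
    intro y
    refine isUnit_iff_ne_zero.2 ?_
    exact (map_ne_zero_iff _ hOK).2 (nonZeroDivisors.ne_zero (hle y.2))
  let ψ : B →ₐ[k] K := IsLocalization.liftAlgHom (M := P.primeCompl) (f := IsScalarTower.toAlgHom k O K) hu
  have hψ : ∀ p, ψ (algebraMap O B p) = algebraMap O K p := fun p =>
    IsLocalization.lift_eq (g := ((IsScalarTower.toAlgHom k O K : O →ₐ[k] K) : O →+* K)) _ p
  have hψinj : Function.Injective ψ := by
    rw [injective_iff_map_eq_zero]
    intro b hb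
    obtain ⟨⟨p, s⟩, hs⟩ := IsLocalization.surj P.primeCompl b
    have h1 := congrArg ψ hs
    rw [map_mul, hb, zero_mul, hψ] at h1
    have h2 : p = 0 := hOK (h1.symm.trans (map_zero _).symm)
    have h3 : IsUnit (algebraMap O B s) := IsLocalization.map_units B s
    rw [h2, map_zero] at hs
    exact (h3.mul_left_eq_zero).1 hs
  have hne : ∀ y : O, y ∉ P → i (ρ y) ≠ 0 := by
    intro y hy h0
    apply hy
    rw [hPmem]
    exact hi (h0.trans (map_zero i).symm)
  have hv : ∀ y : P.primeCompl, IsUnit ((i.comp ρ) y) := fun y => isUnit_iff_ne_zero.2 (hne y y.2)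
  let χ : B →ₐ[k] F := IsLocalization.liftAlgHom (M := P.primeCompl) (f := i.comp ρ) hv
  have hχ : ∀ p, χ (algebraMap O B p) = i (ρ p) := fun p =>
    IsLocalization.lift_eq (g := ((i.comp ρ : O →ₐ[k] F) : O →+* F)) _ p
  have hχloc : IsLocalHom (χ : B →+* F) := by
    refine ⟨fun b hb => ?_⟩
    obtain ⟨⟨p, s⟩, hs⟩ := IsLocalization.surj P.primeCompl b
    have h3 : IsUnit (algebraMap O B s) := IsLocalization.map_units B s
    have h4 : IsUnit (χ (algebraMap O B p)) := by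
      rw [← hs, map_mul]
      exact IsUnit.mul hb (h3.map χ)
    have h5 : p ∉ P := by
      intro hp
      rw [hχ, (hPmem p).1 hp, map_zero] at h4
      exact not_isUnit_zero h4
    have h6 : IsUnit (algebraMap O B p) := IsLocalization.map_units B (⟨p, h5⟩ : P.primeCompl)
    rw [← hs] at h6
    exact isUnit_of_mul_isUnit_left h6
  -- the local ring of the arc maps to `U`
  let θ' : Spec (CommRingCat.of B) ⟶ X := Spec.map (CommRingCat.ofHom (algebraMap O B)) ≫ θ
  have hχθ : Spec.map (CommRingCat.ofHom (χ : B →+* F)) ≫ θ' = γ ≫ U.ι := by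
    rw [hγ, ← Category.assoc, ← Category.assoc, ← Spec.map_comp, ← Spec.map_comp]
    congr 2
    refine CommRingCat.hom_ext (RingHom.ext fun x => ?_)
    exact hχ x
  have hψθ : Spec.map (CommRingCat.ofHom (ψ : B →+* K)) ≫ θ' = m₀ ≫ U.ι := by
    rw [hm₀, ← Category.assoc, ← Spec.map_comp]
    congr 2
    refine CommRingCat.hom_ext (RingHom.ext fun x => ?_)
    exact hψ x
  have hr : Set.range θ' ⊆ Set.range U.ι := by
    have h1 : θ' (closedPoint B) ∈ Set.range U.ι := by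
      have h2 : Spec.map (CommRingCat.ofHom (χ : B →+* F)) (closedPoint F) = closedPoint B :=
        IsLocalRing.comap_closedPoint (χ : B →+* F)
      rw [← h2, ← Scheme.Hom.comp_apply, hχθ]
      exact ⟨γ (closedPoint F), rfl⟩
    rintro _ ⟨y, rfl⟩
    have h3 : y ⤳ closedPoint B := IsLocalRing.specializes_closedPoint y
    exact (h3.map θ'.continuous).mem_open (IsOpenImmersion.isOpen_range _) h1
  let m : Spec (CommRingCat.of B) ⟶ (U : Scheme.{u}) := IsOpenImmersion.lift U.ι θ' hr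
  have hm : m ≫ U.ι = θ' := IsOpenImmersion.lift_fac _ _ _
  have hmK : Spec.map (CommRingCat.ofHom (ψ : B →+* K)) ≫ m = m₀ := by
    rw [← cancel_mono U.ι, Category.assoc, hm, hψθ]
  have hmF : Spec.map (CommRingCat.ofHom (χ : B →+* F)) ≫ m = γ := by
    rw [← cancel_mono U.ι, Category.assoc, hm, hχθ]
  have hmk : ((m ≫ g) ≫ ι) ≫ ProjSpace.toSpec N k = Spec.map (CommRingCat.ofHom (algebraMap k B)) := by
    rw [Category.assoc, hι, Category.assoc, hg, ← Category.assoc, hm, Category.assoc, hθ, ← Spec.map_comp]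
    congr 1
  obtain ⟨b, jb, hjb, hb⟩ := exists_pt k ((m ≫ g) ≫ ι) hmk
  have hK : pt k (fun l => ψ (b l)) jb (hjb.map ψ) =
      pt k (fun l => algebraMap O K (φ l)) i₀ hi₀ := by
    rw [← hφ, ← hmK, ← map_pt k ψ b jb hjb, ← hb]
    simp only [Category.assoc]
  obtain ⟨v, hv0, hv⟩ := exists_smul_of_pt_eq k _ _ hK
  obtain ⟨p, q, hpq, hred⟩ := exists_reduced (k := k) v
  obtain ⟨π, hπ0, hπ1, hπ2⟩ := hρ
  have hrel : ∀ l, algebraMap O B q * algebraMap O B (φ l) = algebraMap O B p * b l := by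
    intro l
    apply hψinj
    rw [map_mul, map_mul, hψ, hψ, hψ, hv l, ← hpq]
    ring
  have hrel' : ∀ l, i (ρ q) * i (ρ (φ l)) = i (ρ p) * χ (b l) := by
    intro l
    have h1 := congrArg χ (hrel l)
    rw [map_mul, map_mul, hχ, hχ, hχ] at h1
    exact h1
  have hp : p ∉ P := by
    intro hp
    have hq : q ∉ P := fun hq => hred π hπ0 ⟨hπ2 p ((hPmem p).1 hp), hπ2 q ((hPmem q).1 hq)⟩
    obtain ⟨l, hl⟩ := exists_ne_zero_of_primitive ⟨π, hπ0, hπ1, hπ2⟩ hprim
    have h1 := hrel' l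
    rw [(hPmem p).1 hp, map_zero, zero_mul] at h1
    rcases mul_eq_zero.1 h1 with h2 | h2
    · exact hne q hq h2
    · exact hl (hi (h2.trans (map_zero i).symm))
  have hq : q ∉ P := by
    intro hq
    have h1 := hrel' jb
    rw [(hPmem q).1 hq, map_zero, zero_mul] at h1
    rcases mul_eq_zero.1 h1.symm with h2 | h2
    · exact hne p hp h2
    · exact (hjb.map χ).ne_zero h2
  obtain ⟨n, ha0, han, halt⟩ := ha
  replace han : ∀ l, PowerSeries.coeff n (ρ (φ l)) = a l := han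
  have hc : ∀ l, ∃ c : PowerSeries k, ρ (φ l) = PowerSeries.X ^ n * c ∧ PowerSeries.constantCoeff c = a l := by
    intro l
    have h1 : (PowerSeries.X : PowerSeries k) ^ n ∣ ρ (φ l) := by
      rw [PowerSeries.X_pow_dvd_iff]
      exact fun m hm => halt m hm l
    obtain ⟨c, hc⟩ := h1
    refine ⟨c, hc, ?_⟩
    rw [← han l, hc, ← PowerSeries.coeff_zero_eq_constantCoeff_apply]
    have := PowerSeries.coeff_X_pow_mul c n 0
    rw [zero_add] at this
    exact this.symm
  choose c hc1 hc2 using hc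
  have hci : IsUnit (PowerSeries.constantCoeff (c i₁)) := by rwa [hc2]
  have hXn : i (PowerSeries.X ^ n) ≠ 0 :=
    (map_ne_zero_iff _ hi).2 (pow_ne_zero _ PowerSeries.X_ne_zero)
  have h1 := (closed_of_generic (k := k) i hi (β ≫ ι) (by rw [Category.assoc, hι, hβ]) (fun l => χ (b l)) jb
    (hjb.map χ) (by
      rw [← Category.assoc, hβγ, ← hmF, ← map_pt k χ b jb hjb, ← hb]
      simp only [Category.assoc]) (i (ρ q) / i (ρ p) * i (PowerSeries.X ^ n)) c
    (isUnit_iff_ne_zero.2 (mul_ne_zero (div_ne_zero (hne q hq) (hne p hp)) hXn)) (fun l => by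
      have h2 := hrel' l
      rw [hc1, map_mul] at h2
      have h3 := hne p hp
      field_simp
      linear_combination -h2) i₁ hci).2
  rw [h1]
  congr 1
  funext l
  exact hc2 l

/-- **Limits along two arcs**: if the limits of a rational map along the arcs `z = 0` and `z = t` differ, then there is
a rational curve through the first one, contracted by every morphism inverse to the rational map. -/
theorem rc {X Y : Scheme.{u}} (pX : X ⟶ Spec (CommRingCat.of k)) (pY : Y ⟶ Spec (CommRingCat.of k)) [IsProper pY]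
    (ι : Y ⟶ ProjSpace N k) [Mono ι] (hι : ι ≫ ProjSpace.toSpec N k = pY)
    (θ : Spec (CommRingCat.of (MvPowerSeries (Fin 2) k)) ⟶ X)
    (hθ : θ ≫ pX = Spec.map (CommRingCat.ofHom (algebraMap k (MvPowerSeries (Fin 2) k))))
    (U : X.Opens) (g : (U : Scheme.{u}) ⟶ Y) (hg : g ≫ pY = U.ι ≫ pX)
    {F : Type u} [Field F] [Algebra k F] (i : PowerSeries k →ₐ[k] F) (hi : Function.Injective i)
    (γ γ' : Spec (CommRingCat.of F) ⟶ (U : Scheme.{u}))
    (hγ : γ ≫ U.ι = Spec.map (CommRingCat.ofHom (i : PowerSeries k →+* F)) ≫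
      Spec.map (CommRingCat.ofHom (pz k : MvPowerSeries (Fin 2) k →+* PowerSeries k)) ≫ θ)
    (hγ' : γ' ≫ U.ι = Spec.map (CommRingCat.ofHom (i : PowerSeries k →+* F)) ≫
      Spec.map (CommRingCat.ofHom (pzt k : MvPowerSeries (Fin 2) k →+* PowerSeries k)) ≫ θ)
    (β β' : Spec (CommRingCat.of (PowerSeries k)) ⟶ Y)
    (hβ : β ≫ pY = Spec.map (CommRingCat.ofHom (algebraMap k (PowerSeries k))))
    (hβ' : β' ≫ pY = Spec.map (CommRingCat.ofHom (algebraMap k (PowerSeries k))))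
    (hβγ : Spec.map (CommRingCat.ofHom (i : PowerSeries k →+* F)) ≫ β = γ ≫ g)
    (hβγ' : Spec.map (CommRingCat.ofHom (i : PowerSeries k →+* F)) ≫ β' = γ' ≫ g)
    (hne : β (closedPoint (PowerSeries k)) ≠ β' (closedPoint (PowerSeries k))) :
    ∃ r : ProjSpace 1 k ⟶ Y, r ≫ pY = ProjSpace.toSpec 1 k ∧ (¬ ∃ y : Y, Set.range r.base ⊆ {y}) ∧
      β (closedPoint (PowerSeries k)) ∈ Set.range r.base ∧
      ∀ [IsSeparated pX] (f : Y ⟶ X), f ≫ pX = pY → g ≫ f = U.ι →
        r ≫ f = ProjSpace.toSpec 1 k ≫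
          Spec.map (CommRingCat.ofHom (cc2 k : MvPowerSeries (Fin 2) k →+* k)) ≫ θ := by
  let O := MvPowerSeries (Fin 2) k
  let K := FractionRing O
  -- the generic point
  let η : Spec (CommRingCat.of K) ⟶ X := Spec.map (CommRingCat.ofHom (algebraMap O K)) ≫ θ
  have hOK : Function.Injective (algebraMap O K) := IsFractionRing.injective O K
  have hr : Set.range η ⊆ Set.range U.ι := by
    have h1 : θ (Spec.map (CommRingCat.ofHom (pz k : O →+* PowerSeries k))
        (Spec.map (CommRingCat.ofHom (i : PowerSeries k →+* F)) (closedPoint F))) ∈ Set.range U.ι := by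
      rw [← Scheme.Hom.comp_apply, ← Scheme.Hom.comp_apply, ← hγ]
      exact ⟨γ (closedPoint F), rfl⟩
    rintro _ ⟨y, rfl⟩
    have h2 : Spec.map (CommRingCat.ofHom (algebraMap O K)) y ⤳
        Spec.map (CommRingCat.ofHom (pz k : O →+* PowerSeries k))
        (Spec.map (CommRingCat.ofHom (i : PowerSeries k →+* F)) (closedPoint F)) := by
      refine (PrimeSpectrum.le_iff_specializes _ _).1 ?_
      intro x hx
      have h3 : algebraMap O K x ∈ y.asIdeal := hx
      have h4 : x = 0 := by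
        by_contra hx0
        have h5 : algebraMap O K x ≠ 0 := (map_ne_zero_iff _ hOK).2 hx0
        exact y.2.ne_top (Ideal.eq_top_of_isUnit_mem _ h3 (isUnit_iff_ne_zero.2 h5))
      rw [h4]
      exact zero_mem _
    exact (h2.map θ.continuous).mem_open (IsOpenImmersion.isOpen_range _) h1
  let m₀ : Spec (CommRingCat.of K) ⟶ (U : Scheme.{u}) := IsOpenImmersion.lift U.ι η hr
  have hm₀ : m₀ ≫ U.ι = η := IsOpenImmersion.lift_fac _ _ _
  let κ : Spec (CommRingCat.of K) ⟶ Y := m₀ ≫ g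
  have hκ : κ ≫ pY = Spec.map (CommRingCat.ofHom (algebraMap k K)) := by
    rw [Category.assoc, hg, ← Category.assoc, hm₀, Category.assoc, hθ, ← Spec.map_comp]
    congr 1
  obtain ⟨b, jb, hjb, hb⟩ := exists_pt k (κ ≫ ι) (by rw [Category.assoc, hι, hκ])
  obtain ⟨v, φ, hv, hvφ, hprim⟩ := exists_primitive_of_fraction (k := k) b jb hjb.ne_zero
  have hi₀ : IsUnit (algebraMap O K (φ jb)) := by
    rw [hvφ]
    exact (isUnit_iff_ne_zero.2 hv).mul hjb
  have hφ : κ ≫ ι = pt k (fun l => algebraMap O K (φ l)) jb hi₀ := by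
    rw [hb]
    exact (pt_smul k v (isUnit_iff_ne_zero.2 hv) b jb hjb _ hvφ jb hi₀).symm
  obtain ⟨l, hl⟩ := exists_ne_zero_of_primitive isArc_pz hprim
  obtain ⟨l', hl'⟩ := exists_ne_zero_of_primitive isArc_pzt hprim
  obtain ⟨a, ha⟩ := exists_isLead (fun l => pz k (φ l)) l hl
  obtain ⟨a', ha'⟩ := exists_isLead (fun l => pzt k (φ l)) l' hl'
  have hunit : ∀ {a : Fin (N + 1) → k}, a ≠ 0 → ∃ j, IsUnit (a j) := by
    intro a ha
    by_contra hcon
    push Not at hcon
    apply ha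
    funext j
    by_contra h
    exact hcon j (isUnit_iff_ne_zero.2 h)
  obtain ⟨i₁, hi₁⟩ : ∃ j, IsUnit (a j) := by
    obtain ⟨_, h0, -⟩ := ha
    exact hunit h0
  obtain ⟨i₂, hi₂⟩ : ∃ j, IsUnit (a' j) := by
    obtain ⟨_, h0, -⟩ := ha'
    exact hunit h0
  have h1 := arc_limit pX pY ι hι θ hθ U g hg m₀ hm₀ φ hprim jb hi₀ hφ (pz k) isArc_pz i hi γ hγ β hβ hβγ a ha
    i₁ hi₁
  have h2 := arc_limit pX pY ι hι θ hθ U g hg m₀ hm₀ φ hprim jb hi₀ hφ (pzt k) isArc_pzt i hi γ' hγ' β' hβ' hβγ'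
    a' ha' i₂ hi₂
  have hcl : Spec.map (CommRingCat.ofHom (cc k k : PowerSeries k →+* k)) (closedPoint k) =
      closedPoint (PowerSeries k) := by
    have hloc : IsLocalHom (cc k k : PowerSeries k →+* k) := by
      refine ⟨fun b hb => ?_⟩
      exact PowerSeries.isUnit_iff_constantCoeff.2 hb
    exact IsLocalRing.comap_closedPoint (cc k k : PowerSeries k →+* k)
  have hnprp : ¬ Prp a a' := by
    rintro ⟨c, hc, hca⟩
    apply hne
    have h3 : pt k a' i₂ hi₂ = pt k a i₁ hi₁ :=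
      pt_smul k c (isUnit_iff_ne_zero.2 hc) a i₁ hi₁ a' (fun l => congrFun hca l) i₂ hi₂
    rw [← h1, ← h2, ← Category.assoc, ← Category.assoc, cancel_mono] at h3
    rw [← hcl, ← Scheme.Hom.comp_apply, ← Scheme.Hom.comp_apply, h3]
  obtain ⟨q, hq⟩ := lk_of_two_arcs (k := k) (L := RatFunc k) (u := RatFunc.X) (RatFunc.transcendental_X) φ ha ha'
    (exists_pt_ne_zero_of_primitive hprim) hnprp
  obtain ⟨r, h, j, hj, hr1, hr2, hr3, hr4, hr5, hr6⟩ := exists_curve pY ι hι κ hκ φ jb hi₀ hφ a q hq i₁ hi₁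
  refine ⟨r, hr1, hr4, ?_, ?_⟩
  · rw [← h1, ← Category.assoc, ← Category.assoc, cancel_mono] at hr5
    rw [← hcl, ← Scheme.Hom.comp_apply, ← hr5]
    exact ⟨pt1 k (0 : k) (closedPoint k), rfl⟩
  · intro hsep f hf hgf
    refine hr6 pX f hf θ hθ ?_
    rw [Category.assoc, hgf, hm₀]

end K329.ArcLim
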