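import Groth.Agent.Ega4B.Arc
import Mathlib.AlgebraicGeometry.AlgClosed.Basic
import Mathlib.AlgebraicGeometry.FunctionField
import Mathlib.AlgebraicGeometry.Noetherian
import Mathlib.AlgebraicGeometry.Morphisms.FiniteType
import Mathlib.RingTheory.LaurentSeries

/-!
# Arcs in schemes of finite type over an algebraically closed field

`exists_arc_through`: an arc `Spec k⟦t⟧ ⟶ Γ` through a given closed point of an integral scheme with generic point in a
given nonempty open subset.
-/

set_option autoImplicit false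
universe u
open CategoryTheory AlgebraicGeometry IsLocalRing

namespace K329.ArcThrough

variable (k : Type u) [Field k]

/-- the inclusion of power series in Laurent series -/
noncomputable def toL : PowerSeries k →ₐ[k] LaurentSeries k :=
  { HahnSeries.ofPowerSeries ℤ k with
    commutes' := fun _ => rfl }

lemma toL_injective : Function.Injective (toL k) := HahnSeries.ofPowerSeries_injective

/-- the `k`-algebra structure of the stalks of a `k`-scheme -/
@[reducible] noncomputable def stalkAlgebra {X : Scheme.{u}} (g : X ⟶ Spec (CommRingCat.of k))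
    (x : X) : Algebra k (X.presheaf.stalk x) :=
  (Spec.preimage (X.fromSpecStalk x ≫ g) : CommRingCat.of k ⟶ X.presheaf.stalk x).hom.toAlgebra

lemma fromSpecStalk_comp {X : Scheme.{u}} (g : X ⟶ Spec (CommRingCat.of k)) (x : X) :
    letI := stalkAlgebra k g x
    X.fromSpecStalk x ≫ g = Spec.map (CommRingCat.ofHom (algebraMap k (X.presheaf.stalk x))) := by
  let := stalkAlgebra k g x
  exact (Spec.map_preimage (X.fromSpecStalk x ≫ g)).symm

variable [IsAlgClosed k]

lemma isAlgebraic_residueField {X : Scheme.{u}} (g : X ⟶ Spec (CommRingCat.of k))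
    [LocallyOfFiniteType g] (x : X) (hx : IsClosed {x}) :
    letI := stalkAlgebra k g x
    Algebra.IsAlgebraic k (ResidueField (X.presheaf.stalk x)) := by
  let := stalkAlgebra k g x
  have h1 : (Spec.preimage (X.fromSpecStalk x ≫ g) : CommRingCat.of k ⟶ X.presheaf.stalk x) ≫
      X.residue x = (residueFieldIsoBase g x hx).inv := by
    apply Spec.map_injective
    rw [SpecMap_residueFieldIsoBase_inv, Spec.map_comp, Spec.map_preimage, ← Category.assoc]
    rfl
  have h2 : Function.Surjective (algebraMap k (ResidueField (X.presheaf.stalk x))) := by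
    have h3 : Function.Surjective (residueFieldIsoBase g x hx).inv.hom :=
      (ConcreteCategory.bijective_of_isIso (residueFieldIsoBase g x hx).inv).2
    rw [← h1] at h3
    exact h3
  exact ⟨fun z => by
    obtain ⟨c, rfl⟩ := h2 z
    exact isAlgebraic_algebraMap c⟩

/-- An arc through a closed point with generic point in a nonempty open subset. -/
theorem exists_arc_through {Γ : Scheme.{u}} [IsIntegral Γ] (pΓ : Γ ⟶ Spec (CommRingCat.of k))
    [LocallyOfFiniteType pΓ] (y : Γ) (hy : IsClosed ({y} : Set Γ)) (W : Γ.Opens) (hW : (W : Set Γ).Nonempty) :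
    ∃ β : Spec (CommRingCat.of (PowerSeries k)) ⟶ Γ,
      β ≫ pΓ = Spec.map (CommRingCat.ofHom (algebraMap k (PowerSeries k))) ∧ β (closedPoint (PowerSeries k)) = y ∧
      Set.range (Spec.map (CommRingCat.ofHom (toL k : PowerSeries k →+* LaurentSeries k)) ≫ β) ⊆ Set.range W.ι := by
  let := stalkAlgebra k pΓ y
  have hNoeth : IsLocallyNoetherian Γ := LocallyOfFiniteType.isLocallyNoetherian pΓ
  have : IsNoetherianRing (Γ.presheaf.stalk y) := inferInstance
  have halg := isAlgebraic_residueField k pΓ y hy
  have hopen : IsOpen ((Γ.fromSpecStalk y) ⁻¹' (Set.range W.ι)) :=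
    W.ι.isOpenEmbedding.isOpen_range.preimage (Γ.fromSpecStalk y).continuous
  have hη : genericPoint Γ ∈ (W : Set Γ) := by
    obtain ⟨w, hw⟩ := hW
    exact ((genericPoint_spec Γ).specializes trivial).mem_open W.2 hw
  have hyr : genericPoint Γ ∈ Set.range (Γ.fromSpecStalk y) := by
    rw [Scheme.range_fromSpecStalk]
    exact (genericPoint_spec Γ).specializes trivial
  obtain ⟨q, hq⟩ := hyr
  obtain ⟨_, ⟨a, rfl⟩, hqa, ha⟩ :=
    PrimeSpectrum.isTopologicalBasis_basic_opens.exists_subset_of_mem_open
      (show q ∈ (Γ.fromSpecStalk y) ⁻¹' (Set.range W.ι) by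
        change Γ.fromSpecStalk y q ∈ Set.range W.ι
        rw [hq, Scheme.Opens.range_ι]; exact hη) hopen
  have hanil : ¬ IsNilpotent a := by
    intro hn
    obtain ⟨n, hn⟩ := hn
    have : a ^ n ∉ q.asIdeal := fun h' => hqa (q.2.mem_of_pow_mem n h')
    rw [hn] at this
    exact this (q.asIdeal.zero_mem)
  obtain ⟨φ, hφa, hφ⟩ := Groth.Agent.Ega4B.Arc.exists_arc k (Γ.presheaf.stalk y) halg k a hanil
  refine ⟨Spec.map (CommRingCat.ofHom (φ : Γ.presheaf.stalk y →+* PowerSeries k)) ≫ Γ.fromSpecStalk y, ?_, ?_, ?_⟩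
  · rw [Category.assoc, fromSpecStalk_comp, ← Spec.map_comp]
    congr 1
    refine CommRingCat.hom_ext (RingHom.ext fun c => ?_)
    exact φ.commutes c
  · rw [Scheme.Hom.comp_apply]
    have h4 : Spec.map (CommRingCat.ofHom (φ : Γ.presheaf.stalk y →+* PowerSeries k))
      (closedPoint (PowerSeries k)) = closedPoint (Γ.presheaf.stalk y) := by
      have hloc : IsLocalHom (φ : Γ.presheaf.stalk y →+* PowerSeries k) := by
        refine ⟨fun b hb => ?_⟩
        by_contra hb'
        have h5 := hφ b hb'
        have h6 : IsUnit (PowerSeries.constantCoeff (φ b)) := hb.map _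
        rw [h5] at h6
        exact not_isUnit_zero h6
      exact IsLocalRing.comap_closedPoint (φ : Γ.presheaf.stalk y →+* PowerSeries k)
    rw [h4, Scheme.fromSpecStalk_closedPoint]
  · rintro _ ⟨w, rfl⟩
    rw [Scheme.Hom.comp_apply, Scheme.Hom.comp_apply]
    apply ha
    change a ∉ PrimeSpectrum.asIdeal _
    intro h0
    have h1 : toL k (φ a) ∈ w.asIdeal := h0
    have h2 : toL k (φ a) ≠ 0 := fun h3 => hφa (toL_injective k (by rw [h3, map_zero]))
    exact w.2.ne_top (Ideal.eq_top_of_isUnit_mem _ h1 (isUnit_iff_ne_zero.2 h2))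

end K329.ArcThrough
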