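import Groth.Agent.S0384
import Groth.Agent.CycB.ImageInt
import Groth.Agent.Curves.K329.ArcThrough
import Mathlib.AlgebraicGeometry.Morphisms.Immersion
import Mathlib.AlgebraicGeometry.Morphisms.Affine
import Mathlib.RingTheory.Spectrum.Prime.Noetherian

/-!
# Arcs lifting along a dominant morphism from an affine scheme

`exists_arc_over`: `B` a `k`-algebra of finite type, `π : Spec B ⟶ P`, `x` a closed point in the closure of the image of
`π`: there are a `k((t))`-point of `Spec B` and an arc `Spec k⟦t⟧ ⟶ P` through `x` extending its image.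
-/

set_option autoImplicit false
universe u
open CategoryTheory AlgebraicGeometry IsLocalRing

namespace K329.ArcOver

open K329.ArcThrough

variable {k : Type u} [Field k] [IsAlgClosed k]

theorem exists_arc_over_domain {B : Type u} [CommRing B] [IsDomain B] [Algebra k B] [Algebra.FiniteType k B]
    {P : Scheme.{u}} (pP : P ⟶ Spec (CommRingCat.of k)) [IsSeparated pP] [LocallyOfFiniteType pP] [QuasiCompact pP]
    (π : Spec (CommRingCat.of B) ⟶ P) (hπ : π ≫ pP = Spec.map (CommRingCat.ofHom (algebraMap k B)))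
    (x : P) (hx : IsClosed ({x} : Set P)) (hxc : x ∈ closure (Set.range π)) :
    ∃ (τ : B →ₐ[k] LaurentSeries k) (β : Spec (CommRingCat.of (PowerSeries k)) ⟶ P),
      β ≫ pP = Spec.map (CommRingCat.ofHom (algebraMap k (PowerSeries k))) ∧ β (closedPoint (PowerSeries k)) = x ∧
      Spec.map (CommRingCat.ofHom (toL k : PowerSeries k →+* LaurentSeries k)) ≫ β =
        Spec.map (CommRingCat.ofHom (τ : B →+* LaurentSeries k)) ≫ π := by
  have hft : LocallyOfFiniteType (π ≫ pP) := by
    rw [hπ]
    have h1 : (algebraMap k B).FiniteType := RingHom.finiteType_algebraMap.2 inferInstance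
    exact (HasRingHomProperty.Spec_iff (P := @LocallyOfFiniteType)).2 h1
  have hft' : LocallyOfFiniteType π := locallyOfFiniteType_of_comp π pP
  have hsep : IsSeparated (π ≫ pP) := by rw [hπ]; infer_instance
  have hsep' : IsSeparated π := IsSeparated.of_comp π pP
  have hqc : QuasiCompact (π ≫ pP) := by rw [hπ]; infer_instance
  have hqc' : QuasiCompact π := QuasiCompact.of_comp π pP
  have hPc : CompactSpace P := QuasiCompact.compactSpace_of_compactSpace pP
  have hPq : QuasiSeparatedSpace P := quasiSeparatedSpace_of_quasiSeparated pP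
  obtain ⟨Xc, j, g, hj, hjq, hg, hjg⟩ := Groth.Agent.S0384.result π
  have hBi : IsIntegral (Spec (CommRingCat.of B)) := inferInstance
  have hΓ : IsIntegral j.image := Groth.Agent.CycB.ImageInt.isIntegral_image j
  let i := j.imageι
  let j' := j.toImage
  have hj' : j' ≫ i = j := j.toImage_imageι
  let pΓ := i ≫ g ≫ pP
  have hlft : LocallyOfFiniteType pΓ := inferInstance
  have hprop : IsProper (i ≫ g) := inferInstance
  have hJ : JacobsonSpace j.image := LocallyOfFiniteType.jacobsonSpace pΓ
  have hxr : x ∈ Set.range (i ≫ g) := by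
    have h1 : IsClosed (Set.range (i ≫ g)) := (i ≫ g).isClosedMap.isClosed_range
    refine (closure_minimal ?_ h1) hxc
    rintro _ ⟨b, rfl⟩
    refine ⟨j' b, ?_⟩
    rw [← Scheme.Hom.comp_apply, ← Category.assoc, hj', hjg]
  obtain ⟨z, hz⟩ := hxr
  obtain ⟨y, hy1, hy2⟩ := nonempty_inter_closedPoints (X := j.image) (Z := (i ≫ g) ⁻¹' {x})
    ⟨z, hz⟩ ((hx.preimage (i ≫ g).continuous).isLocallyClosed)
  have hWne : (j'.opensRange : Set j.image).Nonempty := by
    obtain ⟨b⟩ : Nonempty (Spec (CommRingCat.of B)) := inferInstance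
    exact ⟨j' b, ⟨b, rfl⟩⟩
  obtain ⟨β₀, hβ1, hβ2, hβ3⟩ := exists_arc_through k pΓ y hy2 j'.opensRange hWne
  rw [Scheme.Opens.range_ι] at hβ3
  let m : Spec (CommRingCat.of (LaurentSeries k)) ⟶ j.image :=
    Spec.map (CommRingCat.ofHom (toL k : PowerSeries k →+* LaurentSeries k)) ≫ β₀
  let l : Spec (CommRingCat.of (LaurentSeries k)) ⟶ Spec (CommRingCat.of B) := IsOpenImmersion.lift j' m hβ3
  have hl : l ≫ j' = m := IsOpenImmersion.lift_fac _ _ _
  let τ₀ : B →+* LaurentSeries k := (Spec.preimage l).hom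
  have hτ₀ : Spec.map (CommRingCat.ofHom τ₀) = l := Spec.map_preimage l
  have hjig : j' ≫ i ≫ g = π := by rw [← Category.assoc, hj', hjg]
  have hm : l ≫ π = m ≫ i ≫ g := by rw [← hl, Category.assoc, hjig]
  have hβP : (β₀ ≫ i ≫ g) ≫ pP = Spec.map (CommRingCat.ofHom (algebraMap k (PowerSeries k))) := by
    rw [← hβ1]
    simp only [pΓ, Category.assoc]
  have hτ : τ₀.comp (algebraMap k B) = algebraMap k (LaurentSeries k) := by
    have h1 : CommRingCat.ofHom (algebraMap k B) ≫ CommRingCat.ofHom τ₀ =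
        CommRingCat.ofHom (algebraMap k (LaurentSeries k)) := by
      apply Spec.map_injective
      rw [Spec.map_comp, hτ₀, ← hπ, ← Category.assoc, hm]
      simp only [m, Category.assoc] at hβP ⊢
      rw [hβP, ← Spec.map_comp]
      congr 1
    exact congrArg CommRingCat.Hom.hom h1
  let τ : B →ₐ[k] LaurentSeries k := { τ₀ with commutes' := fun c => congrArg (fun f => f c) hτ }
  refine ⟨τ, β₀ ≫ i ≫ g, hβP, ?_, ?_⟩
  · rw [Scheme.Hom.comp_apply, hβ2]
    exact hy1
  · rw [← Category.assoc]
    change m ≫ i ≫ g = Spec.map (CommRingCat.ofHom τ₀) ≫ π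
    rw [hτ₀, hm]

/-- The same for an arbitrary `k`-algebra of finite type. -/
theorem exists_arc_over {B : Type u} [CommRing B] [Algebra k B] [Algebra.FiniteType k B]
    {P : Scheme.{u}} (pP : P ⟶ Spec (CommRingCat.of k)) [IsSeparated pP] [LocallyOfFiniteType pP] [QuasiCompact pP]
    (π : Spec (CommRingCat.of B) ⟶ P) (hπ : π ≫ pP = Spec.map (CommRingCat.ofHom (algebraMap k B)))
    (x : P) (hx : IsClosed ({x} : Set P)) (hxc : x ∈ closure (Set.range π)) :
    ∃ (τ : B →ₐ[k] LaurentSeries k) (β : Spec (CommRingCat.of (PowerSeries k)) ⟶ P),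
      β ≫ pP = Spec.map (CommRingCat.ofHom (algebraMap k (PowerSeries k))) ∧ β (closedPoint (PowerSeries k)) = x ∧
      Spec.map (CommRingCat.ofHom (toL k : PowerSeries k →+* LaurentSeries k)) ≫ β =
        Spec.map (CommRingCat.ofHom (τ : B →+* LaurentSeries k)) ≫ π := by
  have hB : IsNoetherianRing B := Algebra.FiniteType.isNoetherianRing k B
  have hfin : (minimalPrimes B).Finite := minimalPrimes.finite_of_isNoetherianRing B
  -- the image is the union of the images of the components
  have h1 : Set.range π ⊆ ⋃ p ∈ minimalPrimes B,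
      Set.range (Spec.map (CommRingCat.ofHom (Ideal.Quotient.mk p)) ≫ π) := by
    rintro _ ⟨y, rfl⟩
    obtain ⟨p, hp, hpy⟩ := Ideal.exists_minimalPrimes_le (I := ⊥) (J := y.asIdeal) bot_le
    refine Set.mem_biUnion hp ?_
    have h2 : y ∈ Set.range (Spec.map (CommRingCat.ofHom (Ideal.Quotient.mk p))) := by
      have h3 : y ∈ Set.range (PrimeSpectrum.comap (Ideal.Quotient.mk p)) := by
        rw [range_comap_of_surjective _ _ Ideal.Quotient.mk_surjective, Ideal.mk_ker]
        exact hpy
      exact h3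
    obtain ⟨z, hz⟩ := h2
    exact ⟨z, by rw [Scheme.Hom.comp_apply, hz]⟩
  have h2 := closure_mono h1 hxc
  rw [hfin.closure_biUnion] at h2
  obtain ⟨p, hp, hxp⟩ := Set.mem_iUnion₂.1 h2
  have hprime : p.IsPrime := hp.1.1
  obtain ⟨τ, β, h3, h4, h5⟩ := exists_arc_over_domain (B := B ⧸ p) pP
    (Spec.map (CommRingCat.ofHom (Ideal.Quotient.mk p)) ≫ π) (by
      rw [Category.assoc, hπ, ← Spec.map_comp]; rfl) x hx hxp
  refine ⟨τ.comp (Ideal.Quotient.mkₐ k p), β, h3, h4, ?_⟩
  rw [h5, ← Category.assoc, ← Spec.map_comp]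
  rfl

end K329.ArcOver
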