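import Groth.Agent.Curves.K329.ArcLead
import Mathlib.LinearAlgebra.Dimension.Constructions
import Mathlib.LinearAlgebra.FiniteDimensional.Lemmas
import Mathlib.RingTheory.Ideal.Quotient.Operations

/-!
# The colength of two power series above a line

`colength`: if the supports of `f` and `g` lie in `α i + δ j ≥ α δ`, then `dim R / (f, g) ≥ α δ`.
-/

set_option autoImplicit false
universe u v

namespace K329.Colen

open MvPowerSeries K329.SubstWt K329.BlowSub K329.ArcLead

variable {k : Type u} [Field k]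

/-- The ideal of the power series of weighted order at least `m`. -/
def wid (k : Type u) [Field k] (α δ m : ℕ) : Ideal (MvPowerSeries (Fin 2) k) where
  carrier := {F | ∀ d : Fin 2 →₀ ℕ, coeff d F ≠ 0 → m ≤ α * d 0 + δ * d 1}
  zero_mem' := fun d hd => absurd (map_zero _) hd
  add_mem' := by
    intro F G hF hG d hd
    rw [map_add] at hd
    by_cases h : coeff d F = 0
    · exact hG d fun h' => hd (by rw [h, h', add_zero])
    · exact hF d h
  smul_mem' := by
    classical
    intro c F hF d hd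
    rw [smul_eq_mul, coeff_mul] at hd
    obtain ⟨p, hp, hne⟩ := Finset.exists_ne_zero_of_sum_ne_zero hd
    have h1 := hF p.2 (right_ne_zero_of_mul hne)
    have h2 := Finset.mem_antidiagonal.1 hp
    have h3 : p.1 0 + p.2 0 = d 0 := by rw [← h2]; rfl
    have h4 : p.1 1 + p.2 1 = d 1 := by rw [← h2]; rfl
    rw [← h3, ← h4]
    nlinarith [Nat.zero_le (α * p.1 0), Nat.zero_le (δ * p.1 1)]

lemma mem_wid {α δ m : ℕ} {F : MvPowerSeries (Fin 2) k} :
    F ∈ wid k α δ m ↔ ∀ x : ℕ × ℕ, cf F x ≠ 0 → m ≤ α * x.1 + δ * x.2 := by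
  constructor
  · intro h x hx
    exact h (idx x) hx
  · intro h d hd
    rw [← idx_surj d] at hd
    exact h _ hd

lemma wid_mul_le (α δ m m' : ℕ) : wid k α δ m * wid k α δ m' ≤ wid k α δ (m + m') := by
  classical
  rw [Ideal.mul_le]
  intro F hF G hG d hd
  rw [coeff_mul] at hd
  obtain ⟨p, hp, hne⟩ := Finset.exists_ne_zero_of_sum_ne_zero hd
  have h0 := hF p.1 (left_ne_zero_of_mul hne)
  have h1 := hG p.2 (right_ne_zero_of_mul hne)
  have h2 := Finset.mem_antidiagonal.1 hp
  have h3 : p.1 0 + p.2 0 = d 0 := by rw [← h2]; rfl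
  have h4 : p.1 1 + p.2 1 = d 1 := by rw [← h2]; rfl
  rw [← h3, ← h4]
  nlinarith

lemma wid_pow_le (α δ m n : ℕ) : wid k α δ m ^ n ≤ wid k α δ (n * m) := by
  induction n with
  | zero =>
    intro F _ d _
    rw [zero_mul]
    exact Nat.zero_le _
  | succ n ih =>
    rw [pow_succ, Nat.succ_mul]
    exact (Ideal.mul_mono_left ih).trans (wid_mul_le _ _ _ _)

/-- The index set: pairs of natural numbers of sum `< n`. -/
def T (n : ℕ) : Finset (Σ _ : ℕ, ℕ) := (Finset.range n).sigma fun m => Finset.range (m + 1)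

lemma card_T (n : ℕ) : 2 * (T n).card = n * (n + 1) := by
  rw [T, Finset.card_sigma]
  simp only [Finset.card_range]
  induction n with
  | zero => simp
  | succ n ih =>
    rw [Finset.sum_range_succ, mul_add, ih]
    ring

lemma mem_T {n : ℕ} {x : Σ _ : ℕ, ℕ} : x ∈ T n ↔ x.1 < n ∧ x.2 ≤ x.1 := by
  rw [T, Finset.mem_sigma, Finset.mem_range, Finset.mem_range, Nat.lt_succ_iff]

variable {R : Type v} [CommRing R] [Algebra k R]

/-- the spanning family -/
def fam {ℓ : ℕ} (f g : R) (v : Fin ℓ → R) (x : (Σ _ : ℕ, ℕ) × Fin ℓ) : R := f ^ x.1.2 * g ^ (x.1.1 - x.1.2) * v x.2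

lemma mem_span_sup {ℓ : ℕ} (f g : R) (v : Fin ℓ → R)
    (hv : ∀ x : R, ∃ c : Fin ℓ → k, ∃ y y' : R, x = ∑ i, c i • v i + f * y + g * y') (n : ℕ) : ∀ x : R,
    x ∈ Submodule.span k (fam f g v '' (T n ×ˢ (Finset.univ : Finset (Fin ℓ)) : Finset _)) ⊔
      (Ideal.span {f, g} ^ n).restrictScalars k := by
  induction n with
  | zero =>
    intro x
    refine Submodule.mem_sup_right ?_
    rw [pow_zero, Ideal.one_eq_top]
    exact Submodule.mem_top
  | succ n ih =>
    have hmul : ∀ (h : R) (_ : h ∈ Ideal.span {f, g})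
        (_ : ∀ x ∈ fam f g v '' (T n ×ˢ (Finset.univ : Finset (Fin ℓ)) : Finset _),
          h * x ∈ Submodule.span k (fam f g v '' (T (n + 1) ×ˢ (Finset.univ : Finset (Fin ℓ)) : Finset _)))
        (y : R), h * y ∈ Submodule.span k (fam f g v '' (T (n + 1) ×ˢ (Finset.univ : Finset (Fin ℓ)) : Finset _)) ⊔
      (Ideal.span {f, g} ^ (n + 1)).restrictScalars k := by
      intro h hh hgen y
      obtain ⟨a, ha, b, hb, rfl⟩ := Submodule.mem_sup.1 (ih y)
      rw [mul_add]
      refine Submodule.add_mem_sup ?_ ?_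
      · have h1 : Submodule.span k (fam f g v '' (T n ×ˢ (Finset.univ : Finset (Fin ℓ)) : Finset _)) ≤
            (Submodule.span k (fam f g v '' (T (n + 1) ×ˢ (Finset.univ : Finset (Fin ℓ)) : Finset _))).comap
              (LinearMap.mulLeft k h) := by
          rw [Submodule.span_le]
          intro x hx
          exact hgen x hx
        exact h1 ha
      · rw [Submodule.restrictScalars_mem] at hb ⊢
        rw [pow_succ']
        exact Ideal.mul_mem_mul hh hb
    intro x
    obtain ⟨c, y, y', hx⟩ := hv x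
    rw [hx]
    refine Submodule.add_mem _ (Submodule.add_mem _ ?_ ?_) ?_
    · refine Submodule.mem_sup_left (Submodule.sum_mem _ fun i _ => Submodule.smul_mem _ _ (Submodule.subset_span ?_))
      refine ⟨(⟨0, 0⟩, i), ?_, ?_⟩
      · rw [Finset.mem_coe, Finset.mem_product, mem_T]
        exact ⟨⟨Nat.succ_pos n, le_rfl⟩, Finset.mem_univ _⟩
      · simp [fam]
    · refine hmul f (Ideal.subset_span (by simp)) ?_ y
      rintro _ ⟨⟨⟨m, j⟩, i⟩, hmem, rfl⟩
      rw [Finset.mem_coe, Finset.mem_product, mem_T] at hmem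
      refine Submodule.subset_span ⟨(⟨m + 1, j + 1⟩, i), ?_, ?_⟩
      · rw [Finset.mem_coe, Finset.mem_product, mem_T]
        exact ⟨⟨by simp only at hmem ⊢; omega, by simp only at hmem ⊢; omega⟩, Finset.mem_univ _⟩
      · simp only [fam]
        rw [Nat.add_sub_add_right, pow_succ]
        ring
    · refine hmul g (Ideal.subset_span (by simp)) ?_ y'
      rintro _ ⟨⟨⟨m, j⟩, i⟩, hmem, rfl⟩
      rw [Finset.mem_coe, Finset.mem_product, mem_T] at hmem
      refine Submodule.subset_span ⟨(⟨m + 1, j⟩, i), ?_, ?_⟩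
      · rw [Finset.mem_coe, Finset.mem_product, mem_T]
        exact ⟨⟨by simp only at hmem ⊢; omega, by simp only at hmem ⊢; omega⟩, Finset.mem_univ _⟩
      · have h1 : m + 1 - j = (m - j) + 1 := by
          simp only at hmem
          omega
        simp only [fam]
        rw [h1, pow_succ]
        ring

lemma exists_basis_lift (J : Ideal R) [Module.Finite k (R ⧸ J)] :
    ∃ v : Fin (Module.finrank k (R ⧸ J)) → R, ∀ x : R, ∃ c : Fin (Module.finrank k (R ⧸ J)) → k,
      x - ∑ i, c i • v i ∈ J := by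
  let b := Module.finBasis k (R ⧸ J)
  have h : ∀ i, ∃ x : R, Ideal.Quotient.mk J x = b i := fun i => Ideal.Quotient.mk_surjective _
  choose v hv using h
  refine ⟨v, fun x => ⟨b.repr (Ideal.Quotient.mk J x), ?_⟩⟩
  rw [← Ideal.Quotient.eq_zero_iff_mem, map_sub, map_sum, sub_eq_zero]
  have h1 := b.sum_repr (Ideal.Quotient.mk J x)
  rw [← h1]
  refine Finset.sum_congr rfl fun i _ => ?_
  rw [← hv i]
  rw [h1]
  rfl

/-- the evaluation of coefficients -/
noncomputable def ev (θ : R →ₐ[k] MvPowerSeries (Fin 2) k) (P : Finset (ℕ × ℕ)) : R →ₗ[k] (P → k) where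
  toFun x p := cf (θ x) p.1
  map_add' x y := by
    funext p
    change coeff _ (θ (x + y)) = coeff _ (θ x) + coeff _ (θ y)
    rw [map_add, map_add]
  map_smul' c x := by
    funext p
    change coeff _ (θ (c • x)) = c • coeff _ (θ x)
    rw [map_smul, map_smul]

lemma ev_surjective (θ : R →ₐ[k] MvPowerSeries (Fin 2) k) (P : Finset (ℕ × ℕ)) (z t : R) (hz : θ z = X 0)
    (ht : θ t = X 1) : Function.Surjective (ev θ P) := by
  classical
  intro c
  refine ⟨∑ p, c p • (z ^ p.1.1 * t ^ p.1.2), ?_⟩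
  funext q
  rw [map_sum, Finset.sum_apply, Finset.sum_eq_single q]
  · rw [map_smul, Pi.smul_apply]
    change c q • cf (θ (z ^ q.1.1 * t ^ q.1.2)) q.1 = c q
    rw [map_mul, map_pow, map_pow, hz, ht, cf_monomial, if_pos rfl, smul_eq_mul, mul_one]
  · intro p _ hp
    rw [map_smul, Pi.smul_apply]
    change c p • cf (θ (z ^ p.1.1 * t ^ p.1.2)) q.1 = 0
    rw [map_mul, map_pow, map_pow, hz, ht, cf_monomial, if_neg (fun h => hp (Subtype.ext h.symm)), smul_zero]
  · intro h
    exact absurd (Finset.mem_univ _) h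

/-- the lattice points below the line -/
def pts (α δ n : ℕ) : Finset (ℕ × ℕ) :=
  ((T (n - 1) ×ˢ (Finset.range δ ×ˢ Finset.range α)).image fun x : (Σ _ : ℕ, ℕ) × (ℕ × ℕ) =>
    (δ * x.1.2 + x.2.1, α * (x.1.1 - x.1.2) + x.2.2))

lemma card_pts {α δ n : ℕ} : (pts α δ n).card = (T (n - 1)).card * (δ * α) := by
  rw [pts, Finset.card_image_of_injOn]
  · rw [Finset.card_product, Finset.card_product, Finset.card_range, Finset.card_range]
  · rintro ⟨⟨m, j⟩, ⟨r, s⟩⟩ h ⟨⟨m', j'⟩, ⟨r', s'⟩⟩ h' heq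
    rw [Finset.mem_coe, Finset.mem_product, Finset.mem_product, Finset.mem_range, Finset.mem_range, mem_T] at h h'
    simp only at h h'
    have h1 : δ * j + r = δ * j' + r' := congrArg Prod.fst heq
    have h2 : α * (m - j) + s = α * (m' - j') + s' := congrArg Prod.snd heq
    have aux : ∀ {d a b r r' : ℕ}, r < d → r' < d → d * a + r = d * b + r' → a = b ∧ r = r' := by
      intro d a b r r' hr hr' h
      have hd : 0 < d := by omega
      have e1 : (d * a + r) / d = a := by
        rw [Nat.mul_add_div hd, Nat.div_eq_of_lt hr, add_zero]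
      have e2 : (d * b + r') / d = b := by
        rw [Nat.mul_add_div hd, Nat.div_eq_of_lt hr', add_zero]
      have hab : a = b := by rw [← e1, h, e2]
      subst hab
      exact ⟨rfl, by omega⟩
    obtain ⟨rfl, rfl⟩ := aux h.2.1 h'.2.1 h1
    obtain ⟨h3, rfl⟩ := aux h.2.2 h'.2.2 h2
    obtain rfl : m = m' := by omega
    rfl

lemma lt_of_mem_pts {α δ n : ℕ} {p : ℕ × ℕ} (hp : p ∈ pts α δ n) : α * p.1 + δ * p.2 < n * (α * δ) := by
  rw [pts, Finset.mem_image] at hp
  obtain ⟨⟨⟨m, j⟩, ⟨r, s⟩⟩, h, rfl⟩ := hp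
  rw [Finset.mem_product, Finset.mem_product, Finset.mem_range, Finset.mem_range, mem_T] at h
  simp only at h ⊢
  obtain ⟨⟨h1, h2⟩, h3, h4⟩ := h
  obtain ⟨i, rfl⟩ : ∃ i, m = j + i := ⟨m - j, by omega⟩
  obtain ⟨c, rfl⟩ : ∃ c, n = j + i + 2 + c := ⟨n - (j + i + 2), by omega⟩
  rw [Nat.add_sub_cancel_left]
  have h5 : α * r < α * δ := Nat.mul_lt_mul_of_pos_left h3 (by omega)
  have h6 : δ * s < δ * α := Nat.mul_lt_mul_of_pos_left h4 (by omega)
  have h7 : 0 ≤ c * (α * δ) := Nat.zero_le _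
  nlinarith

/-- **The colength inequality.** -/
theorem colength (θ : R →ₐ[k] MvPowerSeries (Fin 2) k) (z t : R) (hz : θ z = X 0) (ht : θ t = X 1) (f g : R)
    (α δ : ℕ) (hf : ∀ x : ℕ × ℕ, cf (θ f) x ≠ 0 → α * δ ≤ α * x.1 + δ * x.2)
    (hg : ∀ x : ℕ × ℕ, cf (θ g) x ≠ 0 → α * δ ≤ α * x.1 + δ * x.2)
    [Module.Finite k (R ⧸ Ideal.span {f, g})] : α * δ ≤ Module.finrank k (R ⧸ Ideal.span {f, g}) := by
  classical
  have hb := exists_basis_lift (k := k) (Ideal.span {f, g})
  obtain ⟨ℓ, hℓ⟩ : ∃ ℓ, ℓ = Module.finrank k (R ⧸ Ideal.span {f, g}) := ⟨_, rfl⟩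
  rw [← hℓ] at hb ⊢
  obtain ⟨v, hv⟩ := hb
  have hv' : ∀ x : R, ∃ c : Fin ℓ → k, ∃ y y' : R,
      x = ∑ i, c i • v i + f * y + g * y' := by
    intro x
    obtain ⟨c, hc⟩ := hv x
    obtain ⟨y, y', h⟩ := Ideal.mem_span_pair.1 hc
    exact ⟨c, y, y', by rw [add_assoc, mul_comm f, mul_comm g, h]; ring⟩
  have key : ∀ n, (T (n - 1)).card * (δ * α) ≤ (T n).card * ℓ := by
    intro n
    have h1 := mem_span_sup f g v hv' n
    have h2 : Ideal.span {f, g} ^ n ≤ (wid k α δ (n * (α * δ))).comap (θ : R →+* MvPowerSeries (Fin 2) k) := by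
      rw [← Ideal.map_le_iff_le_comap, Ideal.map_pow]
      refine (Ideal.pow_right_mono ?_ n).trans (wid_pow_le α δ (α * δ) n)
      rw [Ideal.map_le_iff_le_comap, Ideal.span_le]
      rintro x (rfl | rfl)
      · exact mem_wid.2 hf
      · exact mem_wid.2 hg
    let W := Submodule.span k (fam f g v '' (T n ×ˢ (Finset.univ : Finset (Fin ℓ)) : Finset _))
    have h3 : Submodule.map (ev θ (pts α δ n)) W = ⊤ := by
      rw [eq_top_iff]
      intro c _
      obtain ⟨x, rfl⟩ := ev_surjective θ (pts α δ n) z t hz ht c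
      obtain ⟨a, ha, b, hb, rfl⟩ := Submodule.mem_sup.1 (h1 x)
      refine ⟨a, ha, ?_⟩
      rw [map_add, left_eq_add]
      funext p
      by_contra hne
      have h4 := mem_wid.1 (h2 hb) p.1 hne
      have h5 := lt_of_mem_pts p.2
      omega
    have h4 : Module.finrank k (pts α δ n → k) ≤ (T n).card * ℓ := by
      have h5 : Submodule.map (ev θ (pts α δ n)) W = Submodule.span k
          ((T n ×ˢ (Finset.univ : Finset (Fin ℓ))).image fun x => ev θ (pts α δ n) (fam f g v x) : Finset _) := by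
        rw [Submodule.map_span, Finset.coe_image, Set.image_image]
      have h6 := finrank_span_finset_le_card (R := k)
        ((T n ×ˢ (Finset.univ : Finset (Fin ℓ))).image fun x => ev θ (pts α δ n) (fam f g v x))
      rw [Set.finrank, ← h5, h3, finrank_top] at h6
      refine h6.trans (Finset.card_image_le.trans ?_)
      rw [Finset.card_product, Finset.card_univ, Fintype.card_fin]
    rw [Module.finrank_fintype_fun_eq_card, Fintype.card_coe, card_pts] at h4
    exact h4
  by_contra hcon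
  rw [not_le] at hcon
  have hpos : 0 < α * δ := by omega
  have h1 := key (2 * (α * δ))
  have h2 := card_T (2 * (α * δ))
  have h3 := card_T (2 * (α * δ) - 1)
  obtain ⟨e, he⟩ : ∃ e, α * δ = e + 1 := ⟨α * δ - 1, by omega⟩
  have hc : δ * α = e + 1 := by rw [mul_comm, he]
  rw [hc, he] at h1
  rw [he] at h2 h3 hcon
  have h4 : 2 * (e + 1) - 1 = 2 * e + 1 := by omega
  rw [h4] at h1 h3
  set c₁ := (T (2 * e + 1)).card
  set c₂ := (T (2 * (e + 1))).card
  have hl : ℓ ≤ e := by omega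
  have h5 : c₁ * (e + 1) ≤ c₂ * e := h1.trans (Nat.mul_le_mul_left _ hl)
  nlinarith

end K329.Colen
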