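import Groth.Agent.Curves.K329.Newton
import Groth.Agent.Curves.K329.Colen
import Mathlib.RingTheory.AdicCompletion.Noetherian

/-!
# The local inequality

`local_ineq`: in a regular local ring of dimension two with parameters `z, t` and a tuple `φ` of functions whose restriction
to `z = 0` is a multiple of the vector `a`: `δ · dim R/(z, f) ≤ dim R/(f, g)` for linear combinations `f`, `g` of the `φ l`
with `f(a) ≠ 0`, if all nonconstant limits through `a` have degree at least `δ`.
-/

set_option autoImplicit false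
universe u v w

namespace K329.LocIneq

open MvPowerSeries IsLocalRing K329.SubstWt K329.Link K329.TwoArcs K329.BlowSub K329.ArcLead K329.ClaimL

variable {k : Type u} [Field k] {R : Type v} [CommRing R] [Algebra k R] [IsLocalRing R]

lemma pz_X0 : pz k (X 0) = 0 := by
  apply PowerSeries.ext
  intro j
  rw [coeff_pz, map_zero]
  have := cf_monomial (k := k) (1, 0) (0, j)
  rw [pow_zero, pow_one, mul_one] at this
  rw [this, if_neg]
  intro h
  exact absurd (congrArg Prod.fst h) (by simp)

lemma pz_X1 : pz k (X 1) = PowerSeries.X := by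
  apply PowerSeries.ext
  intro j
  rw [coeff_pz]
  have := cf_monomial (k := k) (0, 1) (0, j)
  rw [pow_zero, pow_one, one_mul] at this
  rw [this, PowerSeries.coeff_X]
  by_cases h : j = 1
  · subst h; simp
  · rw [if_neg h, if_neg]
    intro h'
    exact h (congrArg Prod.snd h')

section chart

variable (θ : R →ₐ[k] MvPowerSeries (Fin 2) k) (z t : R) (hz : θ z = X 0) (ht : θ t = X 1)
  (hm : maximalIdeal R = Ideal.span {z, t})

include hz ht hm in
lemma constantCoeff_chart {r : R} (hr : r ∈ maximalIdeal R) : constantCoeff (θ r) = 0 := by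
  rw [hm] at hr
  obtain ⟨a, b, rfl⟩ := Ideal.mem_span_pair.1 hr
  rw [map_add, map_mul, map_mul, hz, ht, map_add, map_mul, map_mul, constantCoeff_X, constantCoeff_X, mul_zero,
    mul_zero, add_zero]

omit z t hz ht hm in
lemma mem_maximalIdeal_of {r : R} (hr : constantCoeff (θ r) = 0) : r ∈ maximalIdeal R := by
  rw [mem_maximalIdeal, mem_nonunits_iff]
  intro hu
  have := (hu.map θ).map (constantCoeff (σ := Fin 2) (R := k))
  rw [hr] at this
  exact not_isUnit_zero this

include hz ht hm in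
/-- Orders along `z = 0`. -/
lemma exists_of_X_pow_dvd (n : ℕ) : ∀ (r : R) (_ : PowerSeries.X ^ n ∣ pz k (θ r)), ∃ a b, r = z * a + t ^ n * b := by
  induction n with
  | zero => intro r _; exact ⟨0, r, by ring⟩
  | succ n ih =>
    intro r hr
    have h1 : constantCoeff (θ r) = 0 := by
      rw [← constantCoeff_pz, ← PowerSeries.X_dvd_iff]
      exact (dvd_pow_self _ (Nat.succ_ne_zero n)).trans hr
    have h2 := mem_maximalIdeal_of θ h1
    rw [hm] at h2
    obtain ⟨a, b, rfl⟩ := Ideal.mem_span_pair.1 h2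
    have h3 : PowerSeries.X ^ n ∣ pz k (θ b) := by
      rw [map_add, map_mul, map_mul, hz, ht, map_add, map_mul, map_mul, pz_X0, pz_X1, mul_zero, zero_add,
        pow_succ] at hr
      exact (mul_dvd_mul_iff_right PowerSeries.X_ne_zero).1 hr
    obtain ⟨a', b', hb⟩ := ih b h3
    refine ⟨a + t * a', b', ?_⟩
    rw [hb]
    ring

include hz ht hm in
lemma mem_span_z [IsNoetherianRing R] {r : R} (hr : pz k (θ r) = 0) : r ∈ Ideal.span {z} := by
  have h1 : IsHausdorff (maximalIdeal R) (R ⧸ Ideal.span {z}) := inferInstance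
  have h2 : (Ideal.Quotient.mk (Ideal.span {z}) r : R ⧸ Ideal.span {z}) = 0 := by
    refine IsHausdorff.haus h1 _ fun n => ?_
    rw [SModEq.zero]
    obtain ⟨a, b, hab⟩ := exists_of_X_pow_dvd θ z t hz ht hm n r (by rw [hr]; exact dvd_zero _)
    have h3 : (Ideal.Quotient.mk (Ideal.span {z}) r : R ⧸ Ideal.span {z}) =
        t ^ n • (Ideal.Quotient.mk (Ideal.span {z}) b : R ⧸ Ideal.span {z}) := by
      rw [hab, map_add, Ideal.Quotient.eq_zero_iff_mem.2 (Ideal.mul_mem_right a _ (Ideal.mem_span_singleton_self z)),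
        zero_add]
      rfl
    rw [h3]
    refine Submodule.smul_mem_smul (Ideal.pow_mem_pow ?_ n) trivial
    rw [hm]
    exact Ideal.subset_span (by simp)
  exact Ideal.Quotient.eq_zero_iff_mem.1 h2

include hz ht hm in
/-- The dimension of `R / (z, f)`. -/
lemma finrank_le (hres : ∀ r : R, ∃ c : k, r - algebraMap k R c ∈ maximalIdeal R) {f : R} {α : ℕ}
    (hα : PowerSeries.coeff α (pz k (θ f)) ≠ 0) (hα' : ∀ i < α, PowerSeries.coeff i (pz k (θ f)) = 0) :
    Module.finrank k (R ⧸ Ideal.span {z, f}) ≤ α := by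
  classical
  obtain ⟨a, b, hf⟩ := exists_of_X_pow_dvd θ z t hz ht hm α f (PowerSeries.X_pow_dvd_iff.2 hα')
  have hb : IsUnit b := by
    by_contra h
    apply hα
    have h1 := constantCoeff_chart θ z t hz ht hm ((mem_maximalIdeal b).2 h)
    rw [hf, map_add, map_mul, map_mul, map_pow, hz, ht, map_add, map_mul, map_mul, map_pow, pz_X0, pz_X1, zero_mul,
      zero_add]
    have h2 := PowerSeries.coeff_X_pow_mul (pz k (θ b)) α 0
    rw [zero_add] at h2
    rw [h2, PowerSeries.coeff_zero_eq_constantCoeff_apply, constantCoeff_pz, h1]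
  let I : Ideal R := Ideal.span {z, f}
  have htI : t ^ α ∈ I := by
    obtain ⟨c, hc⟩ := hb.exists_right_inv
    have h1 : t ^ α = c * f - (c * a) * z := by
      rw [hf]
      linear_combination (-t ^ α) * hc
    rw [h1]
    exact I.sub_mem (I.mul_mem_left _ (Ideal.subset_span (by simp))) (I.mul_mem_left _ (Ideal.subset_span (by simp)))
  have hzI : z ∈ I := Ideal.subset_span (by simp)
  -- expansions
  have hexp : ∀ (n : ℕ) (r : R), ∃ (c : ℕ → k) (a b : R),
      r = ∑ i ∈ Finset.range n, c i • t ^ i + z * a + t ^ n * b := by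
    intro n
    induction n with
    | zero => intro r; exact ⟨0, 0, r, by simp⟩
    | succ n ih =>
      intro r
      obtain ⟨c, a, b, hr⟩ := ih r
      obtain ⟨c', hc'⟩ := hres b
      rw [hm] at hc'
      obtain ⟨x, y, hxy⟩ := Ideal.mem_span_pair.1 hc'
      refine ⟨Function.update c n c', a + t ^ n * x, y, ?_⟩
      have h1 : ∑ i ∈ Finset.range (n + 1), Function.update c n c' i • t ^ i =
          ∑ i ∈ Finset.range n, c i • t ^ i + c' • t ^ n := by
        rw [Finset.sum_range_succ, Function.update_self]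
        congr 1
        refine Finset.sum_congr rfl fun i hi => ?_
        rw [Function.update_of_ne (Finset.mem_range.1 hi).ne]
      have h2 : b = x * z + y * t + algebraMap k R c' := by rw [hxy]; ring
      rw [h1, hr, h2, Algebra.smul_def c' (t ^ n), pow_succ]
      ring
  have h1 : (⊤ : Submodule k (R ⧸ I)) ≤ Submodule.span k
      ((Finset.range α).image fun i => (Ideal.Quotient.mk I (t ^ i) : R ⧸ I) : Finset _) := by
    intro x _
    obtain ⟨r, rfl⟩ := Ideal.Quotient.mk_surjective x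
    obtain ⟨c, a, b, hr⟩ := hexp α r
    have h2 : (Ideal.Quotient.mk I r : R ⧸ I) = ∑ i ∈ Finset.range α, c i • (Ideal.Quotient.mk I (t ^ i) : R ⧸ I) := by
      rw [hr, map_add, map_add, Ideal.Quotient.eq_zero_iff_mem.2 (I.mul_mem_right a hzI),
        Ideal.Quotient.eq_zero_iff_mem.2 (I.mul_mem_right b htI), add_zero, add_zero, map_sum]
      rfl
    rw [h2]
    refine Submodule.sum_mem _ fun i hi => Submodule.smul_mem _ _ (Submodule.subset_span ?_)
    rw [Finset.coe_image]
    exact ⟨i, hi, rfl⟩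
  have h2 := finrank_span_finset_le_card (R := k) ((Finset.range α).image fun i => (Ideal.Quotient.mk I (t ^ i) : R ⧸ I))
  rw [Set.finrank, eq_top_iff.2 h1, finrank_top] at h2
  refine h2.trans (Finset.card_image_le.trans ?_)
  rw [Finset.card_range]

end chart

section main

variable [IsAlgClosed k] [IsNoetherianRing R] {L : Type w} [Field L] [Algebra k L] {N : ℕ}
  (θ : R →ₐ[k] MvPowerSeries (Fin 2) k) (z t : R) (hz : θ z = X 0) (ht : θ t = X 1)
  (hm : maximalIdeal R = Ideal.span {z, t})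
  (φ : Fin (N + 1) → R) (a : Fin (N + 1) → k)
  (hprop : ∀ l j, a j • φ l - a l • φ j ∈ Ideal.span {z})
  (c : Fin (N + 1) → k) (hc : ∑ l, c l * a l ≠ 0) (hfz : ∑ l, c l • φ l ∉ Ideal.span {z})

include hz ht hm hprop hc hfz in
omit [IsAlgClosed k] in
lemma exists_lead : ∃ (α : ℕ) (a' : Fin (N + 1) → k), LeadAt (fun l => pz k (θ (φ l))) α a' ∧ Prp a a' ∧
    PowerSeries.coeff α (pz k (θ (∑ l, c l • φ l))) ≠ 0 ∧
    ∀ i < α, PowerSeries.coeff i (pz k (θ (∑ l, c l • φ l))) = 0 := by
  have hf : pz k (θ (∑ l, c l • φ l)) ≠ 0 := fun h => hfz (mem_span_z θ z t hz ht hm h)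
  obtain ⟨α, hα, hα'⟩ := exists_order hf
  have h1 : ∀ l j, a j • pz k (θ (φ l)) = a l • pz k (θ (φ j)) := by
    intro l j
    have h2 : pz k (θ (a j • φ l - a l • φ j)) = 0 := by
      obtain ⟨y, hy⟩ := Ideal.mem_span_singleton.1 (hprop l j)
      rw [hy, map_mul, map_mul, hz, pz_X0, zero_mul]
    rw [map_sub, map_sub, map_smul, map_smul, map_smul, map_smul, sub_eq_zero] at h2
    exact h2
  have h2 : ∀ l, (∑ j, c j * a j) • pz k (θ (φ l)) = a l • pz k (θ (∑ j, c j • φ j)) := by
    intro l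
    rw [map_sum, map_sum, Finset.smul_sum, Finset.sum_smul]
    refine Finset.sum_congr rfl fun j _ => ?_
    rw [mul_smul, h1 l j, map_smul, map_smul, smul_comm]
  have h3 : ∀ l, pz k (θ (φ l)) = ((∑ j, c j * a j)⁻¹ * a l) • pz k (θ (∑ j, c j • φ j)) := by
    intro l
    rw [mul_smul, ← h2 l, smul_smul, inv_mul_cancel₀ hc, one_smul]
  have ha0 : a ≠ 0 := by
    rintro rfl
    apply hc
    simp
  refine ⟨α, (PowerSeries.coeff α (pz k (θ (∑ j, c j • φ j))) * (∑ j, c j * a j)⁻¹) • a, ⟨?_, ?_, ?_⟩,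
    ⟨_, mul_ne_zero hα (inv_ne_zero hc), rfl⟩, hα, hα'⟩
  · exact smul_ne_zero (mul_ne_zero hα (inv_ne_zero hc)) ha0
  · intro l
    simp only
    rw [h3 l, map_smul, smul_eq_mul]
    change _ = _ * a l
    ring
  · intro j hj l
    simp only
    rw [h3 l, map_smul, hα' j hj, smul_zero]

omit [IsAlgClosed k] [IsLocalRing R] [IsNoetherianRing R] in
lemma prim_map (s : R) (y : MvPowerSeries (Fin 2) k) (hs : θ s = y) (h : ∃ n, s ^ n ∈ Ideal.span (Set.range φ)) :
    ∃ n, y ^ n ∈ Ideal.span (Set.range fun l => θ (φ l)) := by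
  obtain ⟨n, hn⟩ := h
  refine ⟨n, ?_⟩
  have h1 : Ideal.span (Set.range φ) ≤ (Ideal.span (Set.range fun l => θ (φ l))).comap
      (θ : R →+* MvPowerSeries (Fin 2) k) := by
    rw [Ideal.span_le]
    rintro _ ⟨l, rfl⟩
    exact Ideal.subset_span ⟨l, rfl⟩
  have h2 := h1 hn
  rw [Ideal.mem_comap, map_pow] at h2
  rw [← hs]
  exact h2

include hz ht hm hprop hc hfz in
/-- **The local inequality.** -/
theorem local_ineq {u : L} (hu : Transcendental k u)
    (hres : ∀ r : R, ∃ c : k, r - algebraMap k R c ∈ maximalIdeal R)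
    (hprim : ∃ n, t ^ n ∈ Ideal.span (Set.range φ)) (d : Fin (N + 1) → k) (δ : ℕ)
    (hδ : ∀ q, Lk u (fun l => θ (φ l)) a q → δ ≤ q)
    [Module.Finite k (R ⧸ Ideal.span {∑ l, c l • φ l, ∑ l, d l • φ l})] :
    δ * Module.finrank k (R ⧸ Ideal.span {z, ∑ l, c l • φ l}) ≤
      Module.finrank k (R ⧸ Ideal.span {∑ l, c l • φ l, ∑ l, d l • φ l}) := by
  obtain ⟨α, a', ha', haa', hα, hα'⟩ := exists_lead θ z t hz ht hm φ a hprop c hc hfz
  have h1 := finrank_le θ z t hz ht hm hres hα hα'
  have h2 := Newton.newton hu (fun l => θ (φ l)) a' α ha' (prim_map θ φ t _ ht hprim) δ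
    fun q hq => hδ q (hq.prp haa'.symm)
  have h3 : ∀ (e : Fin (N + 1) → k) (x : ℕ × ℕ), cf (θ (∑ l, e l • φ l)) x ≠ 0 → α * δ ≤ α * x.1 + δ * x.2 := by
    intro e x hx
    apply h2
    intro h0
    apply hx
    rw [map_sum, cf, map_sum]
    refine Finset.sum_eq_zero fun l _ => ?_
    rw [map_smul, map_smul]
    have : coeff (idx x) (θ (φ l)) = 0 := congrFun h0 l
    rw [this, smul_zero]
  have h4 := Colen.colength θ z t hz ht (∑ l, c l • φ l) (∑ l, d l • φ l) α δ (h3 c) (h3 d)
  calc δ * Module.finrank k (R ⧸ Ideal.span {z, ∑ l, c l • φ l}) ≤ δ * α := Nat.mul_le_mul_left _ h1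
    _ = α * δ := mul_comm _ _
    _ ≤ _ := h4

include hz ht hm hprop hc hfz in
/-- At a base point there is a nonconstant limit. -/
theorem exists_lk {u : L} (hu : Transcendental k u)
    (hprim : ∃ n, t ^ n ∈ Ideal.span (Set.range φ)) (hprim' : ∃ n, z ^ n ∈ Ideal.span (Set.range φ))
    (hmem : ∑ l, c l • φ l ∈ maximalIdeal R) : ∃ q, Lk u (fun l => θ (φ l)) a q := by
  obtain ⟨α, a', ha', haa', hα, hα'⟩ := exists_lead θ z t hz ht hm φ a hprop c hc hfz
  have hα1 : 1 ≤ α := by
    by_contra h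
    apply hα
    have h0 : α = 0 := by omega
    rw [h0, PowerSeries.coeff_zero_eq_constantCoeff_apply, constantCoeff_pz]
    exact constantCoeff_chart θ z t hz ht hm hmem
  obtain ⟨l, hl⟩ : ∃ l, pt k (θ (φ l)) ≠ 0 := by
    by_contra hcon
    push Not at hcon
    obtain ⟨n, hn⟩ := prim_map θ φ z _ hz hprim'
    have h1 : Ideal.span (Set.range fun l => θ (φ l)) ≤ Ideal.comap (pt k).toRingHom ⊥ := by
      rw [Ideal.span_le]
      rintro _ ⟨l, rfl⟩
      exact hcon l
    have h2 : pt k (X 0 ^ n) = 0 := h1 hn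
    have h3 : pt k (X 0) = PowerSeries.X := by
      apply PowerSeries.ext
      intro j
      rw [coeff_pt]
      have := cf_monomial (k := k) (1, 0) (j, 0)
      rw [pow_zero, pow_one, mul_one] at this
      rw [this, PowerSeries.coeff_X]
      by_cases h : j = 1
      · subst h; simp
      · rw [if_neg h, if_neg]
        intro h'
        exact h (congrArg Prod.fst h')
    rw [map_pow, h3] at h2
    exact pow_ne_zero n PowerSeries.X_ne_zero h2
  obtain ⟨i, hi⟩ : ∃ i, PowerSeries.coeff i (pt k (θ (φ l))) ≠ 0 := by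
    by_contra hcon
    push Not at hcon
    exact hl (PowerSeries.ext fun n => by rw [hcon n, map_zero])
  by_contra hcon
  push Not at hcon
  have h2 := Newton.newton hu (fun l => θ (φ l)) a' α ha' (prim_map θ φ t _ ht hprim) (i + 1)
    (fun q hq => absurd (hq.prp haa'.symm) (hcon q)) (i, 0) (by
      intro h0
      apply hi
      rw [coeff_pt]
      exact congrFun h0 l)
  simp only [mul_zero, add_zero] at h2
  have := Nat.le_of_mul_le_mul_left h2 (by omega)
  omega

end main

end K329.LocIneq
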