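import Groth.Agent.VarietyB.ProjHom
import Groth.Agent.Sga5.ProjChart
import Groth.Agent.Sga7.H132.ProjPts
import Groth.Agent.VarietyB.ProjSpaceProper
import Mathlib.AlgebraicGeometry.Morphisms.Separated
import Mathlib.AlgebraicGeometry.Morphisms.ClosedImmersion

/-!
# Points of projective space with homogeneous coordinates

`pt k b i hi : Spec B ⟶ P^N_k`, for a `k`-algebra `B` and `b : Fin (N + 1) → B` with `b i` a unit.
-/

set_option autoImplicit false
universe u

open CategoryTheory AlgebraicGeometry MvPolynomial HomogeneousLocalization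

namespace K329.Pt

open Groth.Agent.VarietyB.ProjHom Groth.Agent.Sga5.ProjChart CohB1
open Groth.Agent.Sga7.H132.ProjPts (chart chart_toSpec)

variable (k : Type u) [Field k] {N : ℕ} {B : Type u} [CommRing B] [Algebra k B]

/-- evaluation of polynomials at the coordinates -/
noncomputable def ev (b : Fin (N + 1) → B) : MvPolynomial (Fin (N + 1)) k →+* B :=
  eval₂Hom (algebraMap k B) b

lemma ev_X (b : Fin (N + 1) → B) (i : Fin (N + 1)) : ev k b (X i) = b i := by simp [ev]

lemma ev_C (b : Fin (N + 1) → B) (c : k) : ev k b (C c) = algebraMap k B c := by simp [ev]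

lemma isUnit_ev {b : Fin (N + 1) → B} {i : Fin (N + 1)} (hi : IsUnit (b i)) : IsUnit (ev k b (X i)) := by
  rwa [ev_X]

/-- The point with homogeneous coordinates `b`. -/
noncomputable def pt (b : Fin (N + 1) → B) (i : Fin (N + 1)) (hi : IsUnit (b i)) :
    Spec (CommRingCat.of B) ⟶ ProjSpace N k :=
  Spec.map (CommRingCat.ofHom (awayLift (polyGrading N k) (ev k b) (X i) (isUnit_ev k hi))) ≫
    chart N k i

/-- The coordinate homomorphism to the global sections. -/
noncomputable def evΓ (b : Fin (N + 1) → B) :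
    MvPolynomial (Fin (N + 1)) k →+* Γ(Spec (CommRingCat.of B), ⊤) :=
  (Scheme.ΓSpecIso (CommRingCat.of B)).inv.hom.comp (ev k b)

lemma isUnit_evΓ {b : Fin (N + 1) → B} {i : Fin (N + 1)} (hi : IsUnit (b i)) : IsUnit (evΓ k b (X i)) :=
  (isUnit_ev k hi).map (Scheme.ΓSpecIso (CommRingCat.of B)).inv.hom

lemma pt_eq_toProj (b : Fin (N + 1) → B) (i : Fin (N + 1)) (hi : IsUnit (b i)) :
    pt k b i hi = toProj (polyGrading N k) (evΓ k b) (X_mem N k i) Nat.one_pos (isUnit_evΓ k hi) := by
  rw [pt, toProj]
  have h1 := awayLift_comp (polyGrading N k) (ev k b) (isUnit_ev k hi) (X_mem N k i)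
    (Scheme.ΓSpecIso (CommRingCat.of B)).inv.hom
  have h2 : CommRingCat.ofHom (awayLift (polyGrading N k) (evΓ k b) (X i) (isUnit_evΓ k hi)) =
      CommRingCat.ofHom (awayLift (polyGrading N k) (ev k b) (X i) (isUnit_ev k hi)) ≫
        (Scheme.ΓSpecIso (CommRingCat.of B)).inv := by
    refine CommRingCat.hom_ext ?_
    exact h1.symm
  rw [h2, Spec.map_comp, Category.assoc, ← Category.assoc _ (Spec.map (Scheme.ΓSpecIso _).inv),
    toSpecΓ_SpecMap_ΓSpecIso_inv, Category.id_comp]
  rfl

lemma pt_indep (b : Fin (N + 1) → B) (i j : Fin (N + 1)) (hi : IsUnit (b i)) (hj : IsUnit (b j)) :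
    pt k b i hi = pt k b j hj := by
  rw [pt_eq_toProj, pt_eq_toProj]
  exact toProj_indep _ _ _ _ _ _ _ _

lemma ev_comp {C : Type u} [CommRing C] [Algebra k C] (φ : B →ₐ[k] C) (b : Fin (N + 1) → B) :
    (φ : B →+* C).comp (ev k b) = ev k (fun l => φ (b l)) := by
  apply MvPolynomial.ringHom_ext
  · intro r
    rw [RingHom.comp_apply, ev_C, ev_C]
    exact φ.commutes r
  · intro l
    rw [RingHom.comp_apply, ev_X, ev_X]
    rfl

/-- Functoriality. -/
lemma map_pt {C : Type u} [CommRing C] [Algebra k C] (φ : B →ₐ[k] C) (b : Fin (N + 1) → B) (i : Fin (N + 1))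
    (hi : IsUnit (b i)) :
    Spec.map (CommRingCat.ofHom (φ : B →+* C)) ≫ pt k b i hi = pt k (fun l => φ (b l)) i (hi.map φ) := by
  rw [pt, pt, ← Category.assoc, ← Spec.map_comp]
  congr 2
  refine CommRingCat.hom_ext ?_
  have h1 := awayLift_comp (polyGrading N k) (ev k b) (isUnit_ev k hi) (X_mem N k i) (φ : B →+* C)
  simp only [ev_comp] at h1
  exact h1

/-- Functoriality, with a free choice of the invertible coordinate. -/
lemma map_pt' {C : Type u} [CommRing C] [Algebra k C] (φ : B →ₐ[k] C) (b : Fin (N + 1) → B) (i : Fin (N + 1))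
    (hi : IsUnit (b i)) (c : Fin (N + 1) → C) (hc : ∀ l, φ (b l) = c l) (j : Fin (N + 1)) (hj : IsUnit (c j)) :
    Spec.map (CommRingCat.ofHom (φ : B →+* C)) ≫ pt k b i hi = pt k c j hj := by
  obtain rfl : (fun l => φ (b l)) = c := funext hc
  rw [map_pt]
  exact pt_indep k _ _ _ _ _

lemma ev_smul_of_mem (v : B) (b : Fin (N + 1) → B) (n : ℕ) (a : MvPolynomial (Fin (N + 1)) k)
    (ha : a ∈ polyGrading N k n) : ev k (fun l => v * b l) a = v ^ n * ev k b a := by
  have h := (MvPolynomial.mem_homogeneousSubmodule n a).1 ha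
  rw [ev, ev, coe_eval₂Hom, coe_eval₂Hom, eval₂_eq', eval₂_eq', Finset.mul_sum]
  apply Finset.sum_congr rfl
  intro s hs
  have hd : ∑ j, s j = n := by
    have := h (mem_support_iff.1 hs)
    rw [← this, Finsupp.weight_apply, Finsupp.sum_fintype _ _ (by simp)]
    simp
  rw [← hd, ← Finset.prod_pow_eq_pow_sum]
  simp only [mul_pow, Finset.prod_mul_distrib]
  ring

/-- Scaling of the coordinates. -/
lemma pt_smul (v : B) (hv : IsUnit v) (b : Fin (N + 1) → B) (i : Fin (N + 1)) (hi : IsUnit (b i))
    (c : Fin (N + 1) → B) (hc : ∀ l, c l = v * b l) (j : Fin (N + 1)) (hj : IsUnit (c j)) :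
    pt k c j hj = pt k b i hi := by
  obtain rfl : c = fun l => v * b l := funext hc
  have hi' : IsUnit (v * b i) := hv.mul hi
  rw [pt_indep k _ j i hj hi', pt, pt]
  obtain ⟨w, rfl⟩ := hv
  have h := awayLift_twist (polyGrading N k) (ev k fun l => (w : B) * b l) (ev k b) (isUnit_ev k hi')
    (isUnit_ev k hi) (X_mem N k i) w fun n a ha => ev_smul_of_mem k _ b n a ha
  rw [h]

lemma pt_toSpec (b : Fin (N + 1) → B) (i : Fin (N + 1)) (hi : IsUnit (b i)) :
    pt k b i hi ≫ ProjSpace.toSpec N k = Spec.map (CommRingCat.ofHom (algebraMap k B)) := by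
  rw [pt, Category.assoc, chart_toSpec, ← Spec.map_comp]
  congr 1
  refine CommRingCat.hom_ext (RingHom.ext fun r => ?_)
  have h1 := awayLift_mk (polyGrading N k) (ev k b) (isUnit_ev k hi) (X_mem N k i) 0 (C r)
    (by rw [zero_smul]; exact (MvPolynomial.mem_homogeneousSubmodule 0 _).2 (isHomogeneous_C _ r))
  rw [pow_zero, mul_one, ev_C] at h1
  refine Eq.trans ?_ h1
  change awayLift (polyGrading N k) (ev k b) (X i) (isUnit_ev k hi) (chartC N k i r) = _
  congr 1

/-- Uniqueness: over a domain it suffices to know a morphism over an injective extension. -/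
lemma eq_pt_of_injective [IsDomain B] {C : Type u} [CommRing C] [Algebra k C] (φ : B →ₐ[k] C)
    (hφ : Function.Injective φ) (m : Spec (CommRingCat.of B) ⟶ ProjSpace N k)
    (hm : m ≫ ProjSpace.toSpec N k = Spec.map (CommRingCat.ofHom (algebraMap k B)))
    (b : Fin (N + 1) → B) (i : Fin (N + 1)) (hi : IsUnit (b i))
    (h : Spec.map (CommRingCat.ofHom (φ : B →+* C)) ≫ m = pt k (fun l => φ (b l)) i (hi.map φ)) :
    m = pt k b i hi := by
  have hs : IsSeparated (ProjSpace.toSpec N k) := by
    have : IsProper (ProjSpace.toSpec N k) := Groth.Agent.VarietyB.ProjSpaceProper.isProper_toSpec N k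
    infer_instance
  have hd : IsDominant (Spec.map (CommRingCat.ofHom (φ : B →+* C))) := by
    apply isDominant_of_of_appTop_injective
    have h1 := Scheme.ΓSpecIso_naturality (CommRingCat.ofHom (φ : B →+* C))
    have h2 : (Spec.map (CommRingCat.ofHom (φ : B →+* C))).appTop =
      (Scheme.ΓSpecIso _).hom ≫ CommRingCat.ofHom (φ : B →+* C) ≫ (Scheme.ΓSpecIso _).inv := by
      rw [← Category.assoc, ← h1, Category.assoc, Iso.hom_inv_id, Category.comp_id]
    rw [h2]
    have e1 := ((ConcreteCategory.isIso_iff_bijective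
      (Scheme.ΓSpecIso (CommRingCat.of B)).hom).1 inferInstance).1
    have e2 := ((ConcreteCategory.isIso_iff_bijective
      (Scheme.ΓSpecIso (CommRingCat.of C)).inv).1 inferInstance).1
    intro x y hxy
    simp only [CommRingCat.comp_apply] at hxy
    exact e1 (hφ (e2 hxy))
  refine ext_of_isDominant_of_isSeparated (ProjSpace.toSpec N k) ?_
    (Spec.map (CommRingCat.ofHom (φ : B →+* C))) ?_
  · rw [hm, pt_toSpec]
  · rw [h, map_pt]

/-- Two ring homomorphisms out of the chart ring agreeing on constants and coordinates. -/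
lemma chart_hom_eq (i : Fin (N + 1)) (χ : Chart N k i →+* B)
    (hχ : χ.comp (chartC N k i) = algebraMap k B) :
    χ = awayLift (polyGrading N k) (ev k (fun l => χ (coord N k i l))) (X i)
      (isUnit_ev k (by rw [coord_self, map_one]; exact isUnit_one)) := by
  apply away_hom_ext (polyGrading N k) (X_mem N k i)
  intro n a ha
  rw [ev_X, coord_self, map_one, one_pow, mul_one]
  have ha' : a.IsHomogeneous n := by
    have : a ∈ polyGrading N k (n • 1) := ha
    rw [smul_eq_mul, mul_one] at this
    exact (MvPolynomial.mem_homogeneousSubmodule n a).1 this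
  -- reduce to `Away.mk n a = ofPoly (dehom a)`
  have h1 : Away.mk (polyGrading N k) (X_mem N k i) n a ha = ofPoly N k i (dehom N k i a) := by
    apply HomogeneousLocalization.val_injective
    have h2 := val_ofPoly_dehom N k i n a ha'
    have h3 : (Away.mk (polyGrading N k) (X_mem N k i) n a ha).val * aM N k i (X i ^ n) = aM N k i a := by
      rw [Away.val_mk, ← Localization.mk_one_eq_algebraMap, Localization.mk_mul,
        ← Localization.mk_one_eq_algebraMap, Localization.mk_eq_mk_iff, Localization.r_iff_exists]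
      exact ⟨1, by simp; ring⟩
    have hu : IsUnit (aM N k i (X i ^ n)) := by
      rw [map_pow]
      exact (IsLocalization.Away.algebraMap_isUnit _).pow n
    exact hu.mul_right_cancel (h3.trans h2.symm)
  rw [h1]
  have h4 : (χ.comp (ofPoly N k i)).comp (dehom N k i) = ev k (fun l => χ (coord N k i l)) := by
    apply MvPolynomial.ringHom_ext
    · intro r
      rw [ev_C, ← hχ]
      simp only [RingHom.comp_apply, dehom_C]
      congr 1
      simp [ofPoly]
    · intro l
      rw [ev_X]
      simp only [RingHom.comp_apply]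
      obtain rfl | ⟨m, rfl⟩ := Fin.eq_self_or_eq_succAbove i l
      · rw [dehom_X_self, map_one, map_one, coord_self, map_one]
      · rw [dehom_X]
        congr 1
        simp [ofPoly]
  exact congrFun (congrArg DFunLike.coe h4) a

/-- Every point with values in a local `k`-algebra has homogeneous coordinates. -/
theorem exists_pt [IsLocalRing B] (m : Spec (CommRingCat.of B) ⟶ ProjSpace N k)
    (hm : m ≫ ProjSpace.toSpec N k = Spec.map (CommRingCat.ofHom (algebraMap k B))) :
    ∃ (b : Fin (N + 1) → B) (i : Fin (N + 1)) (hi : IsUnit (b i)), m = pt k b i hi := by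
  let x : Spec (CommRingCat.of B) := IsLocalRing.closedPoint B
  obtain ⟨i, hi⟩ := Groth.Agent.Sga7.H132.ProjPts.exists_mem_range N k (m x)
  have hr : Set.range m ⊆ Set.range (chart N k i) := by
    rintro _ ⟨y, rfl⟩
    have h1 : y ⤳ x := IsLocalRing.specializes_closedPoint y
    have h2 : m y ⤳ m x := h1.map m.continuous
    exact h2.mem_open (IsOpenImmersion.isOpen_range _) hi
  let χ : Chart N k i →+* B := (Spec.preimage (IsOpenImmersion.lift (chart N k i) m hr)).hom
  have hχ0 : Spec.map (CommRingCat.ofHom χ) ≫ chart N k i = m := by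
    change Spec.map (Spec.preimage _) ≫ _ = m
    rw [Spec.map_preimage, IsOpenImmersion.lift_fac]
  have hχ : χ.comp (chartC N k i) = algebraMap k B := by
    have h2 := hm
    rw [← hχ0, Category.assoc, chart_toSpec, ← Spec.map_comp] at h2
    have h3 := Spec.map_injective h2
    exact congrArg CommRingCat.Hom.hom h3
  refine ⟨fun l => χ (coord N k i l), i, by
    change IsUnit (χ (coord N k i i))
    rw [coord_self, map_one]; exact isUnit_one, ?_⟩
  rw [← hχ0, pt, ← chart_hom_eq k i χ hχ]

/-- Over a field the coordinates are unique up to scaling. -/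
theorem exists_smul_of_pt_eq {F : Type u} [Field F] [Algebra k F] {b c : Fin (N + 1) → F} {i j : Fin (N + 1)}
    (hi : IsUnit (b i)) (hj : IsUnit (c j)) (h : pt k b i hi = pt k c j hj) :
    ∃ v : F, v ≠ 0 ∧ ∀ l, c l = v * b l := by
  -- `c i` is invertible
  have hci : IsUnit (c i) := by
    have h1 : (pt k b i hi) ⁻¹ᵁ Proj.basicOpen (polyGrading N k) (X i) =
        (Spec (CommRingCat.of F)).basicOpen (evΓ k b (X i)) := by
      rw [pt_eq_toProj]
      exact toProj_preimage_basicOpen _ _ _ _ _ (X_mem N k i) Nat.one_pos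
    have h2 : (pt k c j hj) ⁻¹ᵁ Proj.basicOpen (polyGrading N k) (X i) =
        (Spec (CommRingCat.of F)).basicOpen (evΓ k c (X i)) := by
      rw [pt_eq_toProj]
      exact toProj_preimage_basicOpen _ _ _ _ _ (X_mem N k i) Nat.one_pos
    rw [← h, h1] at h2
    by_contra hcon
    have h0 : c i = 0 := by
      by_contra hne
      exact hcon (isUnit_iff_ne_zero.2 hne)
    have h3 : evΓ k c (X i) = 0 := by
      rw [evΓ, RingHom.comp_apply, ev_X, h0, map_zero]
    have h4 : IsUnit (evΓ k b (X i)) := (isUnit_ev k hi).map (Scheme.ΓSpecIso (CommRingCat.of F)).inv.hom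
    rw [h3, Scheme.basicOpen_zero, Scheme.basicOpen_of_isUnit _ h4] at h2
    have h5 : IsLocalRing.closedPoint F ∈ (⊤ : (Spec (CommRingCat.of F)).Opens) := trivial
    rw [h2] at h5
    exact h5
  have h' : pt k b i hi = pt k c i hci := h.trans (pt_indep k _ _ _ _ _)
  rw [pt, pt, cancel_mono] at h'
  have h1 := Spec.map_injective h'
  have h2 : awayLift (polyGrading N k) (ev k b) (X i) (isUnit_ev k hi) =
    awayLift (polyGrading N k) (ev k c) (X i) (isUnit_ev k hci) := congrArg CommRingCat.Hom.hom h1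
  have key : ∀ (d : Fin (N + 1) → F) (hd : IsUnit (d i)) (l : Fin (N + 1)),
      awayLift (polyGrading N k) (ev k d) (X i) (isUnit_ev k hd) (coord N k i l) * d i = d l := by
    intro d hd l
    have h3 := awayLift_mk (polyGrading N k) (ev k d) (isUnit_ev k hd) (X_mem N k i) 1 (X l)
      (by simpa using X_mem N k l)
    rw [pow_one, ev_X, ev_X] at h3
    exact h3
  refine ⟨c i / b i, div_ne_zero hci.ne_zero hi.ne_zero, fun l => ?_⟩
  have h3 := key b hi l
  have h4 := key c hci l
  rw [← h2] at h4
  have hb0 : b i ≠ 0 := hi.ne_zero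
  field_simp
  rw [← h3, ← h4]
  ring

end K329.Pt
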