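import Groth.Agent.Surf.K464.Curves
import Groth.Agent.Curves.K329.Pt
import Groth.Agent.Divis.CartierStalk
import Groth.Statements.S16510

/-!
# Plan for S16510 (bend and break with fixed points and a degree bound)

The four global inputs as propositions: `Sections`, `ProdSurf`, `Rigid`, `Numbers`. (No proofs here.)
-/

set_option autoImplicit false
universe u

open CategoryTheory CategoryTheory.Limits AlgebraicGeometry TopologicalSpace IsLocalRing

namespace K329.Plan510

open Groth.Agent Groth.Agent.Grpsch.PicGrp K464.Base Groth.Agent.Divis.CartierBasic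

local notation "Sp" k:max => Spec (CommRingCat.of k)

/-- the `k`-algebra structure of a stalk -/
noncomputable def sig {k : Type u} [Field k] {X : Scheme.{u}} (g : X ⟶ Sp k) (x : X) : k →+* X.presheaf.stalk x :=
  (Spec.preimage (X.fromSpecStalk x ≫ g) : CommRingCat.of k ⟶ X.presheaf.stalk x).hom

/-- `φ` (a tuple in `O_x`) are homogeneous coordinates of the rational map `g : V ⇢ P^N`, `i : V ⟶ S`, near `x`: every
`L`-point of `V` coming from a point of `Spec O_x` is mapped by `g` to the point with coordinates `φ`. -/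
def IsCoord (k : Type u) [Field k] {S V : Scheme.{u}} (s : S ⟶ Sp k) (i : V ⟶ S) {N : ℕ}
    (g : V ⟶ CohB1.ProjSpace N k) (x : S) (φ : Fin (N + 1) → S.presheaf.stalk x) : Prop :=
  ∀ (L : Type u) [Field L] [Algebra k L] (m : Sp L ⟶ V) (_ : m ≫ i ≫ s = Spec.map (CommRingCat.ofHom (algebraMap k L)))
    (ψ : S.presheaf.stalk x →+* L) (_ : Spec.map (CommRingCat.ofHom ψ) ≫ S.fromSpecStalk x = m ≫ i),
    ∃ (j : Fin (N + 1)) (hj : IsUnit (ψ (φ j))), m ≫ g = K329.Pt.pt k (fun l => ψ (φ l)) j hj

/-- TASK A. A rational map `g : V ⟶ P^N` from a smooth proper integral `S`, defined in codimension one, is given by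
sections of an invertible module `M` without common zeros in codimension one; `D c` is the divisor of `∑ c l • s l`
(and `⊥` if this section is zero). -/
def Sections (k : Type u) [Field k] : Prop :=
  ∀ (S : Scheme.{u}) (s : S ⟶ Sp k) [IsIntegral S] [Smooth s] [IsProper s]
    (N : ℕ) (V : S.Opens) (_ : ∀ x : S, x ∉ V → (2 : WithBot ℕ∞) ≤ ringKrullDim (S.presheaf.stalk x))
    (g : V.toScheme ⟶ CohB1.ProjSpace N k) (_ : g ≫ CohB1.ProjSpace.toSpec N k = V.ι ≫ s),
    ∃ (M : S.Modules) (_ : PicF.IsInvertible M) (D : (Fin (N + 1) → k) → S.IdealSheafData),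
      Nonempty ((Scheme.Modules.pullback V.ι).obj M ≅
        (Scheme.Modules.pullback g).obj (Twist.twistProjSpace N k 1)) ∧
      (∀ c, D c ≠ ⊥ → BlowUp.IsEffCartierIdeal (D c) ∧ ClSub.IsInverseOf M (ClSub.idealMod (D c))) ∧
      ∀ x : S, ∃ φ : Fin (N + 1) → S.presheaf.stalk x,
        (∀ c, stalkIdeal (D c) x = Ideal.span {∑ l, sig s x (c l) * φ l}) ∧ IsCoord k s V.ι g x φ

/-- TASK B. Geometry of a product `S` of two smooth proper curves: integral of dimension `2`; the fibre over a closed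
point `c` has a generic point `θ`, whose ideal in `O_x` (`x` in the fibre) is generated by a uniformizer at `c`; the
maximal ideal at a closed point is generated by the two uniformizers. -/
def ProdSurf (k : Type u) [Field k] [IsAlgClosed k] : Prop :=
  ∀ (C P : Scheme.{u}) (a : C ⟶ Sp k) (p : P ⟶ Sp k) [IsIntegral C] [IsIntegral P] [Smooth a] [Smooth p]
    [IsProper a] [IsProper p] (_ : topologicalKrullDim C = 1) (_ : topologicalKrullDim P = 1),
    IsIntegral (pullback a p) ∧ topologicalKrullDim ↥(pullback a p) = 2 ∧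
    (∀ c : C, IsClosed ({c} : Set C) → ∃ θ : ↥(pullback a p), (pullback.fst a p) θ = c ∧
      (pullback.snd a p) θ = genericPoint P ∧ ringKrullDim ((pullback a p).presheaf.stalk θ) = 1 ∧
      ∀ x : ↥(pullback a p), (pullback.fst a p) x = c → ∃ hx : θ ⤳ x,
        ∀ z : C.presheaf.stalk ((pullback.fst a p) x), maximalIdeal (C.presheaf.stalk ((pullback.fst a p) x)) = Ideal.span {z} →
          (maximalIdeal ((pullback a p).presheaf.stalk θ)).comap
            ((pullback a p).presheaf.stalkSpecializes hx).hom = Ideal.span {(pullback.fst a p).stalkMap x z}) ∧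
    ∀ x : ↥(pullback a p), IsClosed ({x} : Set ↥(pullback a p)) →
      ∀ (z : C.presheaf.stalk ((pullback.fst a p) x)) (t : P.presheaf.stalk ((pullback.snd a p) x)),
        maximalIdeal (C.presheaf.stalk ((pullback.fst a p) x)) = Ideal.span {z} →
        maximalIdeal (P.presheaf.stalk ((pullback.snd a p) x)) = Ideal.span {t} →
        maximalIdeal ((pullback a p).presheaf.stalk x) =
          Ideal.span {((pullback.fst a p).stalkMap x).hom z, ((pullback.snd a p).stalkMap x).hom t}

/-- TASK C. Rigidity: `G : C × T' ⟶ P^N` (`T'` open in the smooth proper curve `P`); if over a nonempty open `U ⊆ C` the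
homogeneous coordinates of `G` can be chosen regular on `U × P` with a linear combination equal to `1`, then
`G` is constant in the `T'`-direction. -/
def Rigid (k : Type u) [Field k] [IsAlgClosed k] : Prop :=
  ∀ (C P T' : Scheme.{u}) (a : C ⟶ Sp k) (p : P ⟶ Sp k) [IsIntegral C] [IsIntegral P] [Smooth a] [Smooth p]
    [IsProper a] [IsProper p] (_ : topologicalKrullDim C = 1) (_ : topologicalKrullDim P = 1)
    (j : T' ⟶ P) [IsOpenImmersion j] (t : Sp k ⟶ T') (ht : t ≫ j ≫ p = 𝟙 _) (N : ℕ)
    (G : pullback a (j ≫ p) ⟶ CohB1.ProjSpace N k) (_ : G ≫ CohB1.ProjSpace.toSpec N k = pullback.fst a (j ≫ p) ≫ a)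
    (U : C.Opens) (_ : (U : Set C).Nonempty) (c : Fin (N + 1) → k)
    (_ : ∀ x : ↥(pullback a p), (pullback.fst a p) x ∈ U → ∃ φ : Fin (N + 1) → (pullback a p).presheaf.stalk x,
      ∑ l, sig (pullback.fst a p ≫ a) x (c l) * φ l = 1 ∧
      IsCoord k (pullback.fst a p ≫ a) (pullback.map a (j ≫ p) a p (𝟙 _) j (𝟙 _) (by simp) (by simp)) G x φ),
    G = pullback.fst a (j ≫ p) ≫ pullback.lift (𝟙 C) (a ≫ t) (by simp [ht]) ≫ G

/-- TASK D. Intersection numbers on a product of curves: the degree `e` of `M` on the fibres `{b} × P` does not depend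
on `b`, and `M² ≤ 2 d e` where `d` is the degree on `C × {t}` (Hodge index), if `e > 0`, `d ≥ 0`. -/
def Numbers (k : Type u) [Field k] [IsAlgClosed k] : Prop :=
  ∀ (C P : Scheme.{u}) [C.Over (Sp k)] [P.Over (Sp k)] [IsIntegral C] [IsIntegral P] [Smooth (C ↘ (Sp k))]
    [Smooth (P ↘ (Sp k))] [IsProper (C ↘ (Sp k))] [IsProper (P ↘ (Sp k))]
    (_ : topologicalKrullDim C = 1) (_ : topologicalKrullDim P = 1)
    (t : Sp k ⟶ P) (ht : t ≫ (P ↘ (Sp k)) = 𝟙 _),
    letI : (pullback (C ↘ (Sp k)) (P ↘ (Sp k))).Over (Sp k) := ⟨pullback.fst _ _ ≫ (C ↘ (Sp k))⟩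
    ∀ (M : (pullback (C ↘ (Sp k)) (P ↘ (Sp k))).Modules) (hM : PicF.IsInvertible M),
      ∃ e : ℤ, (∀ (b : C) (hb : IsClosed ({b} : Set C)),
        ∃ hE : BlowUp.IsEffCartierIdeal ((Scheme.IdealSheafData.vanishingIdeal (⟨{b}, hb⟩ : Closeds C)).comap
          (pullback.fst (C ↘ (Sp k)) (P ↘ (Sp k)))),
          dot k (pullback (C ↘ (Sp k)) (P ↘ (Sp k))) (ic _ hE) (mk M hM) = - e) ∧
        (0 < e → 0 ≤ Curv2.deg k C ((Scheme.Modules.pullback
            (pullback.lift (𝟙 C) ((C ↘ (Sp k)) ≫ t) (by simp [ht]))).obj M) 1 →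
          dot k (pullback (C ↘ (Sp k)) (P ↘ (Sp k))) (mk M hM) (mk M hM) ≤
            2 * Curv2.deg k C ((Scheme.Modules.pullback
              (pullback.lift (𝟙 C) ((C ↘ (Sp k)) ≫ t) (by simp [ht]))).obj M) 1 * e)

end K329.Plan510
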