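import Groth.Agent.Lefpen.H705.Completion
import Groth.Agent.Curves.K329.Plan510
import Groth.Agent.Curves.K329.ArcThrough
import Groth.Agent.Curves.K329.LocIneq
import Groth.Agent.Sga5.H844.FinLen

/-!
# Local intersection numbers at a closed point of a smooth surface
-/

set_option autoImplicit false
universe u v

open CategoryTheory CategoryTheory.Limits AlgebraicGeometry TopologicalSpace IsLocalRing

namespace K329.ChartPt

open K329.Plan510 Groth.Agent.Divis.CartierBasic Groth.Agent

local notation "Sp" k:max => Spec (CommRingCat.of k)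

section alg

variable {k : Type u} [Field k] {R : Type u} [CommRing R] [IsLocalRing R] [Algebra k R]

lemma finite_quot {z t : R} (hm : maximalIdeal R = Ideal.span {z, t})
    (hres : ∀ r : R, ∃ c : k, r - algebraMap k R c ∈ maximalIdeal R) (I : Ideal R) (n : ℕ)
    (hn : maximalIdeal R ^ n ≤ I) : Module.Finite k (R ⧸ I) := by
  have hv : ∀ x : R, ∃ c : Fin 1 → k, ∃ y y' : R, x = ∑ i, c i • (fun _ : Fin 1 => (1 : R)) i + z * y + t * y' := by
    intro x
    obtain ⟨c, hc⟩ := hres x
    rw [hm] at hc
    obtain ⟨a, b, hab⟩ := Ideal.mem_span_pair.1 hc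
    refine ⟨fun _ => c, a, b, ?_⟩
    rw [Finset.univ_unique, Finset.sum_singleton, ← Algebra.algebraMap_eq_smul_one]
    linear_combination -hab
  have h1 := Colen.mem_span_sup (k := k) z t (fun _ : Fin 1 => (1 : R)) hv n
  rw [← hm] at h1
  let q : R →ₗ[k] R ⧸ I := (Ideal.Quotient.mkₐ k I).toLinearMap
  have h2 : Submodule.span k (q '' (Colen.fam z t (fun _ : Fin 1 => (1 : R)) ''
      (Colen.T n ×ˢ (Finset.univ : Finset (Fin 1)) : Finset _))) = ⊤ := by
    rw [eq_top_iff]
    intro x _
    obtain ⟨x, rfl⟩ := Ideal.Quotient.mk_surjective x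
    obtain ⟨a, ha, b, hb, rfl⟩ := Submodule.mem_sup.1 (h1 x)
    have hb' : Ideal.Quotient.mk I b = 0 := Ideal.Quotient.eq_zero_iff_mem.2 (hn hb)
    rw [map_add, hb', add_zero, ← Submodule.map_span]
    exact ⟨a, ha, rfl⟩
  exact ⟨Submodule.fg_def.2 ⟨_, ((Finset.finite_toSet _).image _).image _, h2⟩⟩

/-- The local intersection number as a dimension. -/
lemma toNat_length [IsAlgClosed k] (I : Ideal R) [Module.Finite k (R ⧸ I)] :
    (Module.length R (R ⧸ I)).toNat = Module.finrank k (R ⧸ I) := by
  by_cases h : I = ⊤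
  · have h6 : Subsingleton (R ⧸ I) := by
      rw [h]
      exact Ideal.Quotient.subsingleton_iff.2 rfl
    rw [Module.length_eq_zero, Module.finrank_zero_of_subsingleton]
    rfl
  · have : Nontrivial (R ⧸ I) := Ideal.Quotient.nontrivial_iff.2 h
    have : IsLocalRing (R ⧸ I) := IsLocalRing.of_surjective' (Ideal.Quotient.mk I) Ideal.Quotient.mk_surjective
    rw [Sga5.H844.FinLen.finrank_eq_length, ← Sga5.H844.FinLen.length_quotient_eq]

end alg

variable {k : Type u} [Field k] {S : Scheme.{u}} (s : S ⟶ Sp k)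

/-- the algebra structure of the local ring -/
@[reducible] noncomputable def alg (x : S) : Algebra k (S.presheaf.stalk x) := (sig s x).toAlgebra

lemma fromSpecStalk_comp (x : S) : S.fromSpecStalk x ≫ s = Spec.map (CommRingCat.ofHom (sig s x)) :=
  (Spec.map_preimage (S.fromSpecStalk x ≫ s)).symm

variable [IsAlgClosed k] [LocallyOfFiniteType s]

lemma exists_sub_mem {x : S} (hx : IsClosed ({x} : Set S)) (r : S.presheaf.stalk x) :
    ∃ c : k, r - sig s x c ∈ maximalIdeal (S.presheaf.stalk x) := by
  have h1 : (Spec.preimage (S.fromSpecStalk x ≫ s) : CommRingCat.of k ⟶ S.presheaf.stalk x) ≫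
      S.residue x = (residueFieldIsoBase s x hx).inv := by
    apply Spec.map_injective
    rw [SpecMap_residueFieldIsoBase_inv, Spec.map_comp, Spec.map_preimage, ← Category.assoc]
    rfl
  have h3 : Function.Surjective (residueFieldIsoBase s x hx).inv.hom :=
    (ConcreteCategory.bijective_of_isIso (residueFieldIsoBase s x hx).inv).2
  rw [← h1] at h3
  obtain ⟨c, hc⟩ := h3 ((S.residue x).hom r)
  refine ⟨c, ?_⟩
  rw [← residue_eq_zero_iff, map_sub, sub_eq_zero]
  exact hc.symm

theorem exists_chart {x : S} (hx : IsClosed ({x} : Set S)) [IsRegularLocalRing (S.presheaf.stalk x)]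
    (z t : S.presheaf.stalk x) (hm : maximalIdeal (S.presheaf.stalk x) = Ideal.span {z, t})
    (hd : ringKrullDim (S.presheaf.stalk x) = 2) :
    letI := alg s x
    ∃ θ : S.presheaf.stalk x →ₐ[k] MvPowerSeries (Fin 2) k, θ z = MvPowerSeries.X 0 ∧ θ t = MvPowerSeries.X 1 := by
  letI := alg s x
  obtain ⟨e, he1, he2, -⟩ := Groth.Agent.Lefpen.H705.Completion.exists_completion_equiv (sig s x)
    (exists_sub_mem s hx) 2 ![z, t] (by rw [Matrix.range_cons, Matrix.range_cons, Matrix.range_empty, Set.union_empty,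
      Set.singleton_union, hm]) hd
  refine ⟨{ (e : _ →+* _).comp (algebraMap (S.presheaf.stalk x) (AdicCompletion (maximalIdeal (S.presheaf.stalk x))
    (S.presheaf.stalk x))) with commutes' := he1 }, he2 0, he2 1⟩

end K329.ChartPt
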