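import Mathlib.LinearAlgebra.Basis.VectorSpace
import Mathlib.GroupTheory.CosetCover
import Mathlib.FieldTheory.IsAlgClosed.Basic
import Mathlib.LinearAlgebra.Pi

/-!
# Choice of linear forms

`exists_form`: over an infinite field there is a linear form with coefficients in `k` not vanishing on finitely many
given nonzero vectors with coordinates in field extensions.
-/

set_option autoImplicit false
universe u v

namespace K329.Choice

variable {k : Type u} [Field k] {n : ℕ}

/-- the linear forms vanishing at `v` -/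
def ann {L : Type v} [Field L] (σ : k →+* L) (v : Fin n → L) : Subspace k (Fin n → k) where
  carrier := {c | ∑ l, σ (c l) * v l = 0}
  add_mem' := by
    intro a b ha hb
    simp only [Set.mem_setOf_eq, Pi.add_apply, map_add, add_mul, Finset.sum_add_distrib] at *
    rw [ha, hb, add_zero]
  zero_mem' := by simp
  smul_mem' := by
    intro c a ha
    simp only [Set.mem_setOf_eq, Pi.smul_apply, smul_eq_mul, map_mul, mul_assoc, ← Finset.mul_sum] at *
    rw [ha, mul_zero]

lemma ann_ne_top {L : Type v} [Field L] (σ : k →+* L) {v : Fin n → L} (hv : v ≠ 0) : ann σ v ≠ ⊤ := by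
  obtain ⟨i, hi⟩ := Function.ne_iff.1 hv
  intro h
  have h1 : (Pi.single i 1 : Fin n → k) ∈ ann σ v := h ▸ Submodule.mem_top
  have h2 : ∑ l, σ ((Pi.single i 1 : Fin n → k) l) * v l = 0 := h1
  rw [Finset.sum_eq_single i] at h2
  · rw [Pi.single_eq_same, map_one, one_mul] at h2
    exact hi h2
  · intro j _ hj
    rw [Pi.single_eq_of_ne hj, map_zero, zero_mul]
  · intro h
    exact absurd (Finset.mem_univ i) h

theorem exists_form [Infinite k] {ι : Type*} (s : Set ι) (hs : s.Finite) (L : ι → Type v) [∀ i, Field (L i)]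
    (σ : ∀ i, k →+* L i) (v : ∀ i, Fin n → L i) (hv : ∀ i ∈ s, v i ≠ 0) :
    ∃ c : Fin n → k, ∀ i ∈ s, ∑ l, σ i (c l) * v i l ≠ 0 := by
  classical
  have h1 := Subspace.biUnion_ne_univ_of_top_notMem (k := k) (E := Fin n → k)
    (s := hs.toFinset.image fun i => ann (σ i) (v i)) (by
      intro h
      obtain ⟨i, hi, h⟩ := Finset.mem_image.1 h
      exact ann_ne_top (σ i) (hv i (hs.mem_toFinset.1 hi)) h)
  obtain ⟨c, hc⟩ := (Set.ne_univ_iff_exists_notMem _).1 h1
  refine ⟨c, fun i hi h => hc ?_⟩
  simp only [Set.mem_iUnion]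
  exact ⟨ann (σ i) (v i), Finset.mem_image.2 ⟨i, hs.mem_toFinset.2 hi, rfl⟩, h⟩

end K329.Choice
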