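import Groth.Agent.Curves.K329.ArcLead

/-!
# A nonconstant weighted limit whose degree is at most the multiplicity

`claimL`: if a tuple of power series has limit `a` along `z = 0` and another limit along some arc, then it has a
nonconstant weighted limit through `a` of degree at most its multiplicity at the origin.
-/

set_option autoImplicit false
universe u v w

namespace K329.ClaimL

open MvPowerSeries K329.SubstWt K329.Link K329.TwoArcs K329.BlowSub K329.ArcLead

variable {k : Type u} [Field k] {L : Type v} [Field L] [Algebra k L] {ι : Type w}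

lemma X1_ne_zero : (X 1 : MvPowerSeries (Fin 2) k) ≠ 0 := by
  intro h
  have h1 := cf_monomial (k := k) (0, 1) (0, 1)
  rw [pow_zero, pow_one, one_mul, h, if_pos rfl] at h1
  exact zero_ne_one ((map_zero _).symm.trans h1)

lemma cv_bl {φ : ι → MvPowerSeries (Fin 2) k} (c : k) {A B : ℕ} (hA : 0 < A) (hB : 0 < B) {n : ℕ}
    (hsup : ∀ z ∈ supp φ, n ≤ A * z.1 + B * z.2) (l : ι) (i : ℕ) {m : ℕ} (hm : m < n) :
    cf (bl k c hA hB (φ l)) (i, m) = 0 := by
  rw [cf_bl, lead_eq_zero_of_lt hsup hm, map_zero, Polynomial.coeff_zero]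

/-- Division of the transform by the exceptional divisor. -/
lemma exists_transform {φ : ι → MvPowerSeries (Fin 2) k} (c : k) {A B : ℕ} (hA : 0 < A) (hB : 0 < B) {n : ℕ}
    (hsup : ∀ z ∈ supp φ, n ≤ A * z.1 + B * z.2) :
    ∃ φ' : ι → MvPowerSeries (Fin 2) k, (∀ l, bl k c hA hB (φ l) = φ' l * X 1 ^ n) ∧
      ∀ l i j, cf (φ' l) (i, j) = (Polynomial.taylor c (lead (φ l) A B (n + j))).coeff i := by
  have h : ∀ l, ∃ g, bl k c hA hB (φ l) = g * X 1 ^ n := fun l =>
    exists_eq_mul_X1_pow _ _ fun i m hm => cv_bl c hA hB hsup l i hm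
  choose φ' hφ' using h
  refine ⟨φ', hφ', fun l i j => ?_⟩
  have h1 := cf_mul_X1_pow (φ' l) n i (n + j)
  rw [if_pos (Nat.le_add_right _ _), Nat.add_sub_cancel_left, ← hφ' l, cf_bl] at h1
  exact h1.symm

/-- If all coefficient vectors of the leading form are multiples of `a`, the leading form is `a • H`. -/
lemma exists_H {φ : ι → MvPowerSeries (Fin 2) k} {a : ι → k} (ha : a ≠ 0) {A B : ℕ} (hA : 0 < A) (hB : 0 < B) {n : ℕ}
    (hall : ∀ z ∈ supp φ, A * z.1 + B * z.2 = n → Prp a (cv φ z))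
    (hex : ∃ z ∈ supp φ, A * z.1 + B * z.2 = n) :
    ∃ H : Polynomial k, H ≠ 0 ∧ ∀ l, lead (φ l) A B n = Polynomial.C (a l) * H := by
  obtain ⟨l₀, hl₀⟩ : ∃ l, a l ≠ 0 := by
    by_contra hcon
    push Not at hcon
    exact ha (funext hcon)
  have key : ∀ l, lead (φ l) A B n = Polynomial.C (a l) * (Polynomial.C (a l₀)⁻¹ * lead (φ l₀) A B n) := by
    intro l
    ext i
    rw [Polynomial.coeff_C_mul, Polynomial.coeff_C_mul]
    by_cases hi : ∃ j, A * i + B * j = n
    · obtain ⟨j, hj⟩ := hi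
      have e : ∀ l, (lead (φ l) A B n).coeff i = cf (φ l) (i, j) := fun l => coeff_lead (φ l) hA hB (x := (i, j)) hj
      rw [e, e]
      by_cases hmem : (i, j) ∈ supp φ
      · obtain ⟨c, -, hc⟩ := hall _ hmem hj
        have h1 : ∀ l, cf (φ l) (i, j) = c * a l := fun l => congrFun hc l
        rw [h1, h1]
        field_simp
      · rw [cf_eq_zero_of_notMem hmem, cf_eq_zero_of_notMem hmem, mul_zero, mul_zero]
    · push Not at hi
      rw [coeff_lead_eq_zero (φ l) fun j hj => absurd hj (hi j), coeff_lead_eq_zero (φ l₀) fun j hj => absurd hj (hi j),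
        mul_zero, mul_zero]
  refine ⟨_, ?_, key⟩
  intro h0
  obtain ⟨z, hz, hzn⟩ := hex
  apply hz
  funext l
  have h1 := coeff_lead (φ l) hA hB hzn
  rw [key l, h0, mul_zero, Polynomial.coeff_zero] at h1
  exact h1.symm

lemma natDegree_lead_le (f : MvPowerSeries (Fin 2) k) {A B : ℕ} {n d : ℕ}
    (h : ∀ i j, A * i + B * j = n → d < i → cf f (i, j) = 0) : (lead f A B n).natDegree ≤ d := by
  rw [Polynomial.natDegree_le_iff_coeff_eq_zero]
  intro i hi
  exact coeff_lead_eq_zero f fun j hj => h i j hj hi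

/-- The limit along the exceptional curve, near the point `c`. -/
lemma exists_exc {φ : ι → MvPowerSeries (Fin 2) k} {a : ι → k} (ha : a ≠ 0) (c : k) {A B : ℕ}
    {n : ℕ} (H : Polynomial k) (hH0 : H ≠ 0)
    (hH : ∀ l, lead (φ l) A B n = Polynomial.C (a l) * H) (φ' : ι → MvPowerSeries (Fin 2) k)
    (hφ' : ∀ l i j, cf (φ' l) (i, j) = (Polynomial.taylor c (lead (φ l) A B (n + j))).coeff i) :
    ∃ (μ : ℕ) (a' : ι → k), LeadAt (fun l => pz k (sw k (φ' l))) μ a' ∧ Prp a a' ∧ μ ≤ H.natDegree ∧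
      (H.eval c = 0 → 1 ≤ μ) ∧ (0, μ) ∈ supp (fun l => sw k (φ' l)) := by
  classical
  have hT : Polynomial.taylor c H ≠ 0 := by
    rw [Ne, Polynomial.taylor_eq_zero]
    exact hH0
  have hex : ∃ i, (Polynomial.taylor c H).coeff i ≠ 0 := by
    by_contra hcon
    push Not at hcon
    exact hT (Polynomial.ext fun i => by rw [hcon i, Polynomial.coeff_zero])
  have hcf : ∀ l i, cf (φ' l) (i, 0) = a l * (Polynomial.taylor c H).coeff i := by
    intro l i
    rw [hφ', add_zero, hH, Polynomial.taylor_mul, Polynomial.taylor_C, Polynomial.coeff_C_mul]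
  let μ := Nat.find hex
  have hμ : (Polynomial.taylor c H).coeff μ ≠ 0 := Nat.find_spec hex
  have hmin : ∀ i < μ, (Polynomial.taylor c H).coeff i = 0 := fun i hi => by
    have := Nat.find_min hex hi
    push Not at this
    exact this
  have hlead : LeadAt (fun l => pz k (sw k (φ' l))) μ ((Polynomial.taylor c H).coeff μ • a) := by
    refine ⟨smul_ne_zero hμ ha, fun l => ?_, fun j hj l => ?_⟩
    · rw [coeff_pz, cf_sw, hcf, mul_comm]
      rfl
    · rw [coeff_pz, cf_sw, hcf, hmin j hj, mul_zero]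
  refine ⟨μ, _, hlead, ⟨_, hμ, rfl⟩, ?_, fun h0 => ?_, ?_⟩
  · have h1 := Polynomial.le_natDegree_of_ne_zero hμ
    rwa [Polynomial.natDegree_taylor] at h1
  · by_contra hcon
    apply hμ
    have : μ = 0 := by omega
    rw [this, Polynomial.taylor_coeff_zero, h0]
  · have h1 : cv (fun l => sw k (φ' l)) (0, μ) = (Polynomial.taylor c H).coeff μ • a := by
      funext l
      have := hlead.2.1 l
      rw [coeff_pz] at this
      exact this
    change cv _ _ ≠ 0
    rw [h1]
    exact hlead.1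

/-- The step: all coefficient vectors of the leading form are multiples of `a`; blow up and follow the arc. -/
theorem core {u : L} {φ : ι → MvPowerSeries (Fin 2) k} {a b : ι → k} (ha : a ≠ 0) {m : ℕ}
    (hm : 1 ≤ m) (hsup : ∀ z ∈ supp φ, m ≤ 1 * z.1 + 1 * z.2)
    (hall : ∀ z ∈ supp φ, 1 * z.1 + 1 * z.2 = m → Prp a (cv φ z))
    (hex : ∃ z ∈ supp φ, 1 * z.1 + 1 * z.2 = m)
    (γ : MvPowerSeries (Fin 2) k →ₐ[k] PowerSeries k) (y : PowerSeries k) (hy : γ (X 0) = γ (X 1) * y)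
    (hγ : γ (X 1) ≠ 0) {w : ℕ} (hb : LeadAt (fun l => γ (φ l)) w b) (hab : ¬ Prp a b) :
    ∃ (φ' : ι → MvPowerSeries (Fin 2) k) (γ' : MvPowerSeries (Fin 2) k →ₐ[k] PowerSeries k) (w' : ℕ) (a' b' : ι → k)
      (x : ℕ × ℕ), w' < w ∧ LeadAt (fun l => γ' (φ' l)) w' b' ∧ IsLead (fun l => pz k (φ' l)) a' ∧ Prp a a' ∧
        ¬ Prp a' b' ∧ x ∈ supp φ' ∧ x.1 + x.2 ≤ m ∧ ∀ q, Lk u φ' a' q → Lk u φ a q := by
  obtain ⟨H, hH0, hH⟩ := exists_H ha one_pos one_pos hall hex
  obtain ⟨γ', hγ', hγ1⟩ := exists_lift γ y hy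
  obtain ⟨φ', hφ', hcf⟩ := exists_transform (PowerSeries.constantCoeff y) one_pos one_pos hsup
  obtain ⟨μ, a', hlead, haa', hμ, -, hmem⟩ := exists_exc ha (PowerSeries.constantCoeff y) H hH0 hH φ' hcf
  have hdeg : H.natDegree ≤ m := by
    obtain ⟨l₀, hl₀⟩ : ∃ l, a l ≠ 0 := by
      by_contra hcon
      push Not at hcon
      exact ha (funext hcon)
    have h1 := natDegree_lead_le (φ l₀) (A := 1) (B := 1) (n := m) (d := m) (fun i j hij hi => by omega)
    rwa [hH, Polynomial.natDegree_C_mul hl₀] at h1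
  -- the arc
  have hW : (γ (X 1)) ^ m ≠ 0 := pow_ne_zero _ hγ
  obtain ⟨p, hp, hp'⟩ := exists_order hW
  have hmul : ∀ l, γ (φ l) = (γ (X 1)) ^ m * γ' (φ' l) := by
    intro l
    rw [← hγ' (φ l), hφ' l, map_mul, map_pow, hγ1, mul_comm]
  obtain ⟨w', b', hb', hw, hbb'⟩ := LeadAt.of_mul hp hp' hmul hb
  have hp1 : 1 ≤ p := by
    by_contra hcon
    apply hp
    have : p = 0 := by omega
    rw [this, PowerSeries.coeff_zero_eq_constantCoeff_apply, map_pow, constantCoeff_arc, constantCoeff_X,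
      zero_pow (by omega)]
  refine ⟨fun l => sw k (φ' l), γ'.comp (sw k), w', a', b', (0, μ), by omega, ?_, hlead.isLead, haa', ?_, hmem, ?_, ?_⟩
  · simp only [AlgHom.comp_apply, sw_sw]
    exact hb'
  · intro h
    exact hab (haa'.trans (h.trans hbb'.symm))
  · simp only
    omega
  · intro q hq
    refine Lk.prp ?_ haa'.symm
    refine Lk.comp (bl k (PowerSeries.constantCoeff y) one_pos one_pos) (bl_injective _ _ _) (constantCoeff_bl _ _ _) ?_
    refine Lk.of_mul (φ' := φ') (X 1 ^ m) (pow_ne_zero _ X1_ne_zero) (fun l => by rw [hφ' l, mul_comm]) ?_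
    exact Lk.comp (sw k) sw_injective constantCoeff_sw hq

/-- The leading form has a coefficient vector which is not a multiple of `a`. -/
theorem lk_of_leading_form {u : L} (hu : Transcendental k u) {φ : ι → MvPowerSeries (Fin 2) k} {a : ι → k}
    (ha : IsLead (fun l => pz k (φ l)) a) {m : ℕ} (hsup : ∀ z ∈ supp φ, m ≤ 1 * z.1 + 1 * z.2)
    (y : ℕ × ℕ) (hy : y ∈ supp φ) (hym : 1 * y.1 + 1 * y.2 = m) (hya : ¬ Prp a (cv φ y)) :
    ∃ q ≤ m, Lk u φ a q := by
  classical
  have hex : ∃ i, ∃ j, (i, j) ∈ supp φ ∧ 1 * i + 1 * j = m := ⟨y.1, y.2, hy, hym⟩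
  let q₀ := Nat.find hex
  obtain ⟨j₀, hj₀, hq₀⟩ : ∃ j, (q₀, j) ∈ supp φ ∧ 1 * q₀ + 1 * j = m := Nat.find_spec hex
  have hmin : ∀ i < q₀, ∀ j, 1 * i + 1 * j = m → (i, j) ∉ supp φ := fun i hi j hij hmem =>
    Nat.find_min hex hi ⟨j, hmem, hij⟩
  by_cases hp : Prp a (cv φ (q₀, j₀))
  · refine ⟨m - q₀, Nat.sub_le _ _, lk_of_weight hu φ a one_pos one_pos hsup (q₀, j₀) hq₀ hp ?_ y hy hym hya⟩
    intro z hz hzm
    refine ⟨?_, by simp only; omega⟩
    by_contra hcon
    exact hmin z.1 (by simp only at hcon; omega) z.2 hzm hz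
  · obtain ⟨φ', hφ', hcf⟩ := exists_transform (0 : k) one_pos one_pos hsup
    obtain ⟨p, ha0, hap, hap'⟩ := ha
    have hpm : m ≤ p := by
      have h1 : (0, p) ∈ supp φ := by
        intro h
        apply ha0
        funext l
        rw [← hap l, coeff_pz]
        exact congrFun h l
      have := hsup _ h1
      simp only at this
      omega
    have hcf' : ∀ l i j, cf (φ' l) (i, j) = (lead (φ l) 1 1 (m + j)).coeff i := by
      intro l i j
      rw [hcf, Polynomial.taylor_zero]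
    have h1 : cv φ' (0, p - m) = a := by
      funext l
      change cf (φ' l) (0, p - m) = a l
      rw [hcf', ← hap l, coeff_pz, Nat.add_sub_cancel' hpm]
      exact coeff_lead (φ l) one_pos one_pos (x := (0, p)) (by simp)
    have h2 : ∀ j < p - m, cv φ' (0, j) = 0 := by
      intro j hj
      funext l
      change cf (φ' l) (0, j) = 0
      rw [hcf']
      have h3 := hap' (m + j) (by omega) l
      rw [coeff_pz] at h3
      rw [← h3]
      exact coeff_lead (φ l) one_pos one_pos (x := (0, m + j)) (by simp)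
    have h3 : cv φ' (q₀, 0) = cv φ (q₀, j₀) := by
      funext l
      change cf (φ' l) (q₀, 0) = _
      rw [hcf', add_zero]
      exact coeff_lead (φ l) one_pos one_pos (x := (q₀, j₀)) hq₀
    have h4 : ∀ i < q₀, cv φ' (i, 0) = 0 := by
      intro i hi
      funext l
      change cf (φ' l) (i, 0) = _
      rw [hcf', add_zero]
      exact coeff_lead_eq_zero (φ l) fun j hj => cf_eq_zero_of_notMem (hmin i hi j hj) l
    have h5 := lk_left hu φ' ha0 hj₀ h1 h2 h3 h4 hp
    refine ⟨q₀, by omega, ?_⟩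
    refine Lk.comp (bl k (0 : k) one_pos one_pos) (bl_injective _ _ _) (constantCoeff_bl _ _ _) ?_
    exact Lk.of_mul (φ' := φ') (X 1 ^ m) (pow_ne_zero _ X1_ne_zero) (fun l => by rw [hφ' l, mul_comm]) h5

lemma mem_supp_sw {φ : ι → MvPowerSeries (Fin 2) k} (z : ℕ × ℕ) :
    z ∈ supp (fun l => sw k (φ l)) ↔ (z.2, z.1) ∈ supp φ := by
  have h : cv (fun l => sw k (φ l)) z = cv φ (z.2, z.1) := funext fun l => cf_sw (φ l) z.1 z.2
  rw [supp, supp, Set.mem_ofPred_eq, Set.mem_ofPred_eq, h]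

lemma cv_sw {φ : ι → MvPowerSeries (Fin 2) k} (z : ℕ × ℕ) :
    cv (fun l => sw k (φ l)) z = cv φ (z.2, z.1) := funext fun l => cf_sw (φ l) z.1 z.2

/-- **Claim L.** -/
theorem claimL {u : L} (hu : Transcendental k u) (w : ℕ) : ∀ (φ : ι → MvPowerSeries (Fin 2) k) (a b : ι → k)
    (γ : MvPowerSeries (Fin 2) k →ₐ[k] PowerSeries k) (_ : LeadAt (fun l => γ (φ l)) w b)
    (_ : IsLead (fun l => pz k (φ l)) a) (_ : ¬ Prp a b) (x : ℕ × ℕ) (_ : x ∈ supp φ),
    ∃ q ≤ x.1 + x.2, Lk u φ a q := by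
  classical
  induction w using Nat.strong_induction_on with
  | _ w ih =>
  intro φ a b γ hb ha hab x hx
  have hex : ∃ m, ∃ z ∈ supp φ, 1 * z.1 + 1 * z.2 = m := ⟨_, x, hx, rfl⟩
  let m := Nat.find hex
  obtain ⟨z₀, hz₀, hz₀m⟩ : ∃ z ∈ supp φ, 1 * z.1 + 1 * z.2 = m := Nat.find_spec hex
  have hsup : ∀ z ∈ supp φ, m ≤ 1 * z.1 + 1 * z.2 := fun z hz => Nat.find_min' hex ⟨z, hz, rfl⟩
  have ha0 : a ≠ 0 := ha.choose_spec.1
  suffices h : ∃ q ≤ m, Lk u φ a q by
    obtain ⟨q, hq, h⟩ := h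
    have := hsup x hx
    exact ⟨q, by omega, h⟩
  rcases Nat.eq_zero_or_pos m with hm | hm
  · exfalso
    have hz : z₀ = (0, 0) := Prod.ext (by simp only; omega) (by simp only; omega)
    rw [hz] at hz₀
    have e1 : LeadAt (fun l => pz k (φ l)) 0 (cv φ (0, 0)) :=
      ⟨hz₀, fun l => by rw [coeff_pz]; rfl, fun j hj => absurd hj (Nat.not_lt_zero _)⟩
    have e2 : LeadAt (fun l => γ (φ l)) 0 (cv φ (0, 0)) :=
      ⟨hz₀, fun l => by
        rw [PowerSeries.coeff_zero_eq_constantCoeff_apply, constantCoeff_arc]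
        exact (cf_zero (φ l)).symm, fun j hj => absurd hj (Nat.not_lt_zero _)⟩
    obtain ⟨p, hp⟩ := ha
    have e3 := (LeadAt.unique e1 hp).2
    have e4 := (LeadAt.unique e2 hb).2
    exact hab (by rw [← e3, ← e4]; exact Prp.refl _)
  by_cases hall : ∀ z ∈ supp φ, 1 * z.1 + 1 * z.2 = m → Prp a (cv φ z)
  · have fin : ∀ (φ' : ι → MvPowerSeries (Fin 2) k) (γ' : MvPowerSeries (Fin 2) k →ₐ[k] PowerSeries k) (w' : ℕ)
        (a' b' : ι → k) (x : ℕ × ℕ) (_ : w' < w) (_ : LeadAt (fun l => γ' (φ' l)) w' b')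
        (_ : IsLead (fun l => pz k (φ' l)) a') (_ : ¬ Prp a' b') (_ : x ∈ supp φ') (_ : x.1 + x.2 ≤ m)
        (_ : ∀ q, Lk u φ' a' q → Lk u φ a q), ∃ q ≤ m, Lk u φ a q := by
      intro φ' γ' w' a' b' x hw' hb' ha' hab' hx' hxm hlk
      obtain ⟨q, hq, h⟩ := ih w' hw' φ' a' b' γ' hb' ha' hab' x hx'
      exact ⟨q, hq.trans hxm, hlk q h⟩
    have hzero : γ (X 0) = 0 → γ (X 1) = 0 → False := by
      intro h0 h1
      apply hb.1
      funext l
      rw [← hb.2.1 l]
      have h2 : constantCoeff (φ l) = 0 := by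
        rw [← cf_zero]
        apply cf_eq_zero_of_notMem
        intro hmem
        have := hsup _ hmem
        simp only at this
        omega
      have h3 := arc_eq_zero γ h0 h1 (φ l) h2
      change PowerSeries.coeff w (γ (φ l)) = 0
      rw [h3, map_zero]
    rcases ValuationRing.dvd_total (γ (X 1)) (γ (X 0)) with ⟨y, hy⟩ | ⟨y, hy⟩
    · have h1 : γ (X 1) ≠ 0 := fun h => hzero (by rw [hy, h, zero_mul]) h
      obtain ⟨φ', γ', w', a', b', x, g1, g2, g3, g4, g5, g6, g7, g8⟩ :=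
        core (u := u) ha0 hm hsup hall ⟨z₀, hz₀, hz₀m⟩ γ y hy h1 hb hab
      exact fin φ' γ' w' a' b' x g1 g2 g3 g5 g6 g7 g8
    · have h1 : γ (X 0) ≠ 0 := fun h => hzero h (by rw [hy, h, zero_mul])
      obtain ⟨φ', γ', w', a', b', x, g1, g2, g3, g4, g5, g6, g7, g8⟩ :=
        core (u := u) (φ := fun l => sw k (φ l)) ha0 hm
          (fun z hz => by
            have := hsup _ ((mem_supp_sw z).1 hz)
            simp only at this
            omega)
          (fun z hz hzm => by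
            rw [cv_sw]
            exact hall _ ((mem_supp_sw z).1 hz) (by simp only; omega))
          ⟨(z₀.2, z₀.1), (mem_supp_sw _).2 hz₀, by simp only; omega⟩
          (γ.comp (sw k)) y (by rw [AlgHom.comp_apply, AlgHom.comp_apply, sw_X0, sw_X1, hy])
          (by rw [AlgHom.comp_apply, sw_X1]; exact h1)
          (w := w) (b := b) (by simp only [AlgHom.comp_apply, sw_sw]; exact hb) hab
      exact fin φ' γ' w' a' b' x g1 g2 g3 g5 g6 g7 fun q hq =>
        Lk.comp (sw k) sw_injective constantCoeff_sw (g8 q hq)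
  · push Not at hall
    obtain ⟨y, hy, hym, hya⟩ := hall
    exact lk_of_leading_form hu ha hsup y hy hym hya

end K329.ClaimL
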