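import Groth.Agent.Curves.K329.Eqn
import Mathlib.RingTheory.FiniteType

/-!
# The parameter algebra of tuples of polynomials satisfying the equations of `X ⊆ P^N`

`A ι j m e`: the `k`-algebra of finite type classifying tuples `H_l(u)`, `l ≤ N`, of polynomials of degree at most `e` with
`F(H) = 0` for all equations `F` of `X`, `H_j(0) = 1`, the coefficient of `u^e` of `H_j` zero and that of `H_m` invertible.
-/

set_option autoImplicit false
universe u

open CategoryTheory AlgebraicGeometry

namespace K329.ParamAlg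

open CohB1 K329.Pt K329.Eqn

variable {k : Type u} [Field k] {N : ℕ} {X : Scheme.{u}}

noncomputable section

/-- the polynomial ring in the coefficients -/
abbrev PR (k : Type u) [Field k] (N e : ℕ) : Type u := MvPolynomial (Option (Fin (e + 1) × Fin (N + 1))) k

/-- the coefficient of `u^i` of `H_l` -/
def xx (k : Type u) [Field k] (N e : ℕ) (i : ℕ) (l : Fin (N + 1)) : PR k N e :=
  if h : i < e + 1 then MvPolynomial.X (some (⟨i, h⟩, l)) else 0

/-- the polynomial `∑_{i ≤ e} c i u^i` -/
def pol {R : Type u} [CommRing R] (e : ℕ) (c : ℕ → R) : Polynomial R :=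
  ∑ i ∈ Finset.range (e + 1), Polynomial.C (c i) * Polynomial.X ^ i

lemma coeff_pol {R : Type u} [CommRing R] (e : ℕ) (c : ℕ → R) (i : ℕ) :
    (pol e c).coeff i = if i ≤ e then c i else 0 := by
  rw [pol, Polynomial.finsetSum_coeff]
  simp only [Polynomial.coeff_C_mul_X_pow]
  rw [Finset.sum_ite_eq]
  by_cases h : i ≤ e
  · rw [if_pos (Finset.mem_range.2 (by omega)), if_pos h]
  · rw [if_neg (fun h' => h (by have := Finset.mem_range.1 h'; omega)), if_neg h]

lemma map_pol {R S : Type u} [CommRing R] [CommRing S] (f : R →+* S) (e : ℕ) (c : ℕ → R) :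
    (pol e c).map f = pol e (fun i => f (c i)) := by
  ext i
  rw [Polynomial.coeff_map, coeff_pol, coeff_pol]
  split_ifs
  · rfl
  · exact map_zero f

/-- the value of a form on a tuple of polynomials -/
def val {R : Type u} [CommRing R] [Algebra k R] (h : Fin (N + 1) → Polynomial R) (F : MvPolynomial (Fin (N + 1)) k) :
    Polynomial R := MvPolynomial.eval₂ (Polynomial.C.comp (algebraMap k R)) h F

lemma map_val {R S : Type u} [CommRing R] [Algebra k R] [CommRing S] [Algebra k S] (f : R →ₐ[k] S)
    (h : Fin (N + 1) → Polynomial R) (F : MvPolynomial (Fin (N + 1)) k) :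
    (val h F).map (f : R →+* S) = val (fun l => (h l).map (f : R →+* S)) F := by
  have h1 := MvPolynomial.hom_eval₂ F (Polynomial.C.comp (algebraMap k R)) (Polynomial.mapRingHom (f : R →+* S)) h
  rw [Polynomial.coe_mapRingHom] at h1
  rw [val, h1, val]
  congr 1
  ext c
  simp

lemma val_smul {R : Type u} [CommRing R] [Algebra k R] (v : Polynomial R) (h : Fin (N + 1) → Polynomial R)
    {F : MvPolynomial (Fin (N + 1)) k} {d : ℕ} (hF : F ∈ polyGrading N k d) :
    val (fun l => v * h l) F = v ^ d * val h F := by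
  have h' := (MvPolynomial.mem_homogeneousSubmodule d F).1 hF
  rw [val, val, MvPolynomial.eval₂_eq', MvPolynomial.eval₂_eq', Finset.mul_sum]
  apply Finset.sum_congr rfl
  intro s hs
  have hd : ∑ j, s j = d := by
    have := h' (MvPolynomial.mem_support_iff.1 hs)
    rw [← this, Finsupp.weight_apply, Finsupp.sum_fintype _ _ (by simp)]
    simp
  rw [← hd, ← Finset.prod_pow_eq_pow_sum]
  simp only [mul_pow, Finset.prod_mul_distrib]
  ring

/-- the relations -/
def relSet (ι : X ⟶ ProjSpace N k) (j m : Fin (N + 1)) (e : ℕ) : Set (PR k N e) :=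
  {p | p = xx k N e 0 j - 1 ∨ p = xx k N e e j ∨ p = MvPolynomial.X none * xx k N e e m - 1 ∨
    ∃ F d n, IsEqn ι F d ∧ p = (val (fun l => pol e (fun i => xx k N e i l)) F).coeff n}

/-- the parameter algebra -/
abbrev A (ι : X ⟶ ProjSpace N k) (j m : Fin (N + 1)) (e : ℕ) : Type u :=
  PR k N e ⧸ Ideal.span (relSet ι j m e)

/-- the coefficients of the universal tuple -/
def ux (ι : X ⟶ ProjSpace N k) (j m : Fin (N + 1)) (e : ℕ) (i : ℕ) (l : Fin (N + 1)) : A ι j m e :=
  Ideal.Quotient.mkₐ k (Ideal.span (relSet ι j m e)) (xx k N e i l)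

variable (ι : X ⟶ ProjSpace N k) (j m : Fin (N + 1)) (e : ℕ)

instance : Algebra.FiniteType k (A ι j m e) :=
  Algebra.FiniteType.of_surjective (Ideal.Quotient.mkₐ k (Ideal.span (relSet ι j m e)))
    (Ideal.Quotient.mkₐ_surjective k _)

lemma mk_eq_zero {p : PR k N e} (hp : p ∈ relSet ι j m e) :
    Ideal.Quotient.mkₐ k (Ideal.span (relSet ι j m e)) p = 0 :=
  Ideal.Quotient.eq_zero_iff_mem.2 (Ideal.subset_span hp)

lemma ux_zero : ux ι j m e 0 j = 1 := by
  have h := mk_eq_zero ι j m e (p := xx k N e 0 j - 1) (Or.inl rfl)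
  rw [map_sub, map_one, sub_eq_zero] at h
  exact h

lemma ux_last : ux ι j m e e j = 0 := mk_eq_zero ι j m e (Or.inr (Or.inl rfl))

lemma isUnit_ux : IsUnit (ux ι j m e e m) := by
  have h := mk_eq_zero ι j m e (p := MvPolynomial.X none * xx k N e e m - 1) (Or.inr (Or.inr (Or.inl rfl)))
  rw [map_sub, map_one, sub_eq_zero, map_mul] at h
  exact IsUnit.of_mul_eq_one _ ((mul_comm _ _).trans h)

lemma val_ux {F : MvPolynomial (Fin (N + 1)) k} {d : ℕ} (hF : IsEqn ι F d) :
    val (fun l => pol e (fun i => ux ι j m e i l)) F = 0 := by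
  have h1 := map_val (Ideal.Quotient.mkₐ k (Ideal.span (relSet ι j m e)))
    (fun l => pol e (fun i => xx k N e i l)) F
  have h2 : (fun l => (pol e (fun i => xx k N e i l)).map
      ((Ideal.Quotient.mkₐ k (Ideal.span (relSet ι j m e)) : PR k N e →ₐ[k] A ι j m e) : PR k N e →+* A ι j m e)) =
      fun l => pol e (fun i => ux ι j m e i l) := by
    funext l
    rw [map_pol]
    rfl
  rw [h2] at h1
  rw [← h1]
  ext n
  rw [Polynomial.coeff_map, Polynomial.coeff_zero]
  exact mk_eq_zero ι j m e (Or.inr (Or.inr (Or.inr ⟨F, d, n, hF, rfl⟩)))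

/-- points of the parameter algebra from tuples -/
theorem exists_hom {R : Type u} [CommRing R] [Algebra k R] (c : ℕ → Fin (N + 1) → R) (hj : c 0 j = 1) (hj' : c e j = 0)
    (v : R) (hm : v * c e m = 1) (hF : ∀ F d, IsEqn ι F d → val (fun l => pol e (fun i => c i l)) F = 0) :
    ∃ τ : A ι j m e →ₐ[k] R, ∀ i ≤ e, ∀ l, τ (ux ι j m e i l) = c i l := by
  let f : PR k N e →ₐ[k] R := MvPolynomial.aeval fun x => match x with
    | none => v
    | some (i, l) => c i l
  have hf : ∀ i ≤ e, ∀ l, f (xx k N e i l) = c i l := by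
    intro i hi l
    rw [xx, dif_pos (by omega)]
    exact MvPolynomial.aeval_X _ _
  have hfn : f (MvPolynomial.X none) = v := MvPolynomial.aeval_X _ _
  have hrel : ∀ p ∈ Ideal.span (relSet ι j m e), f p = 0 := by
    intro p hp
    refine (Ideal.span_le.2 ?_ : Ideal.span (relSet ι j m e) ≤ RingHom.ker f) hp
    rintro p (rfl | rfl | rfl | ⟨F, d, n, hFd, rfl⟩)
    · change f _ = 0
      rw [map_sub, map_one, hf 0 (Nat.zero_le _), hj, sub_self]
    · change f _ = 0
      rw [hf e le_rfl, hj']
    · change f _ = 0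
      rw [map_sub, map_one, map_mul, hfn, hf e le_rfl, hm, sub_self]
    · change f _ = 0
      have h1 := map_val f (fun l => pol e (fun i => xx k N e i l)) F
      have h2 : (fun l => (pol e (fun i => xx k N e i l)).map (f : PR k N e →+* R)) =
          fun l => pol e (fun i => c i l) := by
        funext l
        rw [map_pol]
        ext i
        rw [coeff_pol, coeff_pol]
        split_ifs with hi
        · exact hf i hi l
        · rfl
      rw [h2, hF F d hFd] at h1
      have h3 := congrArg (fun p => Polynomial.coeff p n) h1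
      simp only [Polynomial.coeff_map, Polynomial.coeff_zero] at h3
      exact h3
  refine ⟨Ideal.Quotient.liftₐ _ f hrel, fun i hi l => ?_⟩
  exact (Ideal.Quotient.liftₐ_apply _ _ _ _).trans (hf i hi l)

/-- the evaluation at `0` -/
def ev0 : Spec (CommRingCat.of (A ι j m e)) ⟶ ProjSpace N k :=
  pt k (fun l => ux ι j m e 0 l) j (by rw [ux_zero]; exact isUnit_one)

lemma ev0_toSpec : ev0 ι j m e ≫ ProjSpace.toSpec N k = Spec.map (CommRingCat.ofHom (algebraMap k (A ι j m e))) :=
  pt_toSpec k _ _ _

end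

end K329.ParamAlg
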