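import Groth.Agent.Curves.K329.DegPoly
import Groth.Agent.Curves.K329.ParamAlg
import Mathlib.AlgebraicGeometry.AlgClosed.Basic
import Mathlib.FieldTheory.IsAlgClosed.Basic

/-!
# A rational curve through a point gives a point of the parameter algebra

`mem_range_of_curve`: if a closed point `x` with `x_j ≠ 0` lies on a nonconstant rational curve of degree at most `d`,
then it is in the image of the evaluation at `0` of the parameter algebra for some `e ≤ d`.
-/

set_option autoImplicit false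
universe u

open CategoryTheory AlgebraicGeometry IsLocalRing

namespace K329.Reparam

open CohB1 K329.Pt K329.P1Gen K329.Homog K329.Curve K329.Deg K329.DegPoly K329.Limit K329.Eqn K329.ParamAlg

variable {k : Type u} [Field k] {N : ℕ}

/-- substituting a line in a form of degree `e` -/
noncomputable def line (α γ : Fin (1 + 1) → k) (G : MvPolynomial (Fin (1 + 1)) k) : Polynomial k :=
  MvPolynomial.eval₂ Polynomial.C (fun i => Polynomial.C (α i) + Polynomial.C (γ i) * Polynomial.X) G

lemma natDegree_lin (a c : k) : (Polynomial.C a + Polynomial.C c * Polynomial.X).natDegree ≤ 1 := by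
  refine (Polynomial.natDegree_add_le _ _).trans ?_
  rw [Polynomial.natDegree_C]
  simp only [Nat.zero_le, sup_of_le_right]
  exact (Polynomial.natDegree_C_mul_le _ _).trans Polynomial.natDegree_X_le

lemma line_spec (α γ : Fin (1 + 1) → k) {G : MvPolynomial (Fin (1 + 1)) k} {e : ℕ} (hG : G.IsHomogeneous e) :
    (line α γ G).natDegree ≤ e ∧ (line α γ G).coeff e = ev k γ G := by
  have h2 : ∀ d ∈ G.support, d 0 + d 1 = e := by
    intro d hd
    have := hG (MvPolynomial.mem_support_iff.1 hd)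
    rw [← this, Finsupp.weight_apply, Finsupp.sum_fintype _ _ (by simp)]
    simp [Fin.sum_univ_two]
  have h3 : ∀ d ∈ G.support, (Polynomial.C (G.coeff d) *
      ∏ i, (Polynomial.C (α i) + Polynomial.C (γ i) * Polynomial.X) ^ d i).natDegree ≤ e ∧
      (Polynomial.C (G.coeff d) *
        ∏ i, (Polynomial.C (α i) + Polynomial.C (γ i) * Polynomial.X) ^ d i).coeff e =
        G.coeff d * ∏ i, γ i ^ d i := by
    intro d hd
    have hp : ∀ i : Fin (1 + 1), ((Polynomial.C (α i) + Polynomial.C (γ i) * Polynomial.X) ^ d i).natDegree ≤ d i := by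
      intro i
      refine Polynomial.natDegree_pow_le.trans ?_
      have := natDegree_lin (α i) (γ i)
      calc d i * _ ≤ d i * 1 := Nat.mul_le_mul_left _ this
        _ = d i := mul_one _
    have hc : ∀ i : Fin (1 + 1), ((Polynomial.C (α i) + Polynomial.C (γ i) * Polynomial.X) ^ d i).coeff (d i) =
        γ i ^ d i := by
      intro i
      have h4 := Polynomial.coeff_pow_of_natDegree_le (m := d i) (natDegree_lin (α i) (γ i))
      rw [mul_one] at h4
      rw [h4]
      congr 1
      simp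
    constructor
    · refine (Polynomial.natDegree_C_mul_le _ _).trans ?_
      rw [Fin.prod_univ_two, ← h2 d hd]
      exact Polynomial.natDegree_mul_le_of_le (hp 0) (hp 1)
    · rw [Polynomial.coeff_C_mul, Fin.prod_univ_two, Fin.prod_univ_two, ← h2 d hd,
        Polynomial.coeff_mul_add_eq_of_natDegree_le (hp 0) (hp 1), hc, hc]
  have h1 : line α γ G = ∑ d ∈ G.support, Polynomial.C (G.coeff d) *
      ∏ i, (Polynomial.C (α i) + Polynomial.C (γ i) * Polynomial.X) ^ d i := by
    rw [line, MvPolynomial.eval₂_eq']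
  constructor
  · rw [h1]
    exact Polynomial.natDegree_sum_le_of_forall_le _ _ fun d hd => (h3 d hd).1
  · rw [h1, Polynomial.finsetSum_coeff, ev, MvPolynomial.coe_eval₂Hom, MvPolynomial.eval₂_eq']
    exact Finset.sum_congr rfl fun d hd => (h3 d hd).2

lemma line_coeff_zero (α γ : Fin (1 + 1) → k) (G : MvPolynomial (Fin (1 + 1)) k) :
    (line α γ G).coeff 0 = ev k α G := by
  rw [Polynomial.coeff_zero_eq_eval_zero, line]
  have h2 := MvPolynomial.hom_eval₂ G Polynomial.C (Polynomial.evalRingHom (0 : k))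
    (fun i => Polynomial.C (α i) + Polynomial.C (γ i) * Polynomial.X)
  rw [Polynomial.coe_evalRingHom] at h2
  rw [h2, ev, MvPolynomial.coe_eval₂Hom]
  congr 1
  · ext c
    simp
  · funext i
    simp

lemma line_ratFunc (α γ : Fin (1 + 1) → k) (G : MvPolynomial (Fin (1 + 1)) k) :
    ev k (fun i => algebraMap (Polynomial k) (RatFunc k) (Polynomial.C (α i) + Polynomial.C (γ i) * Polynomial.X)) G =
      algebraMap (Polynomial k) (RatFunc k) (line α γ G) := by
  rw [line, MvPolynomial.hom_eval₂, ev, MvPolynomial.coe_eval₂Hom]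
  rfl

lemma ev_infty {e : ℕ} {p : Polynomial k} (hp : p.natDegree ≤ e) :
    ev k (![0, 1] : Fin (1 + 1) → k) (hg e p) = p.coeff e := by
  obtain ⟨q, hq⟩ := exists_hg_eq hp
  rw [hq, map_add, map_mul, map_mul, map_pow, ev_X, ev_X, ev_C]
  simp

theorem mem_basicOpen_pt {M : ℕ} {B : Type u} [CommRing B] [Algebra k B] (b : Fin (M + 1) → B) (i : Fin (M + 1))
    (hi : IsUnit (b i)) {F : MvPolynomial (Fin (M + 1)) k} {d : ℕ} (hF : F ∈ polyGrading M k d) (hd : 0 < d)
    (y : Spec (CommRingCat.of B)) :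
    pt k b i hi y ∈ Proj.basicOpen (polyGrading M k) F ↔ ev k b F ∉ y.asIdeal := by
  have h1 : pt k b i hi y ∈ Proj.basicOpen (polyGrading M k) F ↔
      y ∈ pt k b i hi ⁻¹ᵁ Proj.basicOpen (polyGrading M k) F := Iff.rfl
  rw [h1, Eqn.preimage_basicOpen b i hi hF hd]
  have h2 : (Spec (CommRingCat.of B)).basicOpen (evΓ k b F) = PrimeSpectrum.basicOpen (ev k b F) :=
    basicOpen_eq_of_affine (R := CommRingCat.of B) (ev k b F)
  rw [h2]
  rfl

/-- A second point where the `j`-th form vanishes. -/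
theorem exists_second [IsAlgClosed k] (e : ℕ) (he : 0 < e) (h : Fin (N + 1) → Polynomial k)
    (hdeg : ∀ l, (h l).natDegree ≤ e) (hspan : Ideal.span (Set.range h) = ⊤) (l₁ : Fin (N + 1))
    (hl₁ : (h l₁).coeff e ≠ 0) (j : Fin (N + 1)) :
    ∃ (c : Fin (1 + 1) → k) (m : Fin (N + 1)), ev k c (hg e (h j)) = 0 ∧ ev k c (hg e (h m)) ≠ 0 := by
  by_cases hj : (h j).coeff e = 0
  · exact ⟨![0, 1], l₁, by rw [ev_infty (hdeg j), hj], by rw [ev_infty (hdeg l₁)]; exact hl₁⟩
  · have hnd : (h j).natDegree = e := le_antisymm (hdeg j) (Polynomial.le_natDegree_of_ne_zero hj)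
    have hd : (h j).degree ≠ 0 := by
      intro h0
      have h1 : (h j).natDegree = 0 := Polynomial.natDegree_eq_of_degree_eq_some h0
      omega
    obtain ⟨ρ, hρ⟩ := IsAlgClosed.exists_root (h j) hd
    have h1 : ∃ m, Polynomial.aeval ρ (h m) ≠ 0 := by
      by_contra hcon
      push Not at hcon
      have h2 : (1 : Polynomial k) ∈ Ideal.span (Set.range h) := hspan ▸ Submodule.mem_top
      obtain ⟨c, hc⟩ := (Ideal.mem_span_range_iff_exists_fun).1 h2
      have h3 := congrArg (Polynomial.aeval ρ) hc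
      rw [map_sum, map_one] at h3
      simp only [map_mul, hcon, mul_zero, Finset.sum_const_zero] at h3
      exact zero_ne_one h3
    obtain ⟨m, hm⟩ := h1
    refine ⟨one2 ρ, m, ?_, ?_⟩
    · rw [ev_one2 _ (hdeg j), Polynomial.coe_aeval_eq_eval]
      exact hρ
    · rwa [ev_one2 _ (hdeg m)]

theorem mem_range_of_curve [IsAlgClosed k] {X : Scheme.{u}} (pX : X ⟶ Spec (CommRingCat.of k)) [IsProper pX]
    (ι : X ⟶ ProjSpace N k) [IsClosedImmersion ι] (hι : ι ≫ ProjSpace.toSpec N k = pX) (j : Fin (N + 1)) (d : ℕ)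
    (x : X) (hx : IsClosed ({x} : Set X)) (hxj : ι x ∈ Proj.basicOpen (polyGrading N k) (MvPolynomial.X j))
    (r : ProjSpace 1 k ⟶ X) (hr : r ≫ pX = ProjSpace.toSpec 1 k) (hnc : ¬ ∃ y : X, Set.range r.base ⊆ {y})
    (hxr : x ∈ Set.range r.base)
    (hd : Curv2.deg k (ProjSpace 1 k) ((Scheme.Modules.pullback (r ≫ ι)).obj (Twist.twistProjSpace N k 1)) 1 ≤ d) :
    ∃ e ≤ d, ∃ m, ι x ∈ Set.range (ev0 ι j m e) := by
  have hrι : (r ≫ ι) ≫ ProjSpace.toSpec N k = ProjSpace.toSpec 1 k := by rw [Category.assoc, hι, hr]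
  obtain ⟨e, h, j₁, hj₁, hspan, hdeg, ⟨l₁, hl₁⟩, hgen, hde⟩ := exists_poly (r ≫ ι) hrι
  have hed : e ≤ d := by
    rw [hde] at hd
    exact_mod_cast hd
  obtain ⟨hval, -⟩ := value e h hdeg hspan l₁ hl₁ (r ≫ ι) hrι j₁ hj₁ hgen
  have hprop : IsProper (ProjSpace.toSpec N k) := Groth.Agent.VarietyB.ProjSpaceProper.isProper_toSpec N k
  have hprop1 : IsProper (ProjSpace.toSpec 1 k) := Groth.Agent.VarietyB.ProjSpaceProper.isProper_toSpec 1 k
  have hιinj : Function.Injective ι := ι.isClosedEmbedding.injective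
  -- the degree is positive
  have he : 0 < e := by
    rw [Nat.pos_iff_ne_zero]
    rintro rfl
    apply hnc
    have hC : ∀ l, h l = Polynomial.C ((h l).coeff 0) := fun l => Polynomial.eq_C_of_natDegree_le_zero (hdeg l)
    have hval0 : IsUnit ((h j₁).coeff 0) := by
      rw [isUnit_iff_ne_zero]
      intro h0
      have := hj₁
      rw [hC j₁, h0, Polynomial.C_0, map_zero] at this
      exact not_isUnit_zero this
    have h1 : r ≫ ι = ProjSpace.toSpec 1 k ≫ pt k (fun l => (h l).coeff 0) j₁ hval0 := by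
      apply ext_genP (ProjSpace.toSpec N k)
      · rw [hrι, Category.assoc, pt_toSpec]
        have : Spec.map (CommRingCat.ofHom (algebraMap k k)) = 𝟙 _ := Spec.map_id _
        rw [this, Category.comp_id]
      · rw [hgen, ← Category.assoc, genP_toSpec]
        refine (map_pt' k (Algebra.ofId k (RatFunc k)) _ j₁ hval0 _ (fun l => ?_) j₁ hj₁).symm
        conv_rhs => rw [hC l]
        rw [Polynomial.aeval_C]
        rfl
    obtain ⟨y₀⟩ : Nonempty (ProjSpace 1 k) := ⟨genP k (closedPoint (RatFunc k))⟩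
    refine ⟨r y₀, ?_⟩
    rintro _ ⟨y, rfl⟩
    apply hιinj
    have h2 : ∀ y, ι (r y) = pt k (fun l => (h l).coeff 0) j₁ hval0 (closedPoint k) := by
      intro y
      have h3 : (r ≫ ι) y = (ProjSpace.toSpec 1 k ≫ pt k (fun l => (h l).coeff 0) j₁ hval0) y := by rw [h1]
      rw [Scheme.Hom.comp_apply, Scheme.Hom.comp_apply] at h3
      rw [h3]
      congr 1
      exact Subsingleton.elim (α := PrimeSpectrum k) _ _
    exact (h2 y).trans (h2 y₀).symm
  -- a closed point of the projective line over `x`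
  obtain ⟨z, hz⟩ := hxr
  have hJ : JacobsonSpace (ProjSpace 1 k) := LocallyOfFiniteType.jacobsonSpace (ProjSpace.toSpec 1 k)
  obtain ⟨p, hp1, hp2⟩ := nonempty_inter_closedPoints (X := ProjSpace 1 k) (Z := r ⁻¹' {x})
    ⟨z, hz⟩ ((hx.preimage r.continuous).isLocallyClosed)
  let s₀ := pointOfClosedPoint (ProjSpace.toSpec 1 k) p hp2
  have hs₀ : s₀ ≫ ProjSpace.toSpec 1 k = Spec.map (CommRingCat.ofHom (algebraMap k k)) :=
    (pointOfClosedPoint_comp _ _ _).trans (Spec.map_id _).symm
  obtain ⟨α, i₁, hi₁, hα⟩ := exists_pt k s₀ hs₀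
  have hsx : ι ((s₀ ≫ r) (closedPoint k)) = ι x := by
    congr 1
    rw [Scheme.Hom.comp_apply]
    have : s₀ (closedPoint k) = p := pointOfClosedPoint_apply _ _ _ _
    rw [this]
    exact hp1
  -- the coordinates of `x`
  have hcp : ∀ (c : k), c ∉ (closedPoint k).asIdeal → c ≠ 0 := by
    rintro c hc rfl
    exact hc (Ideal.zero_mem _)
  have hsp : pt k α i₁ hi₁ (closedPoint k) = p := by
    rw [← hα]
    exact pointOfClosedPoint_apply _ _ _ _
  obtain ⟨l', hl'⟩ := exists_mem_basicOpen e h hdeg hspan l₁ hl₁ p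
  have hl'' : ev k α (hg e (h l')) ≠ 0 := by
    rw [← hsp] at hl'
    exact hcp _ ((mem_basicOpen_pt α i₁ hi₁ (hg_mem e (h l')) he (closedPoint k)).1 hl')
  have hG0 : s₀ ≫ r ≫ ι = pt k (fun l => ev k α (hg e (h l))) l' (isUnit_iff_ne_zero.2 hl'') := by
    rw [hα]
    exact hval α i₁ hi₁ l' (isUnit_iff_ne_zero.2 hl'')
  have hXj : (MvPolynomial.X j : MvPolynomial (Fin (N + 1)) k) ∈ polyGrading N k 1 :=
    Groth.Agent.Sga5.ProjChart.X_mem N k j
  have hιx' : ι x = (s₀ ≫ r ≫ ι) (closedPoint k) := by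
    rw [← hsx, ← Scheme.Hom.comp_apply, Category.assoc]
  have hxG : ev k α (hg e (h j)) ≠ 0 := by
    rw [hιx', hG0, mem_basicOpen_pt _ _ _ hXj Nat.one_pos, ev_X] at hxj
    exact hcp _ hxj
  have hG : s₀ ≫ r ≫ ι = pt k (fun l => ev k α (hg e (h l))) j (isUnit_iff_ne_zero.2 hxG) := by
    rw [hG0]
    exact pt_indep k _ _ _ _ _
  obtain ⟨γ, m, hγj, hγm⟩ := exists_second e he h hdeg hspan l₁ hl₁ j
  let H : Fin (N + 1) → Polynomial k := fun l => line α γ (hg e (h l))
  have hHd : ∀ l, (H l).natDegree ≤ e := fun l => (line_spec α γ (hg_isHomogeneous e (h l))).1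
  have hHe : ∀ l, (H l).coeff e = ev k γ (hg e (h l)) := fun l => (line_spec α γ (hg_isHomogeneous e (h l))).2
  have hH0 : ∀ l, (H l).coeff 0 = ev k α (hg e (h l)) := fun l => line_coeff_zero α γ _
  -- the equations
  have hHF : ∀ F d, IsEqn ι F d → val H F = 0 := by
    intro F d hFd
    let c : Fin (1 + 1) → RatFunc k :=
      fun i => algebraMap (Polynomial k) (RatFunc k) (Polynomial.C (α i) + Polynomial.C (γ i) * Polynomial.X)
    have hinj := RatFunc.algebraMap_injective k
    have hc1 : IsUnit (c i₁) := by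
      rw [isUnit_iff_ne_zero]
      change algebraMap (Polynomial k) (RatFunc k) _ ≠ 0
      rw [Ne, map_eq_zero_iff _ hinj]
      intro h0
      have := congrArg (fun p => Polynomial.coeff p 0) h0
      simp only [Polynomial.coeff_add, Polynomial.coeff_C_zero, Polynomial.mul_coeff_zero, Polynomial.coeff_X_zero,
        mul_zero, add_zero, Polynomial.coeff_zero] at this
      exact hi₁.ne_zero this
    have hev : ∀ l, ev k c (hg e (h l)) = algebraMap (Polynomial k) (RatFunc k) (H l) :=
      fun l => line_ratFunc α γ _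
    have hcj : IsUnit (ev k c (hg e (h j))) := by
      rw [hev, isUnit_iff_ne_zero, Ne, map_eq_zero_iff _ hinj]
      intro h0
      apply hxG
      rw [← hH0, h0, Polynomial.coeff_zero]
    have h1 : (pt k c i₁ hc1 ≫ r) ≫ ι = pt k (fun l => ev k c (hg e (h l))) j hcj := by
      rw [Category.assoc]
      exact hval c i₁ hc1 j hcj
    have h2 := ev_eq_zero ι _ j hcj _ h1 hFd
    simp only [hev] at h2
    apply hinj
    rw [map_zero]
    refine Eq.trans ?_ h2
    rw [val, MvPolynomial.hom_eval₂, ev, MvPolynomial.coe_eval₂Hom]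
    rfl
  let v : k := (ev k α (hg e (h j)))⁻¹
  let c : ℕ → Fin (N + 1) → k := fun i l => v * (H l).coeff i
  have hpol : ∀ l, pol e (fun i => c i l) = Polynomial.C v * H l := by
    intro l
    ext i
    rw [coeff_pol, Polynomial.coeff_C_mul]
    split_ifs with hi
    · rfl
    · rw [Polynomial.coeff_eq_zero_of_natDegree_lt (by have := hHd l; omega), mul_zero]
  have hcm : c e m ≠ 0 := by
    change v * (H m).coeff e ≠ 0
    rw [hHe]
    exact mul_ne_zero (inv_ne_zero hxG) hγm
  obtain ⟨τ, hτ⟩ := exists_hom ι j m e c (by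
      change v * (H j).coeff 0 = 1
      rw [hH0]
      exact inv_mul_cancel₀ hxG) (by
      change v * (H j).coeff e = 0
      rw [hHe, hγj, mul_zero]) (c e m)⁻¹ (inv_mul_cancel₀ hcm) (by
      intro F d hFd
      simp only [hpol]
      rw [val_smul _ _ hFd.2.1, hHF F d hFd, mul_zero])
  refine ⟨e, hed, m, Spec.map (CommRingCat.ofHom (τ : A ι j m e →+* k)) (closedPoint k), ?_⟩
  rw [← Scheme.Hom.comp_apply]
  have h1 : Spec.map (CommRingCat.ofHom (τ : A ι j m e →+* k)) ≫ ev0 ι j m e =
      pt k (fun l => ev k α (hg e (h l))) j (isUnit_iff_ne_zero.2 hxG) := by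
    have h2 : Spec.map (CommRingCat.ofHom (τ : A ι j m e →+* k)) ≫ ev0 ι j m e =
        pt k (fun l => τ (ux ι j m e 0 l)) j (by rw [ux_zero, map_one]; exact isUnit_one) :=
      map_pt k τ _ j _
    rw [h2]
    refine pt_smul k v (isUnit_iff_ne_zero.2 (inv_ne_zero hxG)) _ j (isUnit_iff_ne_zero.2 hxG) _ (fun l => ?_) j _
    rw [hτ 0 (Nat.zero_le _)]
    change v * (H l).coeff 0 = _
    rw [hH0]
  rw [h1, ← hG, ← hιx']

end K329.Reparam
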