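import Groth.Agent.Curves.K329.FamCurve
import Groth.Agent.Curves.K329.ArcOver
import Groth.Agent.Curves.K329.Reparam

/-!
# Closedness of the locus of rational curves of bounded degree

`exists_curve_of_mem_closure`: a closed point of `X` in the closure of the image of the evaluation at `0` of the
parameter space of tuples of degree at most `e` lies on a rational curve of degree at most `e`.
-/

set_option autoImplicit false
universe u

open CategoryTheory AlgebraicGeometry IsLocalRing

namespace K329.ClosRat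

open CohB1 K329.Pt K329.P1Gen K329.Link K329.Limit K329.ParamAlg K329.ArcThrough K329.ArcOver
open K329.FamCurve K329.Reparam

variable {k : Type u} [Field k] {N : ℕ}

/-- Clearing denominators of a finite family of Laurent series. -/
theorem exists_pow_mul {σ : Type} [Finite σ] (f : σ → LaurentSeries k) :
    ∃ n : ℕ, ∀ i, ∃ g : PowerSeries k, toL k g = toL k PowerSeries.X ^ n * f i := by
  obtain ⟨⟨_, n, rfl⟩, hb⟩ := IsLocalization.exist_integer_multiples_of_finite
    (Submonoid.powers (PowerSeries.X : PowerSeries k)) f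
  refine ⟨n, fun i => ?_⟩
  obtain ⟨g, hg⟩ := hb i
  refine ⟨g, ?_⟩
  have h1 : toL k g = algebraMap (PowerSeries k) (LaurentSeries k) g := rfl
  rw [h1, hg, Algebra.smul_def, map_pow]
  rfl

theorem exists_curve_of_mem_closure [IsAlgClosed k] {X : Scheme.{u}} (pX : X ⟶ Spec (CommRingCat.of k)) [IsProper pX]
    (ι : X ⟶ ProjSpace N k) [IsClosedImmersion ι] (hι : ι ≫ ProjSpace.toSpec N k = pX) (j m : Fin (N + 1)) (e : ℕ)
    (x : X) (hx : IsClosed ({x} : Set X)) (hxj : ι x ∈ Proj.basicOpen (polyGrading N k) (MvPolynomial.X j))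
    (hxc : ι x ∈ closure (Set.range (ev0 ι j m e))) :
    ∃ r : ProjSpace 1 k ⟶ X, r ≫ pX = ProjSpace.toSpec 1 k ∧ (¬ ∃ y : X, Set.range r.base ⊆ {y}) ∧
      x ∈ Set.range r.base ∧
      Curv2.deg k (ProjSpace 1 k) ((Scheme.Modules.pullback (r ≫ ι)).obj (Twist.twistProjSpace N k 1)) 1 ≤ e := by
  have hprop : IsProper (ProjSpace.toSpec N k) := Groth.Agent.VarietyB.ProjSpaceProper.isProper_toSpec N k
  have hιx : IsClosed ({ι x} : Set (ProjSpace N k)) := by
    have := ι.isClosedEmbedding.isClosedMap {x} hx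
    rwa [Set.image_singleton] at this
  obtain ⟨τ, β, hβ1, hβ2, hβ3⟩ := exists_arc_over (ProjSpace.toSpec N k) (ev0 ι j m e) (ev0_toSpec ι j m e) (ι x) hιx hxc
  obtain ⟨b₀, i₀, hi₀, hb₀⟩ := exists_pt k β hβ1
  have hXj : (MvPolynomial.X j : MvPolynomial (Fin (N + 1)) k) ∈ polyGrading N k 1 :=
    Groth.Agent.Sga5.ProjChart.X_mem N k j
  -- the coordinate `j` is invertible
  have hbj : IsUnit (b₀ j) := by
    rw [← hβ2, hb₀, mem_basicOpen_pt b₀ i₀ hi₀ hXj Nat.one_pos, ev_X] at hxj
    by_contra hcon
    exact hxj ((IsLocalRing.mem_maximalIdeal _).2 hcon)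
  obtain ⟨uj, huj⟩ := hbj
  let b : Fin (N + 1) → PowerSeries k := fun l => (↑uj⁻¹ : PowerSeries k) * b₀ l
  have hb1 : b j = 1 := by
    change (↑uj⁻¹ : PowerSeries k) * b₀ j = 1
    rw [← huj, Units.inv_mul]
  have hbju : IsUnit (b j) := by rw [hb1]; exact isUnit_one
  have hβ : β = pt k b j hbju := by
    rw [hb₀]
    exact (pt_smul k _ (uj⁻¹).isUnit b₀ i₀ hi₀ b (fun l => rfl) j hbju).symm
  -- the value of the universal tuple at zero
  have hx0 : ∀ l, τ (ux ι j m e 0 l) = toL k (b l) := by
    have h1 : Spec.map (CommRingCat.ofHom (toL k : PowerSeries k →+* LaurentSeries k)) ≫ β =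
        pt k (fun l => toL k (b l)) j (hbju.map (toL k)) := by
      rw [hβ]
      exact map_pt k (toL k) b j hbju
    have h2 : Spec.map (CommRingCat.ofHom (τ : A ι j m e →+* LaurentSeries k)) ≫ ev0 ι j m e =
        pt k (fun l => τ (ux ι j m e 0 l)) j (by rw [ux_zero, map_one]; exact isUnit_one) :=
      map_pt k τ _ j _
    rw [h1, h2] at hβ3
    obtain ⟨v, hv, hv'⟩ := exists_smul_of_pt_eq k _ _ hβ3
    have h3 := hv' j
    rw [ux_zero, map_one, hb1, map_one, mul_one] at h3
    intro l
    rw [hv' l, ← h3, one_mul]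
  let f : ℕ → Fin (N + 1) → LaurentSeries k := fun i l => τ (ux ι j m e i l)
  -- clearing denominators
  have hex : ∃ n : ℕ, ∀ i ≤ e, ∀ l, ∃ g : PowerSeries k, toL k g = toL k PowerSeries.X ^ n * f i l := by
    obtain ⟨n, hn⟩ := exists_pow_mul (k := k) (fun p : Fin (e + 1) × Fin (N + 1) => f p.1 p.2)
    refine ⟨n, fun i hi l => ?_⟩
    exact hn (⟨i, by omega⟩, l)
  classical
  let n := Nat.find hex
  have hn : ∀ i ≤ e, ∀ l, ∃ g : PowerSeries k, toL k g = toL k PowerSeries.X ^ n * f i l := Nat.find_spec hex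
  have hn' : ∀ n' < n, ¬ ∀ i ≤ e, ∀ l, ∃ g : PowerSeries k, toL k g = toL k PowerSeries.X ^ n' * f i l :=
    fun n' h => Nat.find_min hex h
  choose g₀ hg₀ using hn
  let g : Fin (N + 1) → ℕ → PowerSeries k := fun l i => if h : i ≤ e then g₀ i h l else 0
  have hg : ∀ i ≤ e, ∀ l, toL k (g l i) = toL k PowerSeries.X ^ n * f i l := by
    intro i hi l
    change toL k (if h : i ≤ e then g₀ i h l else 0) = _
    rw [dif_pos hi, hg₀]
  have hL := toL_injective k
  have hXL : toL k PowerSeries.X ≠ 0 := (map_ne_zero_iff _ hL).2 PowerSeries.X_ne_zero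
  have hg0 : ∀ l, g l 0 = PowerSeries.X ^ n * b l := by
    intro l
    apply hL
    rw [hg 0 (Nat.zero_le _), map_mul, map_pow]
    change _ * τ (ux ι j m e 0 l) = _
    rw [hx0]
  let a : Fin (N + 1) → k := fun l => PowerSeries.constantCoeff (b l)
  have haj : IsUnit (a j) := by
    change IsUnit (PowerSeries.constantCoeff (b j))
    rw [hb1, map_one]
    exact isUnit_one
  obtain ⟨r, hr1, hr2, hr3, hr4⟩ := exists_curve_of_family pX ι hι e n g a j haj (fun l s hs => by
      rw [hg0 l, PowerSeries.coeff_X_pow_mul', if_neg (by omega)]) (fun l => by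
      rw [hg0 l, PowerSeries.coeff_X_pow_mul', if_pos le_rfl, Nat.sub_self,
        PowerSeries.coeff_zero_eq_constantCoeff_apply]) (by
      by_contra hcon
      push Not at hcon
      rcases Nat.eq_zero_or_pos n with h0 | h0
      · have h1 : PowerSeries.coeff 0 (g j 0) = 0 := congrFun (hcon 0 (Nat.zero_le _)) j
        rw [hg0, h0, pow_zero, one_mul, hb1, PowerSeries.coeff_zero_eq_constantCoeff_apply, map_one] at h1
        exact one_ne_zero h1
      · apply hn' (n - 1) (by omega)
        intro i hi l
        have h1 : PowerSeries.constantCoeff (g l i) = 0 := by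
          rw [← PowerSeries.coeff_zero_eq_constantCoeff_apply]
          exact congrFun (hcon i hi) l
        obtain ⟨g', hg'⟩ := PowerSeries.X_dvd_iff.2 h1
        refine ⟨g', ?_⟩
        apply mul_left_cancel₀ hXL
        rw [← map_mul, ← hg', hg i hi l, ← mul_assoc, ← pow_succ']
        congr 2
        omega) (by
      apply hL
      rw [hg e le_rfl, map_zero]
      change _ * τ (ux ι j m e e j) = _
      rw [ux_last, map_zero, mul_zero]) m (by
      intro h0
      have h1 := hg e le_rfl m
      rw [h0, map_zero] at h1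
      rcases mul_eq_zero.1 h1.symm with h2 | h2
      · exact pow_ne_zero _ hXL h2
      · exact ((isUnit_ux ι j m e).map τ).ne_zero h2) (fun F d hFd => by
      change val (fun l => pol e (g l)) F = 0
      have h1 := map_val (toL k) (fun l => pol e (g l)) F
      have h2 : (fun l => (pol e (g l)).map (toL k : PowerSeries k →+* LaurentSeries k)) =
          fun l => Polynomial.C (toL k PowerSeries.X ^ n) * pol e (fun i => f i l) := by
        funext l
        refine Polynomial.ext fun i => ?_
        rw [Polynomial.coeff_map, Polynomial.coeff_C_mul, coeff_pol, coeff_pol]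
        split_ifs with hi
        · exact hg i hi l
        · rw [map_zero, mul_zero]
      have h3 : val (fun l => pol e (fun i => f i l)) F = 0 := by
        have h4 := map_val τ (fun l => pol e (fun i => ux ι j m e i l)) F
        rw [val_ux ι j m e hFd, Polynomial.map_zero] at h4
        rw [h4]
        congr 1
        funext l
        rw [map_pol]
        rfl
      rw [h2, val_smul _ _ hFd.2.1, h3, mul_zero] at h1
      exact (Polynomial.map_eq_zero_iff hL).1 h1)
  refine ⟨r, hr1, hr2, ?_, hr4⟩
  -- the point `x`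
  refine ⟨(pt1 k (0 : k)) (closedPoint k), ?_⟩
  apply ι.isClosedEmbedding.injective
  have h1 : Spec.map (CommRingCat.ofHom (cc k k : PowerSeries k →+* k)) ≫ β = pt k a j haj := by
    rw [hβ]
    exact map_pt k (cc k k) b j hbju
  have h2 : (pt1 k (0 : k) ≫ r ≫ ι) (closedPoint k) =
      (Spec.map (CommRingCat.ofHom (cc k k : PowerSeries k →+* k)) ≫ β) (closedPoint k) := by
    rw [hr3, h1]
  rw [Scheme.Hom.comp_apply, Scheme.Hom.comp_apply, Scheme.Hom.comp_apply] at h2
  have h3 : Spec.map (CommRingCat.ofHom (cc k k : PowerSeries k →+* k)) (closedPoint k) =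
      closedPoint (PowerSeries k) := by
    have hloc : IsLocalHom (cc k k : PowerSeries k →+* k) := by
      refine ⟨fun f hf => ?_⟩
      exact PowerSeries.isUnit_iff_constantCoeff.2 hf
    exact IsLocalRing.comap_closedPoint (cc k k : PowerSeries k →+* k)
  rw [h3, hβ2] at h2
  exact h2

end K329.ClosRat
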