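import Groth.Agent.Ega2.NormalCompl
import Groth.Agent.Etcore.CurveComp
import Groth.Agent.CurvesA.CurveDvr
import Groth.Agent.VarietyA.SmoothReg
import Groth.Agent.VarietyB.DimSch
import Groth.Agent.S1535
import Groth.Agent.S2821

/-!
# The normalization of a curve and its smooth completion
-/

set_option autoImplicit false
universe u

open CategoryTheory CategoryTheory.Limits AlgebraicGeometry

namespace K329.Cmpct

local notation "Sp" k:max => Spec (CommRingCat.of k)

variable {k : Type u} [Field k] [IsAlgClosed k]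

/-- A curve is the finite image of an open subscheme of a smooth proper curve. -/
theorem exists_completion {T : Scheme.{u}} (a : T ⟶ Sp k) [IsIntegral T] [IsSeparated a] [LocallyOfFiniteType a]
    [CompactSpace T] (hT : topologicalKrullDim T = 1) :
    ∃ (T' P : Scheme.{u}) (ν : T' ⟶ T) (j : T' ⟶ P) (p : P ⟶ Sp k), IsFinite ν ∧ Surjective ν ∧ IsOpenImmersion j ∧
      j ≫ p = ν ≫ a ∧ IsIntegral T' ∧ IsIntegral P ∧ IsProper p ∧ Smooth p ∧ topologicalKrullDim P = 1 := by
  obtain ⟨T', ν, hν, hνs, hint, hnorm, -, hdim⟩ := Groth.Agent.Etcore.CurveComp.exists_normalization k T a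
  rw [hT] at hdim
  have hqa : QuasiCompact a := (quasiCompact_iff_compactSpace (f := a)).2 inferInstance
  have hft : LocallyOfFiniteType (ν ≫ a) := inferInstance
  have hsep : IsSeparated (ν ≫ a) := inferInstance
  have hqc : QuasiCompact (ν ≫ a) := inferInstance
  obtain ⟨Q, q, j, hQi, hjq, hq, hj, -, -, -, hreg, hdimQ⟩ :=
    Groth.Agent.Ega2.NormalCompl.exists_normal_completion k (ν ≫ a)
    (fun x hx => by
      have h1 := (Groth.Agent.CurvesA.CurveDvr.isClosed_singleton_iff hdim x).mp hx
      let _ : T'.Over (Sp k) := ⟨ν ≫ a⟩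
      have : LocallyOfFiniteType (T' ↘ (Sp k)) := hft
      have h2 := Groth.Agent.VarietyB.DimSch.localDim_eq k x
      rw [Groth.Agent.VarietyB.DimSch.trd_eq_zero_of_isClosed k hx,
        Groth.Agent.VarietyB.DimSch.localDim_eq_of_irreducible k x,
        ← Groth.Agent.VarietyB.DimSch.topologicalKrullDim_eq_trd k, hdim, Nat.cast_zero, add_zero] at h2
      exact h2.symm)
    hnorm
  have hqs : Smooth q := by
    rw [← Scheme.Hom.smoothLocus_eq_top_iff]
    apply TopologicalSpace.Opens.ext
    refine Set.eq_univ_of_forall fun x => ?_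
    exact (Groth.Agent.VarietyA.SmoothReg.mem_smoothLocus_iff_of_perfectField q x).mpr (hreg x)
  let _ : Q.Over (Sp k) := ⟨q⟩
  have : LocallyOfFiniteType (Q ↘ (Sp k)) := inferInstanceAs (LocallyOfFiniteType q)
  have hne : Nonempty T' := inferInstance
  let _ : T'.Over (Sp k) := ⟨ν ≫ a⟩
  have : LocallyOfFiniteType (T' ↘ (Sp k)) := hft
  have hQdim : topologicalKrullDim Q = 1 := by
    have h1 := Groth.Agent.VarietyB.DimSch.topologicalKrullDim_opens_eq_trd k j.opensRange
      ⟨j hne.some, ⟨_, rfl⟩⟩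
    rw [Groth.Agent.VarietyB.DimSch.topologicalKrullDim_eq_trd k, ← h1, ← hdim]
    exact (IsHomeomorph.topologicalKrullDim_eq _ (j.isoOpensRange.hom.homeomorph).isHomeomorph).symm
  exact ⟨T', Q, ν, j, q, hν, hνs, hj, hjq, hint, hQi, hq, hqs, hQdim⟩

end K329.Cmpct
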