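import Groth.Agent.Curves.K329.Limit
import Groth.Agent.Pic13.H959.RedLift

/-!
# Equations of a closed subscheme of projective space

`IsEqn ι F d`: `F` is a form of degree `d > 0` vanishing on the image of `ι : X ⟶ P^N`.
* `mem_range_iff`: for a closed immersion, a point lies in the image iff all equations vanish there.
* `ev_eq_zero`, `exists_factor`: a morphism `pt b` from the spectrum of a reduced ring factors through `ι` iff
  `F(b) = 0` for all equations.
-/

set_option autoImplicit false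
universe u

open CategoryTheory AlgebraicGeometry IsLocalRing TopologicalSpace

namespace K329.Eqn

open CohB1 K329.Pt K329.Limit
open Groth.Agent.Sga5.ProjChart (X_mem)

variable {k : Type u} [Field k] {N : ℕ} {X : Scheme.{u}}

/-- A form of positive degree vanishing on the image. -/
def IsEqn (ι : X ⟶ ProjSpace N k) (F : MvPolynomial (Fin (N + 1)) k) (d : ℕ) : Prop :=
  0 < d ∧ F ∈ polyGrading N k d ∧ ∀ x : X, ι x ∉ Proj.basicOpen (polyGrading N k) F

theorem exists_isEqn (ι : X ⟶ ProjSpace N k) [IsClosedImmersion ι] (p : ProjSpace N k) (hp : p ∉ Set.range ι) :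
    ∃ F d, IsEqn ι F d ∧ p ∈ Proj.basicOpen (polyGrading N k) F := by
  have hopen : IsOpen (Set.range ι)ᶜ := (ι.isClosedEmbedding.isClosed_range).isOpen_compl
  obtain ⟨_, ⟨f, rfl⟩, hpf, hf⟩ := (ProjectiveSpectrum.isTopologicalBasis_basic_opens
    (polyGrading N k)).exists_subset_of_mem_open (show p ∈ (Set.range ι)ᶜ from hp) hopen
  have hpf' : p ∈ Proj.basicOpen (polyGrading N k) f := hpf
  rw [Proj.basicOpen_eq_iSup_proj] at hpf'
  obtain ⟨i, hi⟩ := Opens.mem_iSup.1 hpf'
  obtain ⟨j, hj⟩ := Groth.Agent.PerfB.ProjSpaceCover.exists_mem_basicOpen_X N k p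
  refine ⟨GradedRing.proj (polyGrading N k) i f * MvPolynomial.X j, i + 1, ⟨Nat.succ_pos _, ?_, ?_⟩, ?_⟩
  · exact SetLike.mul_mem_graded (SetLike.coe_mem _) (X_mem N k j)
  · intro x hx
    have h1 : ι x ∈ Proj.basicOpen (polyGrading N k) f := by
      rw [Proj.basicOpen_eq_iSup_proj]
      rw [Proj.basicOpen_mul] at hx
      exact Opens.mem_iSup.2 ⟨i, hx.1⟩
    exact hf h1 ⟨x, rfl⟩
  · rw [Proj.basicOpen_mul]
    exact ⟨hi, hj⟩

theorem mem_range_iff (ι : X ⟶ ProjSpace N k) [IsClosedImmersion ι] (p : ProjSpace N k) :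
    p ∈ Set.range ι ↔ ∀ F d, IsEqn ι F d → p ∉ Proj.basicOpen (polyGrading N k) F := by
  constructor
  · rintro ⟨x, rfl⟩ F d hF
    exact hF.2.2 x
  · intro h
    by_contra hp
    obtain ⟨F, d, hF, hpF⟩ := exists_isEqn ι p hp
    exact h F d hF hpF

variable {B : Type u} [CommRing B] [Algebra k B]

theorem preimage_basicOpen (b : Fin (N + 1) → B) (i : Fin (N + 1)) (hi : IsUnit (b i))
    {F : MvPolynomial (Fin (N + 1)) k} {d : ℕ} (hF : F ∈ polyGrading N k d) (hd : 0 < d) :
    pt k b i hi ⁻¹ᵁ Proj.basicOpen (polyGrading N k) F = (Spec (CommRingCat.of B)).basicOpen (evΓ k b F) := by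
  rw [pt_eq_toProj]
  exact Groth.Agent.VarietyB.ProjHom.toProj_preimage_basicOpen _ _ _ _ _ hF hd

theorem evΓ_eq_zero_iff (b : Fin (N + 1) → B) (F : MvPolynomial (Fin (N + 1)) k) :
    evΓ k b F = 0 ↔ ev k b F = 0 := by
  rw [evΓ, RingHom.comp_apply]
  exact map_eq_zero_iff _ (ConcreteCategory.bijective_of_isIso (Scheme.ΓSpecIso (CommRingCat.of B)).inv).1

/-- The equations vanish on a point factoring through `ι`. -/
theorem ev_eq_zero [_root_.IsReduced B] (ι : X ⟶ ProjSpace N k) (b : Fin (N + 1) → B) (i : Fin (N + 1))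
    (hi : IsUnit (b i)) (m : Spec (CommRingCat.of B) ⟶ X) (hm : m ≫ ι = pt k b i hi)
    {F : MvPolynomial (Fin (N + 1)) k} {d : ℕ} (hF : IsEqn ι F d) : ev k b F = 0 := by
  rw [← evΓ_eq_zero_iff]
  have hr : AlgebraicGeometry.IsReduced (Spec (CommRingCat.of B)) := inferInstance
  rw [← basicOpen_eq_bot_iff, ← preimage_basicOpen b i hi hF.2.1 hF.1, ← hm, eq_bot_iff]
  intro y hy
  exact hF.2.2 (m y) hy

/-- A point over a reduced ring where the equations vanish factors through `ι`. -/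
theorem exists_factor [_root_.IsReduced B] (ι : X ⟶ ProjSpace N k) [IsClosedImmersion ι] (b : Fin (N + 1) → B)
    (i : Fin (N + 1)) (hi : IsUnit (b i)) (h : ∀ F d, IsEqn ι F d → ev k b F = 0) :
    ∃ m : Spec (CommRingCat.of B) ⟶ X, m ≫ ι = pt k b i hi := by
  have hr : AlgebraicGeometry.IsReduced (Spec (CommRingCat.of B)) := inferInstance
  refine Groth.Agent.Pic13.H959.RedLift.exists_lift ι (pt k b i hi) ?_
  rintro _ ⟨y, rfl⟩
  rw [mem_range_iff]
  intro F d hF hy
  have h1 : y ∈ pt k b i hi ⁻¹ᵁ Proj.basicOpen (polyGrading N k) F := hy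
  rw [preimage_basicOpen b i hi hF.2.1 hF.1, (evΓ_eq_zero_iff b F).2 (h F d hF), Scheme.basicOpen_zero] at h1
  exact h1

end K329.Eqn
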