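import Mathlib.AlgebraicGeometry.FunctionField
import Mathlib.AlgebraicGeometry.Noetherian
import Mathlib.AlgebraicGeometry.Stalk
import Mathlib.Topology.NoetherianSpace
import Mathlib.RingTheory.KrullDimension.Basic

/-!
# Points of codimension one of integral noetherian schemes
-/

set_option autoImplicit false
universe u

open CategoryTheory AlgebraicGeometry TopologicalSpace IsLocalRing

namespace K329.TopSurf

variable {S : Scheme.{u}}

lemma exists_prime {w y : S} (h : w ⤳ y) : ∃ q : PrimeSpectrum (S.presheaf.stalk y), S.fromSpecStalk y q = w := by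
  have : w ∈ Set.range (S.fromSpecStalk y) := by rw [S.range_fromSpecStalk]; exact h
  exact this

lemma prime_lt {v w y : S} (h : v ⤳ w) (hne : v ≠ w) {q q' : PrimeSpectrum (S.presheaf.stalk y)}
    (hq : S.fromSpecStalk y q = v) (hq' : S.fromSpecStalk y q' = w) : q < q' := by
  refine lt_of_le_of_ne ?_ ?_
  · rw [PrimeSpectrum.le_iff_specializes]
    have h1 : S.fromSpecStalk y q ⤳ S.fromSpecStalk y q' := by rw [hq, hq']; exact h
    exact (S.fromSpecStalk y).isEmbedding.isInducing.specializes_iff.1 h1
  · rintro rfl
    exact hne (hq.symm.trans hq')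

/-- A point of codimension at most one has only the generic point as a proper generization. -/
lemma eq_of_specializes [IsIntegral S] {w y : S} (h : w ⤳ y) (hw : w ≠ genericPoint S)
    (hy : ringKrullDim (S.presheaf.stalk y) ≤ 1) : w = y := by
  by_contra hne
  have hη : genericPoint S ⤳ w := (genericPoint_spec S).specializes trivial
  obtain ⟨q, hq⟩ := exists_prime h
  obtain ⟨q₀, hq₀⟩ := exists_prime (hη.trans h)
  have hm : S.fromSpecStalk y (closedPoint _) = y := Scheme.fromSpecStalk_closedPoint
  have h1 : q₀ < q := prime_lt hη (Ne.symm hw) hq₀ hq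
  have h2 : q < closedPoint _ := prime_lt h hne hq hm
  let l : LTSeries (PrimeSpectrum (S.presheaf.stalk y)) :=
    { length := 2
      toFun := ![q₀, q, closedPoint _]
      step := by
        intro i
        fin_cases i
        · exact h1
        · exact h2 }
  have h3 := Order.LTSeries.length_le_krullDim l
  have h4 : ((2 : ℕ) : WithBot ℕ∞) ≤ 1 := h3.trans hy
  exact absurd h4 (by decide)

variable [NoetherianSpace S]

/-- A proper closed subset has finitely many points of codimension one. -/
theorem finite_codim_one [IsIntegral S] (Z : Closeds S) (hZ : genericPoint S ∉ Z) :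
    {y : S | y ∈ Z ∧ ringKrullDim (S.presheaf.stalk y) ≤ 1}.Finite := by
  obtain ⟨T, hT, hT', hTZ⟩ := NoetherianSpace.exists_finite_set_closeds_irreducible Z
  have h1 : {y : S | y ∈ Z ∧ ringKrullDim (S.presheaf.stalk y) ≤ 1} ⊆
      ⋃ t ∈ T, {y : S | closure {y} = (t : Set S)} := by
    rintro y ⟨hy, hy'⟩
    have h2 : y ∈ (⋃ t ∈ T, (t : Set S)) := by
      have h3 : (Z : Set S) = ⋃ t ∈ T, (t : Set S) := by
        rw [hTZ]
        lift T to Finset (Closeds S) using hT
        simp [← Finset.sup_id_eq_sSup, Closeds.coe_finset_sup]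
      rw [← h3]
      exact hy
    simp only [Set.mem_iUnion] at h2 ⊢
    obtain ⟨t, ht, hyt⟩ := h2
    refine ⟨t, ht, ?_⟩
    obtain ⟨w, hw⟩ := QuasiSober.sober (hT' t ht) t.isClosed
    have hwy : w ⤳ y := by
      rw [specializes_iff_mem_closure, hw.def]
      exact hyt
    have hwZ : w ∈ Z := by
      rw [hTZ]
      exact (le_sSup ht : t ≤ sSup T) hw.mem
    have : w = y := eq_of_specializes hwy (by rintro rfl; exact hZ hwZ) hy'
    rw [← this]
    exact hw.def
  refine (hT.biUnion fun t _ => Set.Subsingleton.finite ?_).subset h1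
  intro a ha b hb
  have h2 : closure {a} = closure {b} := (show closure {a} = (t : Set S) from ha).trans hb.symm
  exact (Inseparable.eq (inseparable_iff_closure_eq.2 h2))

/-- A closed subset consisting of closed points is finite. -/
theorem finite_of_isClosed (Z : Closeds S) (hZ : ∀ x ∈ Z, IsClosed ({x} : Set S)) : (Z : Set S).Finite := by
  obtain ⟨T, hT, hT', hTZ⟩ := NoetherianSpace.exists_finite_set_closeds_irreducible Z
  have h3 : (Z : Set S) = ⋃ t ∈ T, (t : Set S) := by
    rw [hTZ]
    lift T to Finset (Closeds S) using hT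
    simp [← Finset.sup_id_eq_sSup, Closeds.coe_finset_sup]
  rw [h3]
  refine hT.biUnion fun t ht => Set.Subsingleton.finite ?_
  obtain ⟨w, hw⟩ := QuasiSober.sober (hT' t ht) t.isClosed
  have hwZ : w ∈ Z := by
    rw [hTZ]
    exact (le_sSup ht : t ≤ sSup T) hw.mem
  have h4 : (t : Set S) = {w} := by
    rw [← hw.def, (hZ w hwZ).closure_eq]
  rw [h4]
  exact Set.subsingleton_singleton

end K329.TopSurf
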