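import Groth.Agent.Curves.K329.ChartPt
import Groth.Agent.Curves.K329.Eqn
import Groth.Agent.Curves.K329.TopSurf

/-!
# Homogeneous coordinates of a rational map near a point
-/

set_option autoImplicit false
universe u v

open CategoryTheory CategoryTheory.Limits AlgebraicGeometry TopologicalSpace IsLocalRing

namespace K329.Coord

open K329.Plan510 K329.ChartPt K329.Pt K329.Eqn CohB1

local notation "Sp" k:max => Spec (CommRingCat.of k)

variable {k : Type u} [Field k] {S : Scheme.{u}} (s : S ⟶ Sp k) {N : ℕ}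

lemma sig_specializes {x y : S} (h : y ⤳ x) (c : k) :
    (S.presheaf.stalkSpecializes h).hom (sig s x c) = sig s y c := by
  have h1 : CommRingCat.ofHom (sig s x) ≫ S.presheaf.stalkSpecializes h = CommRingCat.ofHom (sig s y) := by
    apply Spec.map_injective
    rw [Spec.map_comp, ← fromSpecStalk_comp, ← fromSpecStalk_comp, ← Category.assoc,
      Scheme.SpecMap_stalkSpecializes_fromSpecStalk]
  exact congrFun (congrArg (fun f => ⇑(CommRingCat.Hom.hom f)) h1) c

/-- the residue field at a point -/
abbrev kap (y : S) : Type u := ResidueField (S.presheaf.stalk y)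

/-- the value of a function at a generization -/
noncomputable def val {x y : S} (h : y ⤳ x) : S.presheaf.stalk x →+* kap y :=
  (residue (S.presheaf.stalk y)).comp (S.presheaf.stalkSpecializes h).hom

/-- the constants in the residue field -/
noncomputable def rho (y : S) : k →+* kap y := (residue (S.presheaf.stalk y)).comp (sig s y)

/-- the algebra structure of the residue field -/
@[reducible] noncomputable def kalg (y : S) : Algebra k (kap y) := (rho s y).toAlgebra

lemma val_sig {x y : S} (h : y ⤳ x) (c : k) : val h (sig s x c) = rho s y c := by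
  change residue _ _ = residue _ _
  rw [sig_specializes]

lemma val_sum {x y : S} (h : y ⤳ x) (c : Fin (N + 1) → k) (φ : Fin (N + 1) → S.presheaf.stalk x) :
    val h (∑ l, sig s x (c l) * φ l) = ∑ l, rho s y (c l) * val h (φ l) := by
  rw [map_sum]
  exact Finset.sum_congr rfl fun l _ => by rw [map_mul, val_sig]

lemma ker_val {x y : S} (h : y ⤳ x) :
    RingHom.ker (val h) = (maximalIdeal (S.presheaf.stalk y)).comap (S.presheaf.stalkSpecializes h).hom := by
  rw [val, ← RingHom.comap_ker, ker_residue]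

lemma exists_mem {V : S.Opens} {y : S} (hy : y ∈ V) :
    ∃ m : Sp (kap y) ⟶ V.toScheme, m ≫ V.ι = Spec.map (CommRingCat.ofHom (residue (S.presheaf.stalk y))) ≫
      S.fromSpecStalk y := by
  have hr : Set.range (Spec.map (CommRingCat.ofHom (residue (S.presheaf.stalk y))) ≫ S.fromSpecStalk y) ⊆
      Set.range V.ι := by
    rintro _ ⟨q, rfl⟩
    rw [Scheme.Opens.range_ι, Scheme.Hom.comp_apply]
    have h1 : S.fromSpecStalk y ((Spec.map (CommRingCat.ofHom (residue (S.presheaf.stalk y)))) q) ∈
        Set.range (S.fromSpecStalk y) := ⟨_, rfl⟩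
    rw [Scheme.range_fromSpecStalk] at h1
    exact h1.mem_open V.2 hy
  exact ⟨IsOpenImmersion.lift V.ι _ hr, IsOpenImmersion.lift_fac _ _ _⟩

variable {V : S.Opens} (G : V.toScheme ⟶ ProjSpace N k)

lemma exists_coord {x y : S} (h : y ⤳ x) (hy : y ∈ V) (φ : Fin (N + 1) → S.presheaf.stalk x)
    (hφ : IsCoord k s V.ι G x φ) :
    letI := kalg s y
    ∃ (m : Sp (kap y) ⟶ V.toScheme) (j : Fin (N + 1)) (hj : IsUnit (val h (φ j))),
      m ≫ V.ι = Spec.map (CommRingCat.ofHom (residue (S.presheaf.stalk y))) ≫ S.fromSpecStalk y ∧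
      m ≫ G = pt k (fun l => val h (φ l)) j hj := by
  let _ := kalg s y
  obtain ⟨m, hm⟩ := exists_mem hy
  obtain ⟨j, hj, h2⟩ := hφ (kap y) m (by
    rw [reassoc_of% hm, fromSpecStalk_comp, ← Spec.map_comp]
    rfl) (val h) (by
    rw [hm, val, CommRingCat.ofHom_comp, Spec.map_comp, Category.assoc]
    congr 1
    exact Scheme.SpecMap_stalkSpecializes_fromSpecStalk h)
  exact ⟨m, j, hj, hm, h2⟩

/-- The coordinates do not vanish simultaneously at points of `V`. -/
lemma exists_ne_zero {x y : S} (h : y ⤳ x) (hy : y ∈ V) (φ : Fin (N + 1) → S.presheaf.stalk x)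
    (hφ : IsCoord k s V.ι G x φ) : (fun l => val h (φ l)) ≠ 0 := by
  obtain ⟨m, j, hj, -, -⟩ := exists_coord s G h hy φ hφ
  intro h0
  exact hj.ne_zero (congrFun h0 j)

/-- If `G` maps the generization `y` to a `k`-point then the coordinates are proportional to those of the point. -/
lemma exists_scale (hG : G ≫ ProjSpace.toSpec N k = V.ι ≫ s) {x y : S} (h : y ⤳ x) (hy : y ∈ V)
    (φ : Fin (N + 1) → S.presheaf.stalk x) (hφ : IsCoord k s V.ι G x φ) (a : Fin (N + 1) → k) (j₀ : Fin (N + 1))
    (h₀ : IsUnit (a j₀)) (hya : G ⟨y, hy⟩ = pt k a j₀ h₀ (closedPoint k)) :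
    ∃ v : kap y, v ≠ 0 ∧ ∀ l, val h (φ l) = v * rho s y (a l) := by
  let _ := kalg s y
  obtain ⟨m, j, hj, hm, hmG⟩ := exists_coord s G h hy φ hφ
  have h1 : pt k a j₀ h₀ ≫ ProjSpace.toSpec N k = 𝟙 _ := by
    rw [pt_toSpec]
    exact Spec.map_id _
  have hsep : IsSeparated (ProjSpace.toSpec N k) := by
    have : IsProper (ProjSpace.toSpec N k) := Groth.Agent.VarietyB.ProjSpaceProper.isProper_toSpec N k
    infer_instance
  have h2 : IsClosedImmersion (pt k a j₀ h₀) := isClosedImmersion_of_comp_eq_id _ _ h1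
  have hmy : ∀ q, m q = ⟨y, hy⟩ := by
    intro q
    apply V.ι.isOpenEmbedding.injective
    rw [← Scheme.Hom.comp_apply, hm, Scheme.Hom.comp_apply]
    have h3 : Spec.map (CommRingCat.ofHom (residue (S.presheaf.stalk y))) q = closedPoint (S.presheaf.stalk y) := by
      have h4 : q = closedPoint (kap y) := Subsingleton.elim _ _
      rw [h4]
      exact comap_closedPoint (residue (S.presheaf.stalk y))
    rw [h3]
    exact Scheme.fromSpecStalk_closedPoint
  obtain ⟨f, hf⟩ := Groth.Agent.Pic13.H959.RedLift.exists_lift (pt k a j₀ h₀) (m ≫ G) (by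
    rintro _ ⟨q, rfl⟩
    rw [Scheme.Hom.comp_apply, hmy q, hya]
    exact ⟨_, rfl⟩)
  have hf' : f = Spec.map (CommRingCat.ofHom (algebraMap k (kap y))) := by
    have h3 : f ≫ pt k a j₀ h₀ ≫ ProjSpace.toSpec N k = (m ≫ G) ≫ ProjSpace.toSpec N k := by
      rw [← hf, Category.assoc]
    rw [h1, Category.comp_id, Category.assoc, hG, reassoc_of% hm, fromSpecStalk_comp, ← Spec.map_comp] at h3
    exact h3
  have h5 := map_pt k (Algebra.ofId k (kap y)) a j₀ h₀
  have h6 : pt k (fun l => Algebra.ofId k (kap y) (a l)) j₀ (h₀.map (Algebra.ofId k (kap y))) =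
      pt k (fun l => val h (φ l)) j hj := by
    rw [← h5, ← hmG, ← hf, hf']
    rfl
  exact exists_smul_of_pt_eq k _ _ h6

/-- The equations of the target vanish on the coordinates. -/
lemma ev_eq_zero [IsIntegral S] {X : Scheme.{u}} (ι : X ⟶ ProjSpace N k) [IsClosedImmersion ι]
    (g : V.toScheme ⟶ X) (hV : (V : Set S).Nonempty) (x : S)
    (φ : Fin (N + 1) → S.presheaf.stalk x) (hφ : IsCoord k s V.ι (g ≫ ι) x φ) (F : MvPolynomial (Fin (N + 1)) k)
    (d : ℕ) (hF : IsEqn ι F d) : letI := alg s x; ev k φ F = 0 := by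
  let _ := alg s x
  have hη : genericPoint S ∈ V := by
    obtain ⟨w, hw⟩ := hV
    exact ((genericPoint_spec S).specializes trivial).mem_open V.2 hw
  have hs : genericPoint S ⤳ x := (genericPoint_spec S).specializes trivial
  let _ := kalg s (genericPoint S)
  obtain ⟨m, j, hj, hm, hmG⟩ := exists_coord s (g ≫ ι) hs hη φ hφ
  rw [← Category.assoc] at hmG
  have h1 := Eqn.ev_eq_zero ι _ j hj (m ≫ g) hmG hF
  let vh : S.presheaf.stalk x →ₐ[k] kap (genericPoint S) :=
    { val hs with commutes' := fun c => val_sig s hs c }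
  have h2 := congrFun (congrArg DFunLike.coe (ev_comp k vh φ)) F
  have h3 : vh (ev k φ F) = 0 := h2.trans h1
  have h4 : Function.Injective vh := by
    have h5 : Function.Injective (S.presheaf.stalkSpecializes hs).hom :=
      IsFractionRing.injective (S.presheaf.stalk x) S.functionField
    have h6 : IsField (S.presheaf.stalk (genericPoint S)) := Field.toIsField S.functionField
    intro a b hab
    apply h5
    have h7 : residue (S.presheaf.stalk (genericPoint S)) ((S.presheaf.stalkSpecializes hs).hom (a - b)) = 0 := by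
      rw [map_sub, map_sub, sub_eq_zero]
      exact hab
    rw [residue_eq_zero_iff, (isField_iff_maximalIdeal_eq.1 h6), Ideal.mem_bot, map_sub, sub_eq_zero] at h7
    exact h7
  exact h4 (h3.trans (map_zero vh).symm)

end K329.Coord
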