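import Mathlib.Algebra.BigOperators.Finprod
import Mathlib.Algebra.Order.BigOperators.Group.Finset

/-!
# A counting inequality
-/

set_option autoImplicit false

namespace K329.SumLe

theorem sum_le {α β : Type*} (B : Finset β) (L : β → α → ℕ) (M : α → ℕ) (δ : ℕ) (hM : (Function.support M).Finite)
    (h : ∀ b ∈ B, ∀ x, δ * L b x ≤ M x) (hd : ∀ b ∈ B, ∀ b' ∈ B, ∀ x, L b x ≠ 0 → L b' x ≠ 0 → b = b') :
    δ * ∑ b ∈ B, ∑ᶠ x, L b x ≤ ∑ᶠ x, M x := by
  classical
  by_cases hδ : δ = 0
  · rw [hδ, zero_mul]; exact Nat.zero_le _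
  have h1 : ∀ b ∈ B, ∑ᶠ x, L b x = ∑ x ∈ hM.toFinset, L b x := by
    intro b hb
    apply finsum_eq_sum_of_support_subset
    intro x hx
    rw [Set.Finite.coe_toFinset, Function.mem_support]
    intro h0
    have h2 := h b hb x
    rw [h0] at h2
    exact hx (by
      rcases Nat.mul_eq_zero.1 (Nat.le_zero.1 h2) with h3 | h3
      · exact absurd h3 hδ
      · exact h3)
  rw [Finset.sum_congr rfl h1, Finset.sum_comm, Finset.mul_sum, finsum_eq_sum_of_support_subset (s := hM.toFinset) _
    (by rw [Set.Finite.coe_toFinset])]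
  refine Finset.sum_le_sum fun x _ => ?_
  by_cases hx : ∃ b ∈ B, L b x ≠ 0
  · obtain ⟨b, hb, hbx⟩ := hx
    rw [Finset.sum_eq_single b]
    · exact h b hb x
    · intro b' hb' hne
      by_contra h0
      exact hne (hd b' hb' b hb x h0 hbx)
    · intro h0
      exact absurd hb h0
  · push Not at hx
    rw [Finset.sum_eq_zero hx, mul_zero]
    exact Nat.zero_le _

end K329.SumLe
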