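import Groth.Agent.Curves.K329.LocPt
import Groth.Agent.Curves.K329.Coord
import Groth.Agent.Curves.K329.SumLe
import Groth.Agent.Curves.K329.Choice
import Groth.Agent.Variety.K431.CurveThru
import Groth.Agent.Divis.RadStalk

/-!
# Divisors of linear combinations of sections on a smooth proper surface
-/

set_option autoImplicit false
universe u v

open CategoryTheory CategoryTheory.Limits AlgebraicGeometry TopologicalSpace IsLocalRing

namespace K329.Core1

open K329.Plan510 K329.ChartPt K329.DotLen K329.Coord K329.Pt CohB1 Groth.Agent.Divis.CartierBasic Groth.Agent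

local notation "Sp" k:max => Spec (CommRingCat.of k)

/-- the stalk of the ideal of a reduced finite set of closed points is the maximal ideal -/
theorem stalkIdeal_vanishing {X : Scheme.{u}} {b : X} (hb : IsClosed ({b} : Set X)) {x : X} (hx : x = b) :
    stalkIdeal (Scheme.IdealSheafData.vanishingIdeal (⟨{b}, hb⟩ : Closeds X)) x =
      maximalIdeal (X.presheaf.stalk x) := by
  subst hx
  have hsupp : ∀ z : X, z ∈ (Scheme.IdealSheafData.vanishingIdeal (⟨{x}, hb⟩ : Closeds X)).support ↔ z = x := by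
    intro z
    change z ∈ (((Scheme.IdealSheafData.vanishingIdeal (⟨{x}, hb⟩ : Closeds X)).support : Closeds X) : Set X) ↔ _
    rw [Scheme.IdealSheafData.coe_support_vanishingIdeal]
    exact Iff.rfl
  have hrad : (Scheme.IdealSheafData.vanishingIdeal (⟨{x}, hb⟩ : Closeds X)).radical =
      Scheme.IdealSheafData.vanishingIdeal (⟨{x}, hb⟩ : Closeds X) := by
    rw [← Scheme.IdealSheafData.vanishingIdeal_support]
    exact congrArg _ (TopologicalSpace.Closeds.ext (Scheme.IdealSheafData.coe_support_vanishingIdeal _))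
  refine le_antisymm ((mem_support_iff_stalkIdeal_le _ x).1 ((hsupp x).2 rfl)) ?_
  have hr := Divis.RadStalk.stalkIdeal_isRadical _ hrad x
  rw [← hr.radical, Ideal.radical_eq_sInf]
  refine le_sInf fun q hq => ?_
  have hq' : q.IsPrime := hq.2
  let Q : PrimeSpectrum (X.presheaf.stalk x) := ⟨q, hq'⟩
  have h1 : X.fromSpecStalk x Q ∈ (Scheme.IdealSheafData.vanishingIdeal (⟨{x}, hb⟩ : Closeds X)).support :=
    (fromSpecStalk_mem_support_iff _ x Q).2 hq.1
  have h4 := (hsupp _).1 h1
  have h6 : X.fromSpecStalk x Q = X.fromSpecStalk x (IsLocalRing.closedPoint (X.presheaf.stalk x)) := by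
    rw [Scheme.fromSpecStalk_closedPoint]
    exact h4
  have h7 : Q = IsLocalRing.closedPoint (X.presheaf.stalk x) :=
    (X.fromSpecStalk x).isEmbedding.injective h6
  have h8 : q = IsLocalRing.maximalIdeal (X.presheaf.stalk x) := congrArg PrimeSpectrum.asIdeal h7
  exact h8.ge

theorem mem_support_iff_val {S : Scheme.{u}} {I : S.IdealSheafData} {x y : S} (h : y ⤳ x) {f : S.presheaf.stalk x}
    (hf : stalkIdeal I x = Ideal.span {f}) : y ∈ I.support ↔ val h f = 0 := by
  let Q : PrimeSpectrum (S.presheaf.stalk x) := ⟨RingHom.ker (val h), RingHom.ker_isPrime _⟩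
  have hQ : S.fromSpecStalk x Q = y := by
    have h1 : Q = Spec.map (S.presheaf.stalkSpecializes h) (closedPoint (S.presheaf.stalk y)) := by
      apply PrimeSpectrum.ext
      exact ker_val h
    rw [h1, ← Scheme.Hom.comp_apply, Scheme.SpecMap_stalkSpecializes_fromSpecStalk]
    exact Scheme.fromSpecStalk_closedPoint
  have h1 := fromSpecStalk_mem_support_iff I x Q
  rw [hQ, hf, Ideal.span_singleton_le_iff_mem] at h1
  exact h1

section surf

variable {k : Type u} [Field k] [IsAlgClosed k] {S : Scheme.{u}} (s : S ⟶ Sp k) [IsIntegral S] [Smooth s] [IsProper s]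
  (hdim : topologicalKrullDim S = 2)

omit [IsAlgClosed k] [Smooth s] [IsProper s] in
include s hdim in
theorem ringKrullDim_le_one [LocallyOfFiniteType s] {x : S} (hx : ¬ IsClosed ({x} : Set S)) :
    ringKrullDim (S.presheaf.stalk x) ≤ 1 := by
  let _ : S.Over (Sp k) := ⟨s⟩
  have : LocallyOfFiniteType (S ↘ (Sp k)) := inferInstanceAs (LocallyOfFiniteType s)
  obtain ⟨a, t, n, h1, -, -, -, -⟩ := CycA.IntLocal.exists_dims s x
  have h2 := Groth.Agent.VarietyB.DimSch.localDim_eq k x
  rw [Groth.Agent.VarietyB.DimSch.localDim_eq_of_irreducible k x,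
    ← Groth.Agent.VarietyB.DimSch.topologicalKrullDim_eq_trd k, hdim, h1] at h2
  have h3 : Groth.Agent.VarietyB.DimSch.trd k S x ≠ 0 := fun h => hx (K431.CurveThru.isClosed_of_trd_eq_zero k h)
  have h4 : 2 = a + Groth.Agent.VarietyB.DimSch.trd k S x := by exact_mod_cast h2
  rw [h1]
  exact_mod_cast (by omega : a ≤ 1)

omit [IsAlgClosed k] [Smooth s] [IsProper s] in
include s hdim in
theorem isClosed_of_mem [LocallyOfFiniteType s] {D E : S.IdealSheafData}
    (h : ∀ y ∈ D.support, ringKrullDim (S.presheaf.stalk y) ≤ 1 → y ∉ E.support) (x : S) (hx : x ∈ D.support)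
    (hx' : x ∈ E.support) : IsClosed ({x} : Set S) := by
  by_contra hcon
  exact h x hx (ringKrullDim_le_one s hdim hcon) hx'

omit [IsIntegral S] in
theorem finite_support_len [NoetherianSpace S] {D E : S.IdealSheafData}
    (hcl : ∀ x : S, x ∈ D.support → x ∈ E.support → IsClosed ({x} : Set S)) :
    (Function.support (len (D ⊔ E))).Finite := by
  refine (TopSurf.finite_of_isClosed (D ⊔ E).support fun x hx => ?_).subset fun x hx => ?_
  · rw [Scheme.IdealSheafData.support_sup] at hx
    exact hcl x hx.1 hx.2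
  · by_contra h
    exact hx (len_eq_zero _ h)

omit [IsIntegral S] [Smooth s] in
include s in
theorem len_ne_zero [IsLocallyNoetherian S] {D E : S.IdealSheafData}
    (hcl : ∀ x : S, x ∈ D.support → x ∈ E.support → IsClosed ({x} : Set S)) {x : S} (hx : x ∈ D.support)
    (hx' : x ∈ E.support) (hzt : ∃ z t, maximalIdeal (S.presheaf.stalk x) = Ideal.span {z, t}) :
    len (D ⊔ E) x ≠ 0 := by
  let _ := alg s x
  obtain ⟨z, t, hzt⟩ := hzt
  have hsupp : ∀ y, y ∈ (D ⊔ E).support ↔ y ∈ D.support ∧ y ∈ E.support := fun y => by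
    rw [Scheme.IdealSheafData.support_sup]; exact Iff.rfl
  obtain ⟨n, hn⟩ := LocPt.exists_pow_le (D ⊔ E) (fun y hy => hcl y ((hsupp y).1 hy).1 ((hsupp y).1 hy).2) x
  have hfin : Module.Finite k (S.presheaf.stalk x ⧸ stalkIdeal (D ⊔ E) x) :=
    finite_quot hzt (exists_sub_mem s (hcl x hx hx')) _ n hn
  have hnt : Nontrivial (S.presheaf.stalk x ⧸ stalkIdeal (D ⊔ E) x) := Ideal.Quotient.nontrivial_iff.2
    ((mem_support_iff_stalkIdeal_ne_top _ x).1 ((hsupp x).2 ⟨hx, hx'⟩))
  have h3 : Module.finrank k (S.presheaf.stalk x ⧸ stalkIdeal (D ⊔ E) x) = len (D ⊔ E) x := (toNat_length _).symm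
  rw [← h3]
  exact (Module.finrank_pos).ne'

end surf

section coord

variable {k : Type u} [Field k] {S : Scheme.{u}} (s : S ⟶ Sp k) {N : ℕ} {V : S.Opens}
  (G : V.toScheme ⟶ ProjSpace N k) (D : (Fin (N + 1) → k) → S.IdealSheafData)
  (hco : ∀ x : S, ∃ φ : Fin (N + 1) → S.presheaf.stalk x,
    (∀ c, stalkIdeal (D c) x = Ideal.span {∑ l, sig s x (c l) * φ l}) ∧ IsCoord k s V.ι G x φ)

include hco in
/-- The divisor of a linear form does not contain a point whose image has coordinates not killed by the form. -/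
theorem notMem_support (hG : G ≫ ProjSpace.toSpec N k = V.ι ≫ s) {y : S} (hy : y ∈ V) (a : Fin (N + 1) → k)
    (j₀ : Fin (N + 1)) (h₀ : IsUnit (a j₀)) (hya : G ⟨y, hy⟩ = pt k a j₀ h₀ (closedPoint k)) (c : Fin (N + 1) → k)
    (hc : ∑ l, c l * a l ≠ 0) : y ∉ (D c).support := by
  obtain ⟨φ, hφ, hφ'⟩ := hco y
  obtain ⟨v, hv, h1⟩ := exists_scale s G hG specializes_rfl hy φ hφ' a j₀ h₀ hya
  rw [mem_support_iff_val specializes_rfl (hφ c), val_sum]
  intro h0
  have h2 : v * rho s y (∑ l, c l * a l) = 0 := by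
    rw [← h0, map_sum, Finset.mul_sum]
    refine Finset.sum_congr rfl fun l _ => ?_
    rw [h1, map_mul]
    ring
  rcases mul_eq_zero.1 h2 with h3 | h3
  · exact hv h3
  · exact hc ((map_eq_zero_iff _ (rho s y).injective).1 h3)

theorem ne_bot_of_notMem {I : S.IdealSheafData} {y : S} (hy : y ∉ I.support) : I ≠ ⊥ := by
  rintro rfl
  apply hy
  rw [Scheme.IdealSheafData.support_bot]
  trivial

include hco in
/-- Choice of a second linear form. -/
theorem exists_second [IsIntegral S] [NoetherianSpace S] [Infinite k]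
    (hV : ∀ x : S, x ∉ V → (2 : WithBot ℕ∞) ≤ ringKrullDim (S.presheaf.stalk x)) (E : S.IdealSheafData)
    (hE : genericPoint S ∉ E.support) :
    ∃ d, D d ≠ ⊥ ∧ ∀ y ∈ E.support, ringKrullDim (S.presheaf.stalk y) ≤ 1 → y ∉ (D d).support := by
  have hV' : ∀ x : S, ringKrullDim (S.presheaf.stalk x) ≤ 1 → x ∈ V := by
    intro x hx
    by_contra hcon
    have := (hV x hcon).trans hx
    exact absurd this (by decide)
  have hη : genericPoint S ∈ V := by
    apply hV'
    have h6 : IsField (S.presheaf.stalk (genericPoint S)) := Field.toIsField S.functionField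
    rw [ringKrullDim_eq_zero_of_isField h6]
    exact zero_le_one
  choose φ hφ hφ' using hco
  let Y : Set S := {y | y ∈ E.support ∧ ringKrullDim (S.presheaf.stalk y) ≤ 1} ∪ {genericPoint S}
  have hY : Y.Finite := (TopSurf.finite_codim_one E.support hE).union (Set.finite_singleton _)
  have hYV : ∀ y ∈ Y, y ∈ V := by
    rintro y (hy | rfl)
    · exact hV' y hy.2
    · exact hη
  obtain ⟨d, hd⟩ := Choice.exists_form Y hY kap (rho s) (fun y l => val (specializes_rfl : y ⤳ y) (φ y l))
    (fun y hy => exists_ne_zero s G specializes_rfl (hYV y hy) (φ y) (hφ' y))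
  have key : ∀ y ∈ Y, y ∉ (D d).support := by
    intro y hy
    rw [mem_support_iff_val specializes_rfl (hφ y d), val_sum]
    exact hd y hy
  exact ⟨d, ne_bot_of_notMem (key _ (Or.inr rfl)), fun y hy hy' => key y (Or.inl ⟨hy, hy'⟩)⟩

end coord

end K329.Core1
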