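import Groth.Agent.Curves.K329.Core1

/-!
# The local inequalities along a fibre contracted by the rational map
-/

set_option autoImplicit false
universe u v

open CategoryTheory CategoryTheory.Limits AlgebraicGeometry TopologicalSpace IsLocalRing

namespace K329.Core2

open K329.Plan510 K329.ChartPt K329.DotLen K329.Coord K329.Pt K329.Core1 K329.Link CohB1
open Groth.Agent.Divis.CartierBasic Groth.Agent.Divis.CartierStalk Groth.Agent

local notation "Sp" k:max => Spec (CommRingCat.of k)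

/-- the ideal of the fibre over a closed point -/
noncomputable abbrev fib {S C : Scheme.{u}} (f₁ : S ⟶ C) {b : C} (hb : IsClosed ({b} : Set C)) : S.IdealSheafData :=
  (Scheme.IdealSheafData.vanishingIdeal (⟨{b}, hb⟩ : Closeds C)).comap f₁

theorem mem_support_fib {S C : Scheme.{u}} (f₁ : S ⟶ C) {b : C} (hb : IsClosed ({b} : Set C)) (x : S) :
    x ∈ (fib f₁ hb).support ↔ f₁ x = b := by
  rw [fib, Scheme.IdealSheafData.support_comap]
  change f₁ x ∈ ((Scheme.IdealSheafData.vanishingIdeal (⟨{b}, hb⟩ : Closeds C)).support : Set C) ↔ _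
  rw [Scheme.IdealSheafData.coe_support_vanishingIdeal]
  exact Iff.rfl

theorem stalkIdeal_fib {S C : Scheme.{u}} (f₁ : S ⟶ C) {b : C} (hb : IsClosed ({b} : Set C)) (x : S) (hx : f₁ x = b)
    (z : C.presheaf.stalk (f₁ x)) (hz : maximalIdeal (C.presheaf.stalk (f₁ x)) = Ideal.span {z}) :
    stalkIdeal (fib f₁ hb) x = Ideal.span {(f₁.stalkMap x).hom z} := by
  rw [fib, stalkIdeal_comap, stalkIdeal_vanishing hb hx, hz, Ideal.map_span, Set.image_singleton]

variable {k : Type u} [Field k] [IsAlgClosed k] {S C : Scheme.{u}} (s : S ⟶ Sp k) [IsIntegral S] [Smooth s] [IsProper s]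
  (hdim : topologicalKrullDim S = 2) (f₁ : S ⟶ C) {N : ℕ} {V : S.Opens}
  (G : V.toScheme ⟶ ProjSpace N k) (hG : G ≫ ProjSpace.toSpec N k = V.ι ≫ s)
  (D : (Fin (N + 1) → k) → S.IdealSheafData)
  (hco : ∀ x : S, ∃ φ : Fin (N + 1) → S.presheaf.stalk x,
    (∀ c, stalkIdeal (D c) x = Ideal.span {∑ l, sig s x (c l) * φ l}) ∧ IsCoord k s V.ι G x φ)
  {b : C} (hb : IsClosed ({b} : Set C))
  (hmax : ∀ x : S, IsClosed ({x} : Set S) → f₁ x = b → ∃ (z : C.presheaf.stalk (f₁ x)) (t : S.presheaf.stalk x),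
    maximalIdeal (C.presheaf.stalk (f₁ x)) = Ideal.span {z} ∧
    maximalIdeal (S.presheaf.stalk x) = Ideal.span {(f₁.stalkMap x).hom z, t})
  (θ : S) (hθη : θ ≠ genericPoint S) (hθV : θ ∈ V)
  (hθx : ∀ x : S, f₁ x = b → ∃ hx : θ ⤳ x, ∀ z : C.presheaf.stalk (f₁ x),
    maximalIdeal (C.presheaf.stalk (f₁ x)) = Ideal.span {z} →
      (maximalIdeal (S.presheaf.stalk θ)).comap (S.presheaf.stalkSpecializes hx).hom =
        Ideal.span {(f₁.stalkMap x).hom z})
  (a : Fin (N + 1) → k) (j₀ : Fin (N + 1)) (h₀ : IsUnit (a j₀)) (hya : G ⟨θ, hθV⟩ = pt k a j₀ h₀ (closedPoint k))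
  (c d : Fin (N + 1) → k) (hc : ∑ l, c l * a l ≠ 0)

include hdim hG hco hθη hθx hya hc in
omit [IsAlgClosed k] [Smooth s] in
theorem isClosed_of_mem_fib (x : S) (hx : x ∈ (D c).support) (hx' : x ∈ (fib f₁ hb).support) :
    IsClosed ({x} : Set S) := by
  refine isClosed_of_mem s hdim (fun y hy hy1 hy' => ?_) x hx hx'
  rw [mem_support_fib] at hy'
  obtain ⟨h1, -⟩ := hθx y hy'
  have h2 := TopSurf.eq_of_specializes h1 hθη hy1
  rw [← h2] at hy
  exact notMem_support s G D hco hG hθV a j₀ h₀ hya c hc hy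

include hG hθx hya in
omit [IsAlgClosed k] [IsIntegral S] [Smooth s] [IsProper s] in
theorem hprop_of {x : S} (hx : f₁ x = b) (z : C.presheaf.stalk (f₁ x))
    (hz : maximalIdeal (C.presheaf.stalk (f₁ x)) = Ideal.span {z}) (φ : Fin (N + 1) → S.presheaf.stalk x)
    (hφ : IsCoord k s V.ι G x φ) :
    (∀ l j, sig s x (a j) * φ l - sig s x (a l) * φ j ∈ Ideal.span {(f₁.stalkMap x).hom z}) ∧
      ∀ c : Fin (N + 1) → k, ∑ l, c l * a l ≠ 0 → ∑ l, sig s x (c l) * φ l ∉ Ideal.span {(f₁.stalkMap x).hom z} := by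
  obtain ⟨h1, h2⟩ := hθx x hx
  have h3 := h2 z hz
  rw [← h3, ← ker_val h1]
  obtain ⟨v, hv, h4⟩ := exists_scale s G hG h1 hθV φ hφ a j₀ h₀ hya
  constructor
  · intro l j
    rw [RingHom.mem_ker, map_sub, map_mul, map_mul, val_sig, val_sig, h4, h4]
    ring
  · intro c hc h0
    rw [RingHom.mem_ker, val_sum] at h0
    have h5 : v * rho s θ (∑ l, c l * a l) = 0 := by
      rw [← h0, map_sum, Finset.mul_sum]
      refine Finset.sum_congr rfl fun l _ => ?_
      rw [h4, map_mul]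
      ring
    rcases mul_eq_zero.1 h5 with h6 | h6
    · exact hv h6
    · exact hc ((map_eq_zero_iff _ (rho s θ).injective).1 h6)

include hdim hG hco hmax hθη hθx hya hc in
/-- **The inequality along the fibre.** -/
theorem len_le (hcl : ∀ x : S, x ∈ (D c).support → x ∈ (D d).support → IsClosed ({x} : Set S)) (δ : ℕ)
    (hδ : ∀ (x : S), f₁ x = b → letI := alg s x
      ∀ (θ' : S.presheaf.stalk x →ₐ[k] MvPowerSeries (Fin 2) k) (q : ℕ) (φ : Fin (N + 1) → S.presheaf.stalk x),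
        IsCoord k s V.ι G x φ → Lk (RatFunc.X : RatFunc k) (fun l => θ' (φ l)) a q → δ ≤ q) (x : S) :
    δ * len (D c ⊔ fib f₁ hb) x ≤ len (D c ⊔ D d) x := by
  let _ : S.Over (Sp k) := ⟨s⟩
  have : Smooth (S ↘ (Sp k)) := inferInstanceAs (Smooth s)
  have hN : IsLocallyNoetherian S := LocallyOfFiniteType.isLocallyNoetherian s
  by_cases hx : x ∈ (D c).support ∧ x ∈ (fib f₁ hb).support
  · obtain ⟨hx1, hx2⟩ := hx
    have hclf := isClosed_of_mem_fib s hdim f₁ G hG D hco hb θ hθη hθV hθx a j₀ h₀ hya c hc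
    have hxc := hclf x hx1 hx2
    have hxb := (mem_support_fib f₁ hb x).1 hx2
    have hreg : IsRegularLocalRing (S.presheaf.stalk x) := S1535.result k S x
    have hd2 := ringKrullDim_of_isClosed k (d := 2) hdim hxc
    obtain ⟨z, t, hz, hzt⟩ := hmax x hxc hxb
    obtain ⟨φ, hφ, hφ'⟩ := hco x
    obtain ⟨h1, h2⟩ := hprop_of s f₁ G hG θ hθV hθx a j₀ h₀ hya hxb z hz φ hφ'
    have hsupp : ∀ (I J : S.IdealSheafData) (y : S), y ∈ (I ⊔ J).support → y ∈ I.support ∧ y ∈ J.support := by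
      intro I J y hy
      rw [Scheme.IdealSheafData.support_sup] at hy
      exact hy
    exact LocPt.len_ineq s hxc hd2 _ t hzt φ a h1 c d hc (h2 c hc) (hφ c) (hφ d) (stalkIdeal_fib f₁ hb x hxb z hz)
      (LocPt.exists_pow_le _ (fun y hy => hcl y (hsupp _ _ y hy).1 (hsupp _ _ y hy).2) x)
      (LocPt.exists_pow_le _ (fun y hy => hclf y (hsupp _ _ y hy).1 (hsupp _ _ y hy).2) x) δ
      (fun θ' q h => hδ x hxb θ' q φ hφ' h)
  · have h1 : x ∉ (D c ⊔ fib f₁ hb).support := by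
      rw [Scheme.IdealSheafData.support_sup]
      exact hx
    rw [len_eq_zero _ h1, mul_zero]
    exact Nat.zero_le _

include hdim hG hco hmax hθη hθx hya hc in
/-- At a common point of the divisor and the fibre there is a nonconstant limit. -/
theorem exists_lk (hcl : ∀ x : S, x ∈ (D c).support → x ∈ (D d).support → IsClosed ({x} : Set S)) {x : S}
    (hx1 : x ∈ (D c).support) (hx2 : x ∈ (fib f₁ hb).support) : letI := alg s x
    ∃ (θ' : S.presheaf.stalk x →ₐ[k] MvPowerSeries (Fin 2) k) (q : ℕ) (φ : Fin (N + 1) → S.presheaf.stalk x),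
        IsCoord k s V.ι G x φ ∧ Lk (RatFunc.X : RatFunc k) (fun l => θ' (φ l)) a q := by
  let _ : S.Over (Sp k) := ⟨s⟩
  have : Smooth (S ↘ (Sp k)) := inferInstanceAs (Smooth s)
  have hN : IsLocallyNoetherian S := LocallyOfFiniteType.isLocallyNoetherian s
  have hclf := isClosed_of_mem_fib s hdim f₁ G hG D hco hb θ hθη hθV hθx a j₀ h₀ hya c hc
  have hxc := hclf x hx1 hx2
  have hxb := (mem_support_fib f₁ hb x).1 hx2
  have hreg : IsRegularLocalRing (S.presheaf.stalk x) := S1535.result k S x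
  have hd2 := ringKrullDim_of_isClosed k (d := 2) hdim hxc
  obtain ⟨z, t, hz, hzt⟩ := hmax x hxc hxb
  obtain ⟨φ, hφ, hφ'⟩ := hco x
  obtain ⟨h1, h2⟩ := hprop_of s f₁ G hG θ hθV hθx a j₀ h₀ hya hxb z hz φ hφ'
  have hsupp : ∀ (I J : S.IdealSheafData) (y : S), y ∈ (I ⊔ J).support → y ∈ I.support ∧ y ∈ J.support := by
    intro I J y hy
    rw [Scheme.IdealSheafData.support_sup] at hy
    exact hy
  obtain ⟨θ', q, h⟩ := LocPt.exists_lk s hxc hd2 _ t hzt φ a h1 c d hc (h2 c hc) (hφ c) (hφ d)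
    (LocPt.exists_pow_le _ (fun y hy => hcl y (hsupp _ _ y hy).1 (hsupp _ _ y hy).2) x) hx1
  exact ⟨θ', q, φ, hφ', h⟩

end K329.Core2
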