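import Groth.Agent.Curves.K329.TwoArcs

/-!
# Limits of one-parameter families of polynomial tuples

A family `H_l(u) = ∑_{i ≤ e} g l i · u^i` of tuples of polynomials of degree at most `e` over `k⟦t⟧`, with `H(0)` of limit
`a` and `H(∞)` in the hyperplane `x_j = 0`, `a_j ≠ 0`: a nonconstant limit through `a` of degree at most `e`.
-/

set_option autoImplicit false
universe u v w

namespace K329.TupLim

open MvPowerSeries K329.SubstWt K329.Walk K329.Link K329.TwoArcs

variable {k : Type u} [Field k]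

noncomputable section

/-- the substitution `t ↦ t` -/
def tr (k : Type u) [Field k] : Unit → MvPowerSeries (Fin 2) k := fun _ => X 1

lemma hasSubst_tr : HasSubst (tr k) := by
  apply hasSubst_of_constantCoeff_zero
  intro s
  exact constantCoeff_X 1

/-- `k⟦t⟧ → k⟦z,t⟧` -/
def rho (k : Type u) [Field k] : PowerSeries k →ₐ[k] MvPowerSeries (Fin 2) k := substAlgHom (R := k) (hasSubst_tr (k := k))

lemma X1_pow (n : ℕ) : (X 1 : MvPowerSeries (Fin 2) k) ^ n = monomial (Finsupp.single 1 n) 1 := X_pow_eq 1 n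

lemma single_one_eq (n : ℕ) : (Finsupp.single 1 n : Fin 2 →₀ ℕ) = idx (0, n) := by
  ext i
  fin_cases i
  · simp [idx]
  · simp [idx]

lemma single_zero_eq (n : ℕ) : (Finsupp.single 0 n : Fin 2 →₀ ℕ) = idx (n, 0) := by
  ext i
  fin_cases i
  · simp [idx]
  · simp [idx]

lemma cf_rho (g : PowerSeries k) (i s : ℕ) : cf (rho k g) (i, s) = if i = 0 then PowerSeries.coeff s g else 0 := by
  have h1 : cf (rho k g) (i, s) = coeff (idx (i, s)) (subst (tr k) (g : MvPowerSeries Unit k)) := by
    rw [rho, substAlgHom_apply]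
  rw [h1, coeff_subst hasSubst_tr]
  have h2 : ∀ d : Unit →₀ ℕ, coeff (idx (i, s)) (d.prod fun a n => tr k a ^ n) =
      if i = 0 ∧ d () = s then 1 else 0 := by
    intro d
    rw [Finsupp.prod_fintype _ _ (fun _ => pow_zero _)]
    change coeff (idx (i, s)) (∏ a : Unit, (X 1 : MvPowerSeries (Fin 2) k) ^ (d a)) = _
    rw [Finset.univ_unique, Finset.prod_singleton, X1_pow, coeff_monomial, single_one_eq]
    congr 1
    apply propext
    constructor
    · intro h
      have := idx_injective h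
      simp only [Prod.mk.injEq] at this
      exact ⟨this.1, this.2.symm⟩
    · rintro ⟨rfl, rfl⟩
      rfl
  rcases eq_or_ne i 0 with rfl | hi
  · rw [finsum_eq_single _ (Finsupp.single () s)]
    · rw [h2, if_pos rfl, if_pos ⟨rfl, Finsupp.single_eq_same⟩, smul_eq_mul, mul_one]
      rfl
    · intro d hd
      rw [h2, if_neg, smul_zero]
      rintro ⟨-, h⟩
      apply hd
      refine Finsupp.ext fun x => ?_
      have hx : x = () := rfl
      rw [hx, h, Finsupp.single_eq_same]
  · rw [if_neg hi]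
    apply finsum_eq_zero_of_forall_eq_zero
    intro d
    rw [h2, if_neg (fun h => hi h.1), smul_zero]

lemma cf_X0_pow_mul (n : ℕ) (f : MvPowerSeries (Fin 2) k) (i s : ℕ) :
    cf ((X 0 : MvPowerSeries (Fin 2) k) ^ n * f) (i, s) = if n ≤ i then cf f (i - n, s) else 0 := by
  change coeff (idx (i, s)) _ = _
  rw [X_pow_eq, coeff_monomial_mul]
  have h1 : (Finsupp.single 0 n ≤ idx (i, s)) ↔ n ≤ i := by
    rw [single_zero_eq]
    constructor
    · intro h
      exact h 0
    · intro h j
      fin_cases j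
      · exact h
      · exact Nat.zero_le _
  by_cases hn : n ≤ i
  · rw [if_pos (h1.2 hn), if_pos hn, one_mul]
    change _ = coeff (idx (i - n, s)) f
    congr 2
    ext j
    rw [Finsupp.tsub_apply]
    fin_cases j
    · simp
    · simp
  · rw [if_neg (fun h => hn (h1.1 h)), if_neg hn]

lemma cf_sum {ι : Type*} (s : Finset ι) (f : ι → MvPowerSeries (Fin 2) k) (x : ℕ × ℕ) :
    cf (∑ i ∈ s, f i) x = ∑ i ∈ s, cf (f i) x := map_sum (coeff (idx x)) _ _

/-- the family `∑_{i ≤ e} g i z^i` -/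
def fam (e : ℕ) (g : ℕ → PowerSeries k) : MvPowerSeries (Fin 2) k :=
  ∑ i ∈ Finset.range (e + 1), X 0 ^ i * rho k (g i)

lemma cf_fam (e : ℕ) (g : ℕ → PowerSeries k) (i s : ℕ) :
    cf (fam e g) (i, s) = if i ≤ e then PowerSeries.coeff s (g i) else 0 := by
  rw [fam, cf_sum]
  have h1 : ∀ n ∈ Finset.range (e + 1), cf ((X 0 : MvPowerSeries (Fin 2) k) ^ n * rho k (g n)) (i, s) =
      if n = i then PowerSeries.coeff s (g n) else 0 := by
    intro n _
    rw [cf_X0_pow_mul, cf_rho]
    by_cases hn : n = i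
    · rw [if_pos hn.le, if_pos (by omega), if_pos hn]
    · rw [if_neg hn]
      split_ifs with h2 h3
      · exact absurd (show n = i by omega) hn
      · rfl
      · rfl
  rw [Finset.sum_congr rfl h1, Finset.sum_ite_eq']
  by_cases hi : i ≤ e
  · rw [if_pos (Finset.mem_range.2 (by omega)), if_pos hi]
  · rw [if_neg (fun h => hi (by have := Finset.mem_range.1 h; omega)), if_neg hi]

/-- reversed coefficients -/
def rev (e : ℕ) (g : ℕ → PowerSeries k) : ℕ → PowerSeries k := fun i => g (e - i)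

variable {L : Type v} [Field L] [Algebra k L] {ι : Type w}

lemma cv_fam (e : ℕ) (g : ι → ℕ → PowerSeries k) (i s : ℕ) (hi : i ≤ e) :
    cv (fun l => fam e (g l)) (i, s) = fun l => PowerSeries.coeff s (g l i) := by
  funext l
  rw [cv, cf_fam, if_pos hi]

theorem tuple_limit {u : L} (hu : Transcendental k u) (e n : ℕ) (g : ι → ℕ → PowerSeries k) (a : ι → k) (j : ι)
    (haj : a j ≠ 0) (h0 : ∀ l, ∀ s < n, PowerSeries.coeff s (g l 0) = 0)
    (h0' : ∀ l, PowerSeries.coeff n (g l 0) = a l)
    (hmin : ∃ i, i ≤ e ∧ (fun l => PowerSeries.coeff 0 (g l i)) ≠ 0)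
    (hinf : g j e = 0) (m : ι) (hm : g m e ≠ 0) :
    (∃ q ≤ e, Lk u (fun l => fam e (g l)) a q) ∨ (∃ q ≤ e, Lk u (fun l => fam e (rev e (g l))) a q) ∨
    ∃ q ≤ e, (∀ i < q, (fun l => PowerSeries.coeff 0 (g l i)) = 0) ∧
      Prp a (fun l => PowerSeries.coeff 0 (g l q)) ∧
      ∃ i ≤ e, q ≤ i ∧ (fun l => PowerSeries.coeff 0 (g l i)) ≠ 0 ∧
        ¬ Prp a (fun l => PowerSeries.coeff 0 (g l i)) := by
  classical
  have ha : a ≠ 0 := fun h => haj (congrFun h j)
  let q := Nat.find hmin
  obtain ⟨hq1, hq2⟩ : q ≤ e ∧ (fun l => PowerSeries.coeff 0 (g l q)) ≠ 0 := Nat.find_spec hmin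
  have hq3 : ∀ i < q, (fun l => PowerSeries.coeff 0 (g l i)) = 0 := by
    intro i hi
    by_contra h
    exact Nat.find_min hmin hi ⟨by omega, h⟩
  by_cases h1 : Prp a (fun l => PowerSeries.coeff 0 (g l q))
  · right
    by_cases h2 : ∃ i ≤ e, (fun l => PowerSeries.coeff 0 (g l i)) ≠ 0 ∧
        ¬ Prp a (fun l => PowerSeries.coeff 0 (g l i))
    · right
      obtain ⟨i, hi, hi1, hi2⟩ := h2
      exact ⟨q, hq1, hq3, h1, i, hi, Nat.find_min' hmin ⟨hi, hi1⟩, hi1, hi2⟩
    · left
      have hp : ∃ s, (fun l => PowerSeries.coeff s (g l e)) ≠ 0 := by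
        by_contra hcon
        push Not at hcon
        apply hm
        ext s
        rw [map_zero]
        exact congrFun (hcon s) m
      let p' := Nat.find hp
      have hp1 : (fun l => PowerSeries.coeff p' (g l e)) ≠ 0 := Nat.find_spec hp
      have hp2 : ∀ s < p', (fun l => PowerSeries.coeff s (g l e)) = 0 := fun s hs => by
        by_contra h
        exact Nat.find_min hp hs h
      have hmin' : ∃ i, i ≤ e ∧ (fun l => PowerSeries.coeff 0 (g l (e - i))) ≠ 0 := by
        obtain ⟨i, hi, hi'⟩ := hmin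
        refine ⟨e - i, Nat.sub_le _ _, ?_⟩
        rwa [Nat.sub_sub_self hi]
      let q' := Nat.find hmin'
      obtain ⟨hq1', hq2'⟩ : q' ≤ e ∧ (fun l => PowerSeries.coeff 0 (g l (e - q'))) ≠ 0 := Nat.find_spec hmin'
      have hq3' : ∀ i < q', (fun l => PowerSeries.coeff 0 (g l (e - i))) = 0 := by
        intro i hi
        by_contra h
        exact Nat.find_min hmin' hi ⟨by omega, h⟩
      have hb : Prp a (fun l => PowerSeries.coeff 0 (g l (e - q'))) := by
        by_contra h
        exact h2 ⟨e - q', Nat.sub_le _ _, hq2', h⟩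
      refine ⟨q', hq1', ?_⟩
      have hrev : ∀ (i s : ℕ), i ≤ e → cv (fun l => fam e (rev e (g l))) (i, s) =
          fun l => PowerSeries.coeff s (g l (e - i)) := fun i s hi => cv_fam e _ i s hi
      refine Lk.prp (lk_right hu _ (a := fun l => PowerSeries.coeff p' (g l e))
        (b := fun l => PowerSeries.coeff 0 (g l (e - q'))) (p := p') hp1 hq2' ?_ ?_ ?_ ?_ ?_) hb.symm
      · rw [hrev _ _ (Nat.zero_le _), Nat.sub_zero]
      · intro s hs
        rw [hrev _ _ (Nat.zero_le _), Nat.sub_zero]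
        exact hp2 s hs
      · rw [hrev _ _ hq1']
      · intro i hi
        rw [hrev _ _ (by omega)]
        exact hq3' i hi
      · rintro ⟨c, hc, hc'⟩
        obtain ⟨c₂, hc₂, hc₂'⟩ := hb
        have e1 := congrFun hc' j
        have e2 := congrFun hc₂' j
        simp only [Pi.smul_apply, smul_eq_mul, hinf, map_zero, mul_zero] at e1 e2
        rw [e1] at e2
        exact mul_ne_zero hc₂ haj e2.symm
  · left
    refine ⟨q, hq1, lk_left hu _ (a := a) (b := fun l => PowerSeries.coeff 0 (g l q)) (p := n) ha hq2 ?_ ?_ ?_ ?_ h1⟩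
    · rw [cv_fam e _ _ _ (Nat.zero_le _)]
      exact funext h0'
    · intro s hs
      rw [cv_fam e _ _ _ (Nat.zero_le _)]
      exact funext fun l => h0 l s hs
    · rw [cv_fam e _ _ _ hq1]
    · intro i hi
      rw [cv_fam e _ _ _ (by omega)]
      exact hq3 i hi

end

end K329.TupLim
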