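import Groth.Agent.Curves.K329.CurvePoly
import Groth.Agent.Curves.K329.TupLim
import Mathlib.RingTheory.Localization.FractionRing

/-!
# Rational curves as limits of one-parameter families of rational curves

`exists_curve_of_family`: a family `H_l(u) = ∑_{i ≤ e} g l i · u^i` over `k⟦t⟧` of tuples of polynomials satisfying the
equations of `X ⊆ P^N`, with `H(0)` of limit `a` and `H(∞)` in `x_j = 0`, `a_j ≠ 0`, gives a rational curve on `X`
through `a` of degree at most `e`.
-/

set_option autoImplicit false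
universe u

open CategoryTheory AlgebraicGeometry IsLocalRing

namespace K329.FamCurve

open CohB1 K329.Pt K329.P1Gen K329.SubstWt K329.Link K329.TwoArcs K329.Prim K329.Limit K329.TupLim K329.Eqn
open K329.CurvePoly K329.DegPoly

variable {k : Type u} [Field k] {N : ℕ}

/-- the family of polynomials -/
noncomputable def fp (e : ℕ) (g : ℕ → PowerSeries k) : Polynomial (PowerSeries k) :=
  ∑ i ∈ Finset.range (e + 1), Polynomial.C (g i) * Polynomial.X ^ i

section Ev

variable {K : Type u} [Field K] [Algebra k K] [Algebra (MvPowerSeries (Fin 2) k) K]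
  [IsScalarTower k (MvPowerSeries (Fin 2) k) K]

/-- `k⟦t⟧ → K` -/
noncomputable def rhoK (K : Type u) [Field K] [Algebra k K] [Algebra (MvPowerSeries (Fin 2) k) K]
    [IsScalarTower k (MvPowerSeries (Fin 2) k) K] : PowerSeries k →ₐ[k] K :=
  (IsScalarTower.toAlgHom k (MvPowerSeries (Fin 2) k) K).comp (rho k)

lemma eval_fp (e : ℕ) (g : ℕ → PowerSeries k) (s : K) :
    Polynomial.eval₂ (rhoK (k := k) K : PowerSeries k →+* K) s (fp e g) =
      ∑ i ∈ Finset.range (e + 1), rhoK (k := k) K (g i) * s ^ i := by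
  rw [fp, Polynomial.eval₂_finsetSum]
  refine Finset.sum_congr rfl fun i _ => ?_
  rw [Polynomial.eval₂_mul, Polynomial.eval₂_C, Polynomial.eval₂_pow, Polynomial.eval₂_X]
  rfl

lemma eval_fp_z (e : ℕ) (g : ℕ → PowerSeries k) :
    Polynomial.eval₂ (rhoK (k := k) K : PowerSeries k →+* K)
      (algebraMap (MvPowerSeries (Fin 2) k) K (MvPowerSeries.X 0)) (fp e g) =
      algebraMap (MvPowerSeries (Fin 2) k) K (fam e g) := by
  rw [eval_fp, fam, map_sum]
  refine Finset.sum_congr rfl fun i _ => ?_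
  rw [map_mul, map_pow, mul_comm]
  rfl

lemma eval_fp_w (e : ℕ) (g : ℕ → PowerSeries k)
    (hz : algebraMap (MvPowerSeries (Fin 2) k) K (MvPowerSeries.X 0) ≠ 0) :
    (algebraMap (MvPowerSeries (Fin 2) k) K (MvPowerSeries.X 0)) ^ e *
    Polynomial.eval₂ (rhoK (k := k) K : PowerSeries k →+* K)
      (algebraMap (MvPowerSeries (Fin 2) k) K (MvPowerSeries.X 0))⁻¹ (fp e g) =
      algebraMap (MvPowerSeries (Fin 2) k) K (fam e (rev e g)) := by
  rw [eval_fp, fam, map_sum, Finset.mul_sum, ← Finset.sum_range_reflect]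
  refine Finset.sum_congr rfl fun i hi => ?_
  have hi' : i ≤ e := by have := Finset.mem_range.1 hi; omega
  have h1 : e + 1 - 1 - i = e - i := by omega
  rw [h1, map_mul, map_pow, rev]
  have h2 : (algebraMap (MvPowerSeries (Fin 2) k) K (MvPowerSeries.X 0)) ^ e =
      (algebraMap (MvPowerSeries (Fin 2) k) K (MvPowerSeries.X 0)) ^ i *
      (algebraMap (MvPowerSeries (Fin 2) k) K (MvPowerSeries.X 0)) ^ (e - i) := by
    rw [← pow_add]
    congr 1
    omega
  rw [h2]
  have h3 : rhoK (k := k) K (g (e - i)) = algebraMap (MvPowerSeries (Fin 2) k) K (rho k (g (e - i))) := rfl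
  rw [h3, inv_pow]
  field_simp

lemma ev_eq_zero_of_family (h : Fin (N + 1) → Polynomial (PowerSeries k)) (F : MvPolynomial (Fin (N + 1)) k)
    (hF : MvPolynomial.eval₂ (Polynomial.C.comp (algebraMap k (PowerSeries k))) h F = 0) (s : K) :
    ev k (fun l => Polynomial.eval₂ (rhoK (k := k) K : PowerSeries k →+* K) s (h l)) F = 0 := by
  have h1 := congrArg (Polynomial.eval₂RingHom (rhoK (k := k) K : PowerSeries k →+* K) s) hF
  rw [map_zero] at h1
  refine Eq.trans ?_ h1
  rw [ev, MvPolynomial.coe_eval₂Hom]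
  refine Eq.trans ?_ (MvPolynomial.hom_eval₂ F _ _ h).symm
  congr 1
  ext c
  simp only [RingHom.comp_apply, Polynomial.coe_eval₂RingHom, Polynomial.eval₂_C]
  exact ((rhoK (k := k) K).commutes c).symm

end Ev

theorem Lk_ne_zero {L : Type u} [Field L] [Algebra k L] {u : L} {φ : Fin (N + 1) → MvPowerSeries (Fin 2) k}
    {a : Fin (N + 1) → k} {q : ℕ} (hu : Transcendental k u) (h : Lk u φ a q) : ∃ l, φ l ≠ 0 := by
  obtain ⟨σ, n, h, v, hσ, hσc, hlt, hv, hn, hdeg, hprp, i, hi, hi'⟩ := h
  by_contra hcon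
  push Not at hcon
  apply hi
  funext l
  have h1 := hn l
  rw [hcon l, map_zero, map_zero] at h1
  have h2 : Polynomial.aeval u (h l) = 0 := by
    rcases mul_eq_zero.1 h1.symm with h3 | h3
    · exact absurd h3 hv
    · exact h3
  have h3 : h l = 0 := by
    by_contra h4
    exact hu ⟨h l, h4, h2⟩
  rw [h3, Polynomial.coeff_zero]
  rfl

/-- A rational curve from a family: the conclusion from a limit in the formal plane. -/
theorem exists_curve_of_lk {X : Scheme.{u}} (pX : X ⟶ Spec (CommRingCat.of k)) [IsProper pX]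
    (ι : X ⟶ ProjSpace N k) [IsClosedImmersion ι] (hι : ι ≫ ProjSpace.toSpec N k = pX)
    (φ : Fin (N + 1) → MvPowerSeries (Fin 2) k) (a : Fin (N + 1) → k) (j : Fin (N + 1)) (ha : IsUnit (a j))
    (q : ℕ) (hlk : Lk (RatFunc.X : RatFunc k) φ a q)
    (hF : ∀ F d, IsEqn ι F d → ev k (fun l => algebraMap (MvPowerSeries (Fin 2) k)
      (FractionRing (MvPowerSeries (Fin 2) k)) (φ l)) F = 0) :
    ∃ r : ProjSpace 1 k ⟶ X, r ≫ pX = ProjSpace.toSpec 1 k ∧ (¬ ∃ y : X, Set.range r.base ⊆ {y}) ∧
      pt1 k (0 : k) ≫ r ≫ ι = pt k a j ha ∧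
      Curv2.deg k (ProjSpace 1 k) ((Scheme.Modules.pullback (r ≫ ι)).obj (Twist.twistProjSpace N k 1)) 1 ≤ q := by
  obtain ⟨l₀, hl₀⟩ := Lk_ne_zero (RatFunc.transcendental_X) hlk
  have hinj : Function.Injective (algebraMap (MvPowerSeries (Fin 2) k)
      (FractionRing (MvPowerSeries (Fin 2) k))) := IsFractionRing.injective _ _
  have hi₀ : IsUnit (algebraMap (MvPowerSeries (Fin 2) k) (FractionRing (MvPowerSeries (Fin 2) k)) (φ l₀)) :=
    isUnit_iff_ne_zero.2 ((map_ne_zero_iff _ hinj).2 hl₀)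
  obtain ⟨κ, hκ⟩ := Eqn.exists_factor ι _ l₀ hi₀ hF
  have hκ' : κ ≫ pX = Spec.map (CommRingCat.ofHom (algebraMap k (FractionRing (MvPowerSeries (Fin 2) k)))) := by
    rw [← hι, ← Category.assoc, hκ, pt_toSpec]
  obtain ⟨r, h, j', hj', hr, hgen, hdeg, hnc, h0, -⟩ := Curve.exists_curve pX ι hι κ hκ' φ l₀ hi₀ hκ a q hlk j ha
  exact ⟨r, hr, hnc, h0, deg_le q h hdeg (r ≫ ι) (by rw [Category.assoc, hι, hr]) j' hj' hgen⟩

/-- the reduction divided by `u^q` -/
noncomputable def redq (e q : ℕ) (g : ℕ → PowerSeries k) : Polynomial k :=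
  ∑ i ∈ Finset.range (e + 1 - q), Polynomial.C (PowerSeries.coeff 0 (g (q + i))) * Polynomial.X ^ i

lemma coeff_redq (e q : ℕ) (g : ℕ → PowerSeries k) (i : ℕ) :
    (redq e q g).coeff i = if q + i ≤ e then PowerSeries.coeff 0 (g (q + i)) else 0 := by
  rw [redq, Polynomial.finsetSum_coeff]
  simp only [Polynomial.coeff_C_mul_X_pow]
  rw [Finset.sum_ite_eq]
  by_cases h : q + i ≤ e
  · rw [if_pos (Finset.mem_range.2 (by omega)), if_pos h]
  · rw [if_neg (fun h' => h (by have := Finset.mem_range.1 h'; omega)), if_neg h]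

lemma map_fp (e q : ℕ) (hq : q ≤ e) (g : ℕ → PowerSeries k) (hlt : ∀ i < q, PowerSeries.coeff 0 (g i) = 0) :
    (fp e g).map (PowerSeries.constantCoeff (R := k)) = Polynomial.X ^ q * redq e q g := by
  ext i
  rw [Polynomial.coeff_map, fp, Polynomial.finsetSum_coeff]
  simp only [Polynomial.coeff_C_mul_X_pow]
  rw [Finset.sum_ite_eq, Polynomial.coeff_X_pow_mul', coeff_redq]
  by_cases h : q ≤ i
  · rw [if_pos h]
    have h1 : q + (i - q) = i := by omega
    rw [h1]
    by_cases h2 : i ≤ e
    · rw [if_pos (Finset.mem_range.2 (by omega)), if_pos h2, PowerSeries.coeff_zero_eq_constantCoeff_apply]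
    · rw [if_neg (fun h' => h2 (by have := Finset.mem_range.1 h'; omega)), if_neg h2, map_zero]
  · rw [if_neg h, if_pos (Finset.mem_range.2 (by omega)), ← PowerSeries.coeff_zero_eq_constantCoeff_apply]
    exact hlt i (by omega)

/-- **Limits of families of rational curves.** -/
theorem exists_curve_of_family {X : Scheme.{u}} (pX : X ⟶ Spec (CommRingCat.of k)) [IsProper pX]
    (ι : X ⟶ ProjSpace N k) [IsClosedImmersion ι] (hι : ι ≫ ProjSpace.toSpec N k = pX)
    (e n : ℕ) (g : Fin (N + 1) → ℕ → PowerSeries k) (a : Fin (N + 1) → k) (j : Fin (N + 1)) (haj : IsUnit (a j))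
    (h0 : ∀ l, ∀ s < n, PowerSeries.coeff s (g l 0) = 0) (h0' : ∀ l, PowerSeries.coeff n (g l 0) = a l)
    (hmin : ∃ i, i ≤ e ∧ (fun l => PowerSeries.coeff 0 (g l i)) ≠ 0)
    (hinf : g j e = 0) (m : Fin (N + 1)) (hm : g m e ≠ 0)
    (hF : ∀ F d, IsEqn ι F d →
      MvPolynomial.eval₂ (Polynomial.C.comp (algebraMap k (PowerSeries k))) (fun l => fp e (g l)) F = 0) :
    ∃ r : ProjSpace 1 k ⟶ X, r ≫ pX = ProjSpace.toSpec 1 k ∧ (¬ ∃ y : X, Set.range r.base ⊆ {y}) ∧
      pt1 k (0 : k) ≫ r ≫ ι = pt k a j haj ∧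
      Curv2.deg k (ProjSpace 1 k) ((Scheme.Modules.pullback (r ≫ ι)).obj (Twist.twistProjSpace N k 1)) 1 ≤ e := by
  rcases tuple_limit (u := (RatFunc.X : RatFunc k)) RatFunc.transcendental_X e n g a j haj.ne_zero h0 h0' hmin hinf
    m hm with ⟨q, hq, h⟩ | ⟨q, hq, h⟩ | ⟨q, hq, hlt, hprp, i, hi, hqi, hne, hnp⟩
  · obtain ⟨r, h1, h2, h3, h4⟩ := exists_curve_of_lk pX ι hι _ a j haj q h fun F d hFd => by
      have := ev_eq_zero_of_family (K := FractionRing (MvPowerSeries (Fin 2) k)) (fun l => fp e (g l)) F (hF F d hFd)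
        (algebraMap (MvPowerSeries (Fin 2) k) (FractionRing (MvPowerSeries (Fin 2) k)) (MvPowerSeries.X 0))
      simp only [eval_fp_z] at this
      exact this
    exact ⟨r, h1, h2, h3, h4.trans (by exact_mod_cast hq)⟩
  · obtain ⟨r, h1, h2, h3, h4⟩ := exists_curve_of_lk pX ι hι _ a j haj q h fun F d hFd => by
      have h5 := ev_eq_zero_of_family (K := FractionRing (MvPowerSeries (Fin 2) k)) (fun l => fp e (g l)) F
        (hF F d hFd) (algebraMap (MvPowerSeries (Fin 2) k) (FractionRing (MvPowerSeries (Fin 2) k)) (MvPowerSeries.X 0))⁻¹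
      have hz : algebraMap (MvPowerSeries (Fin 2) k) (FractionRing (MvPowerSeries (Fin 2) k))
          (MvPowerSeries.X 0) ≠ 0 := by
        rw [Ne, map_eq_zero_iff _ (IsFractionRing.injective _ _)]
        intro h
        have := congrArg (MvPowerSeries.coeff (Finsupp.single 0 1)) h
        rw [map_zero, MvPowerSeries.coeff_X, if_pos rfl] at this
        exact one_ne_zero this
      have h6 := ev_smul_of_mem k
        ((algebraMap (MvPowerSeries (Fin 2) k) (FractionRing (MvPowerSeries (Fin 2) k)) (MvPowerSeries.X 0)) ^ e)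
        (fun l => Polynomial.eval₂ (rhoK (k := k) (FractionRing (MvPowerSeries (Fin 2) k)) :
          PowerSeries k →+* (FractionRing (MvPowerSeries (Fin 2) k)))
          (algebraMap (MvPowerSeries (Fin 2) k) (FractionRing (MvPowerSeries (Fin 2) k)) (MvPowerSeries.X 0))⁻¹ (fp e (g l))) d F hFd.2.1
      rw [h5, mul_zero] at h6
      simp only [eval_fp_w _ _ hz] at h6
      exact h6
    exact ⟨r, h1, h2, h3, h4.trans (by exact_mod_cast hq)⟩
  · obtain ⟨c, hc, hca⟩ := hprp
    have hca' : ∀ l, PowerSeries.coeff 0 (g l q) = c * a l := fun l => congrFun hca l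
    have hcoeff : ∀ l i, q + i ≤ e → (redq e q (g l)).coeff i = PowerSeries.coeff 0 (g l (q + i)) := by
      intro l i hi
      rw [coeff_redq, if_pos hi]
    have h00 : ∀ l, (redq e q (g l)).coeff 0 = c * a l := by
      intro l
      rw [hcoeff l 0 (by omega), add_zero, hca']
    have hunit : IsUnit ((redq e q (g j)).coeff 0) := by
      rw [h00]
      exact (isUnit_iff_ne_zero.2 hc).mul haj
    have hi' : ∀ l, (redq e q (g l)).coeff (i - q) = PowerSeries.coeff 0 (g l i) := by
      intro l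
      rw [hcoeff l (i - q) (by omega)]
      congr 2
      omega
    obtain ⟨r, h1, h2, h3, h4⟩ := exists_curve_poly pX ι hι e (fun l => redq e q (g l)) (fun l => by
        rw [Polynomial.natDegree_le_iff_coeff_eq_zero]
        intro n hn
        rw [coeff_redq, if_neg (by omega)]) j hunit (i - q) (by
        intro h
        apply hne
        rw [← h]
        exact funext fun l => (hi' l).symm) (by
        intro h
        apply hnp
        refine Prp.trans (b := fun l => (redq e q (g l)).coeff 0) ⟨c, hc, funext h00⟩ ?_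
        have h5 : (fun l => PowerSeries.coeff 0 (g l i)) = fun l => (redq e q (g l)).coeff (i - q) :=
          funext fun l => (hi' l).symm
        rw [h5]
        exact h) (fun F d hFd => by
        have h5 := congrArg (Polynomial.mapRingHom (PowerSeries.constantCoeff (R := k))) (hF F d hFd)
        rw [map_zero, MvPolynomial.hom_eval₂] at h5
        have h6 : (Polynomial.mapRingHom (PowerSeries.constantCoeff (R := k))).comp
            (Polynomial.C.comp (algebraMap k (PowerSeries k))) = Polynomial.C := by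
          ext c
          simp
        have h7 : (fun l => Polynomial.mapRingHom (PowerSeries.constantCoeff (R := k)) (fp e (g l))) =
            fun l => Polynomial.X ^ q * redq e q (g l) := by
          funext l
          exact map_fp e q hq (g l) fun i hi => congrFun (hlt i hi) l
        rw [h6, h7, Groth.Agent.CurvesC.ProjMap.eval₂_smul _ _ _
          ((MvPolynomial.mem_homogeneousSubmodule _ _).1 hFd.2.1)] at h5
        rcases mul_eq_zero.1 h5 with h8 | h8
        · exact absurd h8 (pow_ne_zero _ (pow_ne_zero _ Polynomial.X_ne_zero))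
        · exact h8)
    refine ⟨r, h1, h2, ?_, h4⟩
    rw [h3]
    exact pt_smul k c (isUnit_iff_ne_zero.2 hc) a j haj _ h00 j hunit

end K329.FamCurve
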