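import Groth.Agent.Curves.K329.Core2
import Groth.Agent.Curves.K329.FamCurve

/-!
# Bend and break with a degree bound: the numerical part on an abstract surface
-/

set_option autoImplicit false
universe u v

open CategoryTheory CategoryTheory.Limits AlgebraicGeometry TopologicalSpace IsLocalRing

namespace K329.Core3

open K329.Plan510 K329.ChartPt K329.DotLen K329.Coord K329.Pt K329.Core1 K329.Core2 K329.Link K329.Eqn K329.P1Gen CohB1
open Groth.Agent.Divis.CartierBasic Groth.Agent.Divis.CartierStalk Groth.Agent Groth.Agent.Grpsch.PicGrp K464.Base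

local notation "Sp" k:max => Spec (CommRingCat.of k)

variable {k : Type u} [Field k] [IsAlgClosed k]

/-- The existence of a rational curve of degree at most `q` through one of the points `p b`. -/
def HasCurve {X : Scheme.{u}} (pX : X ⟶ Sp k) {N : ℕ} (ι : X ⟶ ProjSpace N k) (T : Set X) (q : ℕ) : Prop :=
  ∃ r : ProjSpace 1 k ⟶ X, r ≫ pX = ProjSpace.toSpec 1 k ∧ (¬ ∃ y : X, Set.range r.base ⊆ {y}) ∧
    (∃ y ∈ T, y ∈ Set.range r.base) ∧
    Curv2.deg k (ProjSpace 1 k) ((Scheme.Modules.pullback (r ≫ ι)).obj (Twist.twistProjSpace N k 1)) 1 ≤ q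

omit [IsAlgClosed k] in
/-- A nonconstant limit gives a rational curve. -/
theorem hasCurve_of_lk {S X : Scheme.{u}} (s : S ⟶ Sp k) [IsIntegral S] (pX : X ⟶ Sp k) {N : ℕ} (ι : X ⟶ ProjSpace N k)
    [IsClosedImmersion ι] (hι : ι ≫ ProjSpace.toSpec N k = pX) {V : S.Opens} (hV : (V : Set S).Nonempty)
    (g : V.toScheme ⟶ X) (x : S) (a : Fin (N + 1) → k) (j₀ : Fin (N + 1)) (h₀ : IsUnit (a j₀)) (y : X)
    (hy : ι y = pt k a j₀ h₀ (closedPoint k)) (q : ℕ) (φ : Fin (N + 1) → S.presheaf.stalk x)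
    (hφ : IsCoord k s V.ι (g ≫ ι) x φ)
    (θ' : letI := alg s x; S.presheaf.stalk x →ₐ[k] MvPowerSeries (Fin 2) k)
    (hlk : Lk (RatFunc.X : RatFunc k) (fun l => θ' (φ l)) a q) (T : Set X) (hT : y ∈ T) : HasCurve pX ι T q := by
  let _ := alg s x
  have hpX : IsProper pX := by
    have : IsProper (ProjSpace.toSpec N k) := Groth.Agent.VarietyB.ProjSpaceProper.isProper_toSpec N k
    rw [← hι]
    infer_instance
  obtain ⟨r, hr, hnc, h0, hdeg⟩ := FamCurve.exists_curve_of_lk pX ι hι (fun l => θ' (φ l)) a j₀ h₀ q hlk (by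
    intro F d hF
    let w : S.presheaf.stalk x →ₐ[k] FractionRing (MvPowerSeries (Fin 2) k) :=
      (IsScalarTower.toAlgHom k (MvPowerSeries (Fin 2) k) (FractionRing (MvPowerSeries (Fin 2) k))).comp θ'
    have h2 := congrFun (congrArg DFunLike.coe (ev_comp k w φ)) F
    refine (Eq.symm h2).trans ?_
    change w (ev k φ F) = 0
    have h3 : ev k φ F = 0 := Coord.ev_eq_zero s ι g hV x φ hφ F d hF
    rw [h3, map_zero])
  refine ⟨r, hr, hnc, ⟨y, hT, pt1 k (0 : k) (closedPoint k), ?_⟩, hdeg⟩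
  apply ι.isClosedEmbedding.injective
  have h1 : (pt1 k (0 : k) ≫ r ≫ ι) (closedPoint k) = pt k a j₀ h₀ (closedPoint k) := by rw [h0]
  rw [hy, ← h1]
  rfl

section main

variable {S C X : Scheme.{u}} (s : S ⟶ Sp k) [IsIntegral S] [Smooth s] [IsProper s]
  (hdim : topologicalKrullDim S = 2) (f₁ : S ⟶ C) (pX : X ⟶ Sp k) {N : ℕ} (ι : X ⟶ ProjSpace N k)
  [IsClosedImmersion ι] (hι : ι ≫ ProjSpace.toSpec N k = pX) {V : S.Opens}
  (hVcod : ∀ x : S, x ∉ V → (2 : WithBot ℕ∞) ≤ ringKrullDim (S.presheaf.stalk x))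
  (g : V.toScheme ⟶ X) (hg : g ≫ pX = V.ι ≫ s)
  (D : (Fin (N + 1) → k) → S.IdealSheafData)
  (hco : ∀ x : S, ∃ φ : Fin (N + 1) → S.presheaf.stalk x,
    (∀ c, stalkIdeal (D c) x = Ideal.span {∑ l, sig s x (c l) * φ l}) ∧ IsCoord k s V.ι (g ≫ ι) x φ)
  (f : C → X) (B : Finset C) (hB : B.Nonempty) (hBc : ∀ b ∈ B, IsClosed ({b} : Set C))
  (hmax : ∀ b ∈ B, ∀ x : S, IsClosed ({x} : Set S) → f₁ x = b →
    ∃ (z : C.presheaf.stalk (f₁ x)) (t : S.presheaf.stalk x),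
    maximalIdeal (C.presheaf.stalk (f₁ x)) = Ideal.span {z} ∧
    maximalIdeal (S.presheaf.stalk x) = Ideal.span {(f₁.stalkMap x).hom z, t})
  (hθ : ∀ b ∈ B, ∃ (θ : S) (hθV : θ ∈ V), θ ≠ genericPoint S ∧
    (∀ x : S, f₁ x = b → ∃ hx : θ ⤳ x, ∀ z : C.presheaf.stalk (f₁ x),
      maximalIdeal (C.presheaf.stalk (f₁ x)) = Ideal.span {z} →
      (maximalIdeal (S.presheaf.stalk θ)).comap (S.presheaf.stalkSpecializes hx).hom =
        Ideal.span {(f₁.stalkMap x).hom z}) ∧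
    ∃ (a : Fin (N + 1) → k) (j₀ : Fin (N + 1)) (h₀ : IsUnit (a j₀)),
      (g ≫ ι) ⟨θ, hθV⟩ = pt k a j₀ h₀ (closedPoint k) ∧ ι (f b) = pt k a j₀ h₀ (closedPoint k))
  (e m2 dd : ℤ)
  (hfib : ∀ b (hb : b ∈ B), ∀ c, D c ≠ ⊥ →
    (∀ x : S, x ∈ (D c).support → x ∈ (fib f₁ (hBc b hb)).support → IsClosed ({x} : Set S)) →
    ((∑ᶠ x : S, len (D c ⊔ fib f₁ (hBc b hb)) x : ℕ) : ℤ) = e)
  (hm2 : ∀ c d, D c ≠ ⊥ → D d ≠ ⊥ →
    (∀ x : S, x ∈ (D c).support → x ∈ (D d).support → IsClosed ({x} : Set S)) →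
    ((∑ᶠ x : S, len (D c ⊔ D d) x : ℕ) : ℤ) = m2)
  (hHodge : 0 < e → m2 ≤ 2 * dd * e)
  (hrig : ∀ c, ∀ b ∈ B, ¬ ∀ x : S, f₁ x = b → x ∉ (D c).support)

include hdim hι hVcod hg hco hB hmax hθ hfib hm2 hHodge hrig in
/-- **The numerical conclusion.** -/
theorem exists_curve : ∃ r : ProjSpace 1 k ⟶ X, r ≫ pX = ProjSpace.toSpec 1 k ∧
    (¬ ∃ y : X, Set.range r.base ⊆ {y}) ∧ (∃ b ∈ B, f b ∈ Set.range r.base) ∧
    Curv2.deg k (ProjSpace 1 k) ((Scheme.Modules.pullback (r ≫ ι)).obj (Twist.twistProjSpace N k 1)) 1 *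
      (B.card : ℤ) ≤ 2 * dd := by
  classical
  let _ : S.Over (Sp k) := ⟨s⟩
  have : Smooth (S ↘ (Sp k)) := inferInstanceAs (Smooth s)
  have hN : IsLocallyNoetherian S := LocallyOfFiniteType.isLocallyNoetherian s
  have hcp : CompactSpace S := QuasiCompact.compactSpace_of_compactSpace s
  have hNS : IsNoetherian S := {}
  have hinf : Infinite k := IsAlgClosed.instInfinite
  have hG : (g ≫ ι) ≫ ProjSpace.toSpec N k = V.ι ≫ s := by rw [Category.assoc, hι, hg]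
  choose θ hθV hθη hθx a j₀ h₀ hya hyb using hθ
  -- the first linear form
  obtain ⟨c, hc⟩ := Choice.exists_form (k := k) (n := N + 1) (Set.univ : Set {b // b ∈ B}) Set.finite_univ (fun _ => k)
    (fun _ => RingHom.id k) (fun b => a b.1 b.2) (fun b _ h => (h₀ b.1 b.2).ne_zero (congrFun h _))
  have hc' : ∀ b (hb : b ∈ B), ∑ l, c l * a b hb l ≠ 0 := fun b hb => hc ⟨b, hb⟩ trivial
  have hnot : ∀ b (hb : b ∈ B), θ b hb ∉ (D c).support := fun b hb =>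
    notMem_support s (g ≫ ι) D hco hG (hθV b hb) (a b hb) (j₀ b hb) (h₀ b hb) (hya b hb) c (hc' b hb)
  obtain ⟨b₁, hb₁⟩ := hB
  have hcbot : D c ≠ ⊥ := ne_bot_of_notMem (hnot b₁ hb₁)
  have hη : genericPoint S ∉ (D c).support := fun h =>
    hnot b₁ hb₁ (((genericPoint_spec S).specializes trivial).mem_closed (D c).support.isClosed h)
  -- the second linear form
  obtain ⟨d, hdbot, hd⟩ := exists_second s (g ≫ ι) D hco hVcod (D c) hη
  have hcl := isClosed_of_mem s hdim hd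
  have hclf : ∀ b (hb : b ∈ B) (x : S), x ∈ (D c).support → x ∈ (fib f₁ (hBc b hb)).support →
      IsClosed ({x} : Set S) := fun b hb =>
    isClosed_of_mem_fib s hdim f₁ (g ≫ ι) hG D hco (hBc b hb) (θ b hb) (hθη b hb) (hθV b hb) (hθx b hb) (a b hb)
      (j₀ b hb) (h₀ b hb) (hya b hb) c (hc' b hb)
  have hfin := finite_support_len hcl
  -- there is a common point of the divisor and each fibre
  have hex : ∀ b (hb : b ∈ B), ∃ x : S, x ∈ (D c).support ∧ x ∈ (fib f₁ (hBc b hb)).support := by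
    intro b hb
    by_contra hcon
    push Not at hcon
    exact hrig c b hb fun x hx hx' => hcon x hx' ((mem_support_fib f₁ (hBc b hb) x).2 hx)
  have hepos : 0 < e := by
    obtain ⟨x, hx1, hx2⟩ := hex b₁ hb₁
    obtain ⟨z, t, -, hzt⟩ := hmax b₁ hb₁ x (hclf b₁ hb₁ x hx1 hx2) ((mem_support_fib f₁ (hBc b₁ hb₁) x).1 hx2)
    have h1 := len_ne_zero s (hclf b₁ hb₁) hx1 hx2 ⟨_, _, hzt⟩
    rw [← hfib b₁ hb₁ c hcbot (hclf b₁ hb₁)]
    have h2 := single_le_finsum x (finite_support_len (hclf b₁ hb₁)) (fun _ => Nat.zero_le _)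
    exact_mod_cast lt_of_lt_of_le (Nat.pos_of_ne_zero h1) h2
  -- the minimal degree
  have hVne : (V : Set S).Nonempty := ⟨_, hθV b₁ hb₁⟩
  let T : Set X := {y | ∃ b ∈ B, f b = y}
  have hP : ∀ b (hb : b ∈ B) (x : S), f₁ x = b → letI := alg s x
      ∀ (θ' : S.presheaf.stalk x →ₐ[k] MvPowerSeries (Fin 2) k) (q : ℕ) (φ : Fin (N + 1) → S.presheaf.stalk x),
        IsCoord k s V.ι (g ≫ ι) x φ → Lk (RatFunc.X : RatFunc k) (fun l => θ' (φ l)) (a b hb) q →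
          HasCurve pX ι T q := fun b hb x _ θ' q φ hφ hlk =>
    hasCurve_of_lk s pX ι hι hVne g x (a b hb) (j₀ b hb) (h₀ b hb) (f b) (hyb b hb) q φ hφ θ' hlk T ⟨b, hb, rfl⟩
  have hex' : ∃ q, HasCurve pX ι T q := by
    obtain ⟨x, hx1, hx2⟩ := hex b₁ hb₁
    obtain ⟨θ', q, φ, hφ, hlk⟩ := exists_lk s hdim f₁ (g ≫ ι) hG D hco (hBc b₁ hb₁) (hmax b₁ hb₁) (θ b₁ hb₁)
      (hθη b₁ hb₁) (hθV b₁ hb₁) (hθx b₁ hb₁) (a b₁ hb₁) (j₀ b₁ hb₁) (h₀ b₁ hb₁) (hya b₁ hb₁) c d (hc' b₁ hb₁) hcl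
      hx1 hx2
    exact ⟨q, hP b₁ hb₁ x ((mem_support_fib f₁ (hBc b₁ hb₁) x).1 hx2) θ' q φ hφ hlk⟩
  let δ := Nat.find hex'
  have hδ : ∀ q, HasCurve pX ι T q → δ ≤ q := fun q hq => Nat.find_min' hex' hq
  -- the inequality
  have hloc : ∀ b (hb : b ∈ B) (x : S), δ * len (D c ⊔ fib f₁ (hBc b hb)) x ≤ len (D c ⊔ D d) x := fun b hb x =>
    len_le s hdim f₁ (g ≫ ι) hG D hco (hBc b hb) (hmax b hb) (θ b hb) (hθη b hb) (hθV b hb) (hθx b hb) (a b hb)
      (j₀ b hb) (h₀ b hb) (hya b hb) c d (hc' b hb) hcl δ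
      (fun x hx θ' q φ hφ hlk => hδ q (hP b hb x hx θ' q φ hφ hlk)) x
  let L : {b // b ∈ B} → S → ℕ := fun b x => len (D c ⊔ fib f₁ (hBc b.1 b.2)) x
  have hsum := SumLe.sum_le B.attach L (len (D c ⊔ D d)) δ hfin (fun b _ x => hloc b.1 b.2 x) (by
    intro b _ b' _ x hx hx'
    have key : ∀ b : {b // b ∈ B}, L b x ≠ 0 → f₁ x = b.1 := by
      intro b hb
      rw [← mem_support_fib f₁ (hBc b.1 b.2) x]
      by_contra h
      apply hb
      apply len_eq_zero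
      rw [Scheme.IdealSheafData.support_sup]
      exact fun h' => h h'.2
    exact Subtype.ext ((key b hx).symm.trans (key b' hx')))
  have hL : ∀ b : {b // b ∈ B}, ((∑ᶠ x, L b x : ℕ) : ℤ) = e := fun b => hfib b.1 b.2 c hcbot (hclf b.1 b.2)
  have h1 : ((∑ b ∈ B.attach, ∑ᶠ x, L b x : ℕ) : ℤ) = B.card * e := by
    rw [Nat.cast_sum]
    refine (Finset.sum_congr rfl fun b _ => hL b).trans ?_
    rw [Finset.sum_const, Finset.card_attach, nsmul_eq_mul]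
  have h2 := hm2 c d hcbot hdbot hcl
  have h3 : (δ : ℤ) * (B.card * e) ≤ m2 := by
    rw [← h1, ← h2]
    exact_mod_cast hsum
  have h4 := h3.trans (hHodge hepos)
  have h5 : (δ : ℤ) * B.card ≤ 2 * dd := by
    have h6 : (δ : ℤ) * B.card * e ≤ 2 * dd * e := by rw [mul_assoc]; exact h4
    exact le_of_mul_le_mul_right h6 hepos
  obtain ⟨r, hr, hnc, ⟨y, ⟨b, hb, rfl⟩, hy⟩, hdeg⟩ := Nat.find_spec hex'
  refine ⟨r, hr, hnc, ⟨b, hb, hy⟩, le_trans ?_ h5⟩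
  exact mul_le_mul_of_nonneg_right hdeg (Int.natCast_nonneg _)

end main

end K329.Core3
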