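import Groth.Agent.Curves.K329.Limit

/-!
# Rational curves as limits of families over `Spec k⟦z,t⟧`

`exists_curve`: a nonconstant weighted limit of the coordinates of a point of a projective scheme `Y` over the
fraction field of `k⟦z,t⟧` gives a rational curve on `Y`.
-/

set_option autoImplicit false
universe u

open CategoryTheory AlgebraicGeometry IsLocalRing

namespace K329.Curve

open CohB1 K329.Pt K329.P1Gen K329.SubstWt K329.Link K329.TwoArcs K329.Prim K329.Limit

variable {k : Type u} [Field k] {N : ℕ}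

lemma aeval_ratFunc (p : Polynomial k) :
    Polynomial.aeval (RatFunc.X : RatFunc k) p = algebraMap (Polynomial k) (RatFunc k) p := by
  have h1 := Polynomial.aeval_algebraMap_apply (RatFunc k) (Polynomial.X : Polynomial k) p
  rw [RatFunc.algebraMap_X, Polynomial.aeval_X_left_apply] at h1
  exact h1

lemma isUnit_aeval_ratFunc {p : Polynomial k} (hp : p ≠ 0) :
    IsUnit (Polynomial.aeval (RatFunc.X : RatFunc k) p) := by
  rw [aeval_ratFunc]
  exact isUnit_iff_ne_zero.2 ((map_ne_zero_iff _ (RatFunc.algebraMap_injective k)).2 hp)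

instance isDominant_genP : IsDominant (genP k) := by
  constructor
  rw [DenseRange, dense_iff_closure_eq]
  have h1 : closure {genericPoint (ProjSpace 1 k)} = Set.univ := genericPoint_closure _
  rw [Set.eq_univ_iff_forall] at h1 ⊢
  intro x
  refine closure_mono ?_ (h1 x)
  rw [Set.singleton_subset_iff, ← genP_closedPoint]
  exact ⟨_, rfl⟩

/-- A morphism from the projective line to a separated scheme is determined by its value at the generic point. -/
theorem ext_genP {Z : Scheme.{u}} (pZ : Z ⟶ Spec (CommRingCat.of k)) [IsSeparated pZ] (r r' : ProjSpace 1 k ⟶ Z)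
    (h : r ≫ pZ = r' ≫ pZ) (h' : genP k ≫ r = genP k ≫ r') : r = r' :=
  ext_of_isDominant_of_isSeparated pZ h (genP k) h'

/-- A morphism given by polynomials whose vectors of coefficients are not all proportional is not constant. -/
theorem not_const {Y : Scheme.{u}} (pY : Y ⟶ Spec (CommRingCat.of k)) [IsSeparated pY] (ι : Y ⟶ ProjSpace N k)
    (hι : ι ≫ ProjSpace.toSpec N k = pY) (r : ProjSpace 1 k ⟶ Y) (hr : r ≫ pY = ProjSpace.toSpec 1 k)
    (h : Fin (N + 1) → Polynomial k) (j : Fin (N + 1))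
    (hj : IsUnit (Polynomial.aeval (RatFunc.X : RatFunc k) (h j)))
    (hgen : genP k ≫ r ≫ ι = pt k (fun l => Polynomial.aeval (RatFunc.X : RatFunc k) (h l)) j hj)
    (l₀ : Fin (N + 1)) (hl₀ : (h l₀).coeff 0 ≠ 0) (i : ℕ) (hi : (fun l => (h l).coeff i) ≠ 0)
    (hi' : ¬ Prp (fun l => (h l).coeff 0) (fun l => (h l).coeff i)) : ¬ ∃ y : Y, Set.range r.base ⊆ {y} := by
  rintro ⟨y, hy⟩
  have hy' : ∀ x : ProjSpace 1 k, r x = y := fun x => hy ⟨x, rfl⟩
  have hc : IsUnit (Polynomial.aeval (0 : k) (h l₀)) := by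
    rw [← Polynomial.coeff_zero_eq_aeval_zero]
    exact isUnit_iff_ne_zero.2 hl₀
  let m₀ : Spec (CommRingCat.of k) ⟶ Y := pt1 k (0 : k) ≫ r
  have hm₀ : m₀ ≫ pY = 𝟙 _ := by
    rw [Category.assoc, hr, pt1_toSpec]
    exact Spec.map_id _
  have h1 : genP k ≫ r = Spec.map (CommRingCat.ofHom (algebraMap k (RatFunc k))) ≫ m₀ := by
    refine eq_of_apply_eq pY m₀ hm₀ _ ?_ ?_
    · rw [Category.assoc, hr, genP_toSpec]
    · rw [Scheme.Hom.comp_apply, Scheme.Hom.comp_apply, hy', hy']
  have h2 : pt1 k (0 : k) ≫ r ≫ ι = pt k (fun l => Polynomial.aeval (0 : k) (h l)) l₀ hc :=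
    pt1_comp (r ≫ ι) (by rw [Category.assoc, hι, hr]) h j hj hgen (0 : k) l₀ hc
  have h3 : genP k ≫ r ≫ ι = pt k (fun l => (Algebra.ofId k (RatFunc k)) (Polynomial.aeval (0 : k) (h l))) l₀
      (hc.map _) := by
    rw [← Category.assoc, h1, Category.assoc, Category.assoc, h2]
    exact map_pt k (Algebra.ofId k (RatFunc k)) _ _ _
  rw [hgen] at h3
  obtain ⟨v, hv, hv'⟩ := exists_smul_of_pt_eq k _ _ h3
  -- `h l = C (c l / c l₀) * h l₀`
  have h4 : ∀ l, h l * Polynomial.C ((h l₀).coeff 0) = h l₀ * Polynomial.C ((h l).coeff 0) := by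
    intro l
    apply RatFunc.algebraMap_injective k
    have e1 := hv' l
    have e2 := hv' l₀
    have e3 : ∀ c : k, (Algebra.ofId k (RatFunc k)) c = algebraMap (Polynomial k) (RatFunc k) (Polynomial.C c) := by
      intro c
      rfl
    rw [aeval_ratFunc, ← Polynomial.coeff_zero_eq_aeval_zero, e3] at e1 e2
    rw [map_mul, map_mul, e1, e2]
    ring
  apply hi'
  have h5 : ∀ l, (h l).coeff i = ((h l₀).coeff i / (h l₀).coeff 0) * (h l).coeff 0 := by
    intro l
    have e1 := congrArg (fun p => Polynomial.coeff p i) (h4 l)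
    simp only [Polynomial.coeff_mul_C] at e1
    field_simp
    linear_combination e1
  refine ⟨(h l₀).coeff i / (h l₀).coeff 0, ?_, funext h5⟩
  intro h0
  apply hi
  funext l
  rw [h5 l, h0, zero_mul]
  rfl

/-- A rational curve obtained as a limit. -/
theorem exists_curve {Y : Scheme.{u}} (pY : Y ⟶ Spec (CommRingCat.of k)) [IsProper pY] (ι : Y ⟶ ProjSpace N k)
    (hι : ι ≫ ProjSpace.toSpec N k = pY) {K : Type u} [Field K] [Algebra k K]
    [Algebra (MvPowerSeries (Fin 2) k) K] [IsScalarTower k (MvPowerSeries (Fin 2) k) K]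
    [IsFractionRing (MvPowerSeries (Fin 2) k) K] (κ : Spec (CommRingCat.of K) ⟶ Y)
    (hκ : κ ≫ pY = Spec.map (CommRingCat.ofHom (algebraMap k K)))
    (φ : Fin (N + 1) → MvPowerSeries (Fin 2) k) (i₀ : Fin (N + 1))
    (hi₀ : IsUnit (algebraMap (MvPowerSeries (Fin 2) k) K (φ i₀)))
    (hφ : κ ≫ ι = pt k (fun l => algebraMap (MvPowerSeries (Fin 2) k) K (φ l)) i₀ hi₀)
    (a : Fin (N + 1) → k) (q : ℕ) (hlk : Lk (RatFunc.X : RatFunc k) φ a q) (i₁ : Fin (N + 1))
    (ha : IsUnit (a i₁)) :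
    ∃ (r : ProjSpace 1 k ⟶ Y) (h : Fin (N + 1) → Polynomial k) (j : Fin (N + 1))
      (hj : IsUnit (Polynomial.aeval (RatFunc.X : RatFunc k) (h j))),
      r ≫ pY = ProjSpace.toSpec 1 k ∧
      genP k ≫ r ≫ ι = pt k (fun l => Polynomial.aeval (RatFunc.X : RatFunc k) (h l)) j hj ∧
      (∀ l, (h l).natDegree ≤ q) ∧ (¬ ∃ y : Y, Set.range r.base ⊆ {y}) ∧
      pt1 k (0 : k) ≫ r ≫ ι = pt k a i₁ ha ∧
      ∀ {Z : Scheme.{u}} (pZ : Z ⟶ Spec (CommRingCat.of k)) [IsSeparated pZ] (f : Y ⟶ Z), f ≫ pZ = pY →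
        ∀ θ : Spec (CommRingCat.of (MvPowerSeries (Fin 2) k)) ⟶ Z,
        θ ≫ pZ = Spec.map (CommRingCat.ofHom (algebraMap k (MvPowerSeries (Fin 2) k))) →
        κ ≫ f = Spec.map (CommRingCat.ofHom (algebraMap (MvPowerSeries (Fin 2) k) K)) ≫ θ →
        r ≫ f = ProjSpace.toSpec 1 k ≫
          Spec.map (CommRingCat.ofHom (cc2 k : MvPowerSeries (Fin 2) k →+* k)) ≫ θ := by
  obtain ⟨σ, n, h, v, hσ, hσc, hlt, hv, hn, hdeg, hprp, i, hi, hi'⟩ := hlk
  let L := RatFunc k
  let E := FractionRing (PowerSeries L)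
  let ε : PowerSeries L →ₐ[k] E := IsScalarTower.toAlgHom k (PowerSeries L) E
  have hε : Function.Injective ε := IsFractionRing.injective (PowerSeries L) E
  have hεσ : Function.Injective (ε.comp σ) := hε.comp hσ
  let σE : K →ₐ[k] E := IsFractionRing.liftAlgHom (A := MvPowerSeries (Fin 2) k) (g := ε.comp σ) hεσ
  have hσE : ∀ x, σE (algebraMap (MvPowerSeries (Fin 2) k) K x) = ε (σ x) := fun x =>
    IsFractionRing.lift_algebraMap hεσ x
  have hσE' : CommRingCat.ofHom (algebraMap (MvPowerSeries (Fin 2) k) K) ≫ CommRingCat.ofHom (σE : K →+* E) =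
      CommRingCat.ofHom (σ : MvPowerSeries (Fin 2) k →+* PowerSeries L) ≫ CommRingCat.ofHom (ε : PowerSeries L →+* E) := by
    refine CommRingCat.hom_ext (RingHom.ext fun x => ?_)
    exact hσE x
  -- the family over `L⟦X⟧`
  obtain ⟨M, hM1, hM2⟩ := exists_lift (V := PowerSeries L) (E := E) pY
    (Spec.map (CommRingCat.ofHom (σE : K →+* E)) ≫ κ)
    (Spec.map (CommRingCat.ofHom (algebraMap k (PowerSeries L)))) (by
      rw [Category.assoc, hκ, ← Spec.map_comp, ← Spec.map_comp]
      congr 1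
      refine CommRingCat.hom_ext (RingHom.ext fun x => ?_)
      refine (σE.commutes x).trans ?_
      exact IsScalarTower.algebraMap_apply k (PowerSeries L) E x)
  let δ : Spec (CommRingCat.of L) ⟶ Y := Spec.map (CommRingCat.ofHom (cc k L : PowerSeries L →+* L)) ≫ M
  have hδ : δ ≫ pY = Spec.map (CommRingCat.ofHom (algebraMap k (RatFunc k))) := by
    rw [Category.assoc, hM1, ← Spec.map_comp]
    congr 1
  obtain ⟨r, hr, hrδ⟩ := P1Gen.exists_extension k pY δ hδ
  -- the coordinates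
  have hg : ∀ l, ∃ g : PowerSeries L, σ (φ l) = PowerSeries.X ^ n * g ∧
      PowerSeries.constantCoeff g = v * Polynomial.aeval (RatFunc.X : RatFunc k) (h l) := by
    intro l
    have h1 : (PowerSeries.X : PowerSeries L) ^ n ∣ σ (φ l) := by
      rw [PowerSeries.X_pow_dvd_iff]
      exact fun m hm => hlt l m hm
    obtain ⟨g, hg⟩ := h1
    refine ⟨g, hg, ?_⟩
    rw [← hn l, hg, ← PowerSeries.coeff_zero_eq_constantCoeff_apply]
    have := PowerSeries.coeff_X_pow_mul g n 0
    rw [zero_add] at this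
    exact this.symm
  choose g hg1 hg2 using hg
  obtain ⟨j, hj0⟩ : ∃ j, h j ≠ 0 := by
    by_contra hcon
    push Not at hcon
    apply hi
    funext l
    rw [hcon l, Polynomial.coeff_zero]
    rfl
  have hj : IsUnit (Polynomial.aeval (RatFunc.X : RatFunc k) (h j)) := isUnit_aeval_ratFunc hj0
  have hgj : IsUnit (PowerSeries.constantCoeff (g j)) := by
    rw [hg2]
    exact (isUnit_iff_ne_zero.2 hv).mul hj
  have hgen : δ ≫ ι = pt k (fun l => Polynomial.aeval (RatFunc.X : RatFunc k) (h l)) j hj := by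
    have h1 := (closed_of_generic (k := k) ε hε (M ≫ ι) (by rw [Category.assoc, hι, hM1])
      (fun l => σE (algebraMap (MvPowerSeries (Fin 2) k) K (φ l))) i₀ (hi₀.map σE) (by
        rw [← Category.assoc]
        change (Spec.map (CommRingCat.ofHom (algebraMap (PowerSeries L) E)) ≫ M) ≫ ι = _
        rw [hM2, Category.assoc, hφ]
        exact map_pt k σE _ _ _) (ε (PowerSeries.X ^ n)) g
      (by
        refine isUnit_iff_ne_zero.2 ((map_ne_zero_iff _ hε).2 ?_)
        exact pow_ne_zero _ PowerSeries.X_ne_zero)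
      (fun l => by rw [hσE, hg1, map_mul]) j hgj).2
    rw [Category.assoc, h1]
    exact (pt_smul k v (isUnit_iff_ne_zero.2 hv) _ j hj _ (fun l => hg2 l) j hgj)
  have hgen' : genP k ≫ r ≫ ι = pt k (fun l => Polynomial.aeval (RatFunc.X : RatFunc k) (h l)) j hj := by
    rw [← Category.assoc, hrδ, hgen]
  obtain ⟨c, hc, hca⟩ := hprp
  have hca' : ∀ l, (h l).coeff 0 = c * a l := fun l => congrFun hca l
  have hl₀ : (h i₁).coeff 0 ≠ 0 := by
    rw [hca']
    exact mul_ne_zero hc ha.ne_zero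
  refine ⟨r, h, j, hj, hr, hgen', hdeg, ?_, ?_, ?_⟩
  · refine not_const pY ι hι r hr h j hj hgen' i₁ hl₀ i hi fun hp => hi' ?_
    exact Prp.trans ⟨c, hc, hca⟩ hp
  · have hc' : IsUnit (Polynomial.aeval (0 : k) (h i₁)) := by
      rw [← Polynomial.coeff_zero_eq_aeval_zero]
      exact isUnit_iff_ne_zero.2 hl₀
    rw [pt1_comp (r ≫ ι) (by rw [Category.assoc, hι, hr]) h j hj hgen' (0 : k) i₁ hc']
    refine pt_smul k c (isUnit_iff_ne_zero.2 hc) _ _ _ _ (fun l => ?_) _ _
    rw [← Polynomial.coeff_zero_eq_aeval_zero]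
    exact hca' l
  · intro Z pZ hsep f hf θ hθ hκf
    have h1 : M ≫ f = Spec.map (CommRingCat.ofHom (σ : MvPowerSeries (Fin 2) k →+* PowerSeries L)) ≫ θ := by
      refine ext_of_injective (ε : PowerSeries L →+* E) hε pZ _ _ ?_ ?_
      · rw [Category.assoc, hf, hM1, Category.assoc, hθ, ← Spec.map_comp]
        congr 1
        refine CommRingCat.hom_ext (RingHom.ext fun x => ?_)
        exact (σ.commutes x).symm
      · rw [← Category.assoc]
        change (Spec.map (CommRingCat.ofHom (algebraMap (PowerSeries L) E)) ≫ M) ≫ f = _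
        rw [hM2, Category.assoc, hκf, ← Category.assoc, ← Spec.map_comp, hσE', Spec.map_comp, Category.assoc]
    have h2 : CommRingCat.ofHom (σ : MvPowerSeries (Fin 2) k →+* PowerSeries L) ≫
        CommRingCat.ofHom (cc k L : PowerSeries L →+* L) =
        CommRingCat.ofHom (cc2 k : MvPowerSeries (Fin 2) k →+* k) ≫ CommRingCat.ofHom (algebraMap k L) := by
      refine CommRingCat.hom_ext (RingHom.ext fun x => ?_)
      exact hσc x
    refine ext_genP pZ _ _ ?_ ?_
    · rw [Category.assoc, hf, hr, Category.assoc, Category.assoc, hθ, ← Spec.map_comp]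
      have h3 : CommRingCat.ofHom (algebraMap k (MvPowerSeries (Fin 2) k)) ≫
          CommRingCat.ofHom (cc2 k : MvPowerSeries (Fin 2) k →+* k) = 𝟙 _ := by
        refine CommRingCat.hom_ext (RingHom.ext fun x => ?_)
        exact (cc2 k).commutes x
      rw [h3, Spec.map_id, Category.comp_id]
    · rw [← Category.assoc, hrδ, Category.assoc, h1, ← Category.assoc, ← Spec.map_comp, h2, Spec.map_comp,
        Category.assoc, ← Category.assoc (genP k), genP_toSpec]

end K329.Curve
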