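import Groth.Agent.Curves.K329.Homog
import Groth.Agent.Curves.K329.Curve
import Groth.Agent.Curves.K330.FormSec
import Groth.Agent.CurvesC.ProjMap
import Groth.Agent.CycA.MovVec
import Groth.Agent.Dix.Cast2
import Groth.Agent.CurvesB.CurveRR
import Groth.Agent.VarietyB.DegPhi

/-!
# The degree of a morphism from the projective line to projective space

`deg_eq`: if `genP k ≫ r = pt (h(u))` for polynomials `h l` without common zero, then `deg r^*O(1) = max natDegree (h l)`.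
-/

set_option autoImplicit false
universe u

open CategoryTheory AlgebraicGeometry IsLocalRing TopologicalSpace

namespace K329.Deg

open CohB1 K329.Pt K329.P1Gen K329.Homog K329.Curve
open Groth.Agent Groth.Agent.CurvesC Groth.Agent.CurvesC.ProjSpaceBasic
open Groth.Agent.VarietyB.ProjHom (awayLift awayLift_mk awayLift_comp)

variable {k : Type u} [Field k] {N : ℕ}

theorem deg_twist (m : ℤ) : Curv2.deg k (ProjSpace 1 k) (Twist.twistProjSpace 1 k m) 1 = m := by
  have hp : IsProper (ProjSpace 1 k ↘ Spec (CommRingCat.of k)) := VarietyB.ProjSpaceProper.isProper_toSpec 1 k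
  have hN : IsNoetherian (ProjSpace 1 k) := CurvesB.CurveRR.isNoetherian_of_proper k _
  have hd : topologicalKrullDim (ProjSpace 1 k) ≤ 1 := CohqA.ProjDim.topologicalKrullDim_le k 1
  have h1 := Dix.Cast2.wp2_deg k m
  rw [Curv2.deg, CurvesB.CurveRR.euler_eq k _ hd, CurvesB.CurveRR.euler_eq k _ hd]
  rw [ArSurf.curveDeg, Dix.Cast2.eulerCharLE_eq, Dix.Cast2.eulerCharLE_eq] at h1
  push_cast
  rw [one_mul]
  exact h1

theorem deg_congr {X : Scheme.{u}} [X.Over (Spec (CommRingCat.of k))] {M M' : X.Modules} (e : M ≅ M') (n : ℕ) :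
    Curv2.deg k X M n = Curv2.deg k X M' n := by
  rw [Curv2.deg, Curv2.deg, VarietyB.DegPhi.euler_congr k e]

section Eval

variable {B : Type u} [CommRing B] [Algebra k B]

theorem pt_appLE (b : Fin (N + 1) → B) (i : Fin (N + 1)) (hi : IsUnit (b i))
    (h : ⊤ ≤ pt k b i hi ⁻¹ᵁ Proj.basicOpen (polyGrading N k) (MvPolynomial.X i))
    (z : HomogeneousLocalization.Away (polyGrading N k) (MvPolynomial.X i)) :
    (pt k b i hi).appLE _ ⊤ h (Proj.awayToSection (polyGrading N k) (MvPolynomial.X i) z) =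
      (Scheme.ΓSpecIso (CommRingCat.of B)).inv
        (awayLift (polyGrading N k) (ev k b) (MvPolynomial.X i) (isUnit_ev k hi) z) := by
  have h1 : ∀ (m : Spec (CommRingCat.of B) ⟶ ProjSpace N k)
      (_ : m = VarietyB.ProjHom.toProj (polyGrading N k) (evΓ k b) (X_mem N k i) Nat.one_pos (isUnit_evΓ k hi))
      (h : ⊤ ≤ m ⁻¹ᵁ Proj.basicOpen (polyGrading N k) (MvPolynomial.X i)),
      m.appLE _ ⊤ h (Proj.awayToSection (polyGrading N k) (MvPolynomial.X i) z) =
        (Scheme.ΓSpecIso (CommRingCat.of B)).inv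
          (awayLift (polyGrading N k) (ev k b) (MvPolynomial.X i) (isUnit_ev k hi) z) := by
    rintro _ rfl h
    have h2 := CycA.MovVec.toProj_app (polyGrading N k) (evΓ k b) (X_mem N k i) Nat.one_pos (isUnit_evΓ k hi) z
    rw [Scheme.Hom.appLE, CommRingCat.comp_apply]
    refine (congrArg _ h2).trans ?_
    refine (Gen.map_map_function (X := Spec (CommRingCat.of B)) h _ _).trans ?_
    refine (Gen.map_self_function (X := Spec (CommRingCat.of B)) _ _).trans ?_
    exact (congrArg (fun f => f z) (awayLift_comp (polyGrading N k) (ev k b) (isUnit_ev k hi) (X_mem N k i)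
      (Scheme.ΓSpecIso (CommRingCat.of B)).inv.hom)).symm
  exact h1 _ (pt_eq_toProj k b i hi) h

theorem preimage_basicOpen (b : Fin (N + 1) → B) (i : Fin (N + 1)) (hi : IsUnit (b i))
    {F : MvPolynomial (Fin (N + 1)) k} {d : ℕ} (hF : F ∈ polyGrading N k d) (hd : 0 < d) :
    pt k b i hi ⁻¹ᵁ Proj.basicOpen (polyGrading N k) F = (Spec (CommRingCat.of B)).basicOpen (evΓ k b F) := by
  rw [pt_eq_toProj]
  exact VarietyB.ProjHom.toProj_preimage_basicOpen _ _ _ _ _ hF hd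

theorem pt_top_le (b : Fin (N + 1) → B) (i : Fin (N + 1)) (hi : IsUnit (b i)) :
    ⊤ ≤ pt k b i hi ⁻¹ᵁ Proj.basicOpen (polyGrading N k) (MvPolynomial.X i) := by
  rw [preimage_basicOpen b i hi (X_mem N k i) Nat.one_pos, Scheme.basicOpen_of_isUnit _ (isUnit_evΓ k hi)]

theorem pt_dehom (b : Fin (N + 1) → B) (i : Fin (N + 1)) (hi : IsUnit (b i))
    (h : ⊤ ≤ pt k b i hi ⁻¹ᵁ LefPen.chart N k i) {d : ℕ} (G : LefPen.Form N k d) (w : B)
    (hw : w * b i ^ d = ev k b G.1) :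
    (pt k b i hi).appLE (LefPen.chart N k i) ⊤ h (LefPen.dehom G i) = (Scheme.ΓSpecIso (CommRingCat.of B)).inv w := by
  refine (pt_appLE b i hi h _).trans ?_
  congr 1
  apply (hi.pow d).mul_right_cancel
  rw [hw]
  have h1 := awayLift_mk (polyGrading N k) (ev k b) (isUnit_ev k hi) (X_mem N k i) d G.1
    (by rw [smul_eq_mul, mul_one]; exact G.2)
  rw [ev_X] at h1
  exact h1

end Eval

/-- The morphism given by polynomials without common zero, its values, and the pullback of `O(1)`. -/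
theorem exists_iso (e : ℕ) (h : Fin (N + 1) → Polynomial k) (hdeg : ∀ l, (h l).natDegree ≤ e)
    (hspan : Ideal.span (Set.range h) = ⊤) (l₁ : Fin (N + 1)) (hl₁ : (h l₁).coeff e ≠ 0) :
    ∃ φ : ProjSpace 1 k ⟶ ProjSpace N k, φ ≫ ProjSpace.toSpec N k = ProjSpace.toSpec 1 k ∧
      (∀ {B : Type u} [CommRing B] [IsLocalRing B] [Algebra k B] (c : Fin (1 + 1) → B) (i₁ : Fin (1 + 1))
        (hi₁ : IsUnit (c i₁)) (j : Fin (N + 1)) (hj : IsUnit (ev k c (hg e (h j)))),
        pt k c i₁ hi₁ ≫ φ = pt k (fun l => ev k c (hg e (h l))) j hj) ∧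
      Nonempty ((Scheme.Modules.pullback φ).obj (Twist.twistProjSpace N k 1) ≅ Twist.twistProjSpace 1 k e) := by
  let P := ProjSpace 1 k
  let L := Twist.twistProjSpace 1 k (e : ℤ)
  let G : Fin (N + 1) → LefPen.Form 1 k e := fun l => ⟨hg e (h l), hg_mem e (h l)⟩
  let s : Fin (N + 1) → (Coh.structureModule P ⟶ L) := fun l => Gen.ofSec (K330.FormSec.glob (G l))
  have hs : ⨆ i, CohB1.genLocus L (s i) = ⊤ := by
    rw [eq_top_iff]
    intro x _
    obtain ⟨l, hl⟩ := exists_mem_basicOpen e h hdeg hspan l₁ hl₁ x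
    refine Opens.mem_iSup.2 ⟨l, ?_⟩
    let W : P.Opens := Proj.basicOpen (polyGrading 1 k) (hg e (h l))
    have h1 : W ≤ CohB1.genLocus L (s l) := by
      rw [Gen.le_genLocus_iff, Gen.sec_ofSec]
      exact TwistGen.isGen_glob (polyGrading 1 k) (G l)
    exact h1 hl
  obtain ⟨φ, hφ, hφS, hpre, hrat, iso, -⟩ := ProjMap.exists_morphism (ProjSpace.toSpec 1 k) L s hs
  refine ⟨φ, hφS, ?_, ⟨iso⟩⟩
  intro B _ _ _ c i₁ hi₁ j₀ hj₀
  obtain ⟨b, j, hj, hm⟩ := exists_pt k (pt k c i₁ hi₁ ≫ φ) (by rw [Category.assoc, hφS, pt_toSpec])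
  obtain ⟨g, hgg, hgG⟩ := K330.FormSec.exists_gen (N := 1) (d := e) (k := k) i₁
  have h0 : ⊤ ≤ pt k c i₁ hi₁ ⁻¹ᵁ LefPen.chart 1 k i₁ := pt_top_le _ _ _
  have hj' : ⊤ ≤ pt k c i₁ hi₁ ⁻¹ᵁ (φ ⁻¹ᵁ Dp N k j) := by
    have h1 : ∀ (m : Spec (CommRingCat.of B) ⟶ ProjSpace N k) (_ : m = pt k b j hj),
        ⊤ ≤ m ⁻¹ᵁ Dp N k j := by
      rintro _ rfl
      exact pt_top_le _ _ _
    exact h1 _ hm
  -- the quotients `b l / b j`
  obtain ⟨ub, hub⟩ := hj
  obtain ⟨uc, huc⟩ := hi₁.pow e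
  let q : Fin (N + 1) → B := fun l => (↑ub⁻¹ : B) * b l
  have hq : ∀ l, q l * b j = b l := by
    intro l
    rw [← hub]
    change (↑ub⁻¹ : B) * b l * ub = b l
    rw [mul_right_comm, Units.inv_mul, one_mul]
  let w : Fin (N + 1) → B := fun l => ev k c (hg e (h l)) * (↑uc⁻¹ : B)
  have hw : ∀ l, w l * c i₁ ^ e = ev k c (hg e (h l)) := by
    intro l
    rw [← huc]
    change ev k c (hg e (h l)) * (↑uc⁻¹ : B) * uc = _
    rw [mul_assoc, Units.inv_mul, mul_one]
  have hratv : ∀ l, (pt k c i₁ hi₁).appLE (φ ⁻¹ᵁ Dp N k j) ⊤ hj' (φ.app (Dp N k j) (ratio N k j l)) =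
      (Scheme.ΓSpecIso (CommRingCat.of B)).inv (q l) := by
    intro l
    have h1 : ∀ (m : Spec (CommRingCat.of B) ⟶ ProjSpace N k) (_ : m = pt k b j ⟨ub, hub⟩)
        (hj' : ⊤ ≤ m ⁻¹ᵁ Dp N k j), m.appLE (Dp N k j) ⊤ hj' (ratio N k j l) =
        (Scheme.ΓSpecIso (CommRingCat.of B)).inv (q l) := by
      rintro _ rfl hj'
      refine pt_dehom b j ⟨ub, hub⟩ hj' (d := 1) ⟨MvPolynomial.X l, X_mem N k l⟩ (q l) ?_
      rw [pow_one, hq]
      exact (ev_X k b l).symm
    have h2 := h1 _ hm hj'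
    rw [← h2, ← CommRingCat.comp_apply]
    congr 1
  have key : ∀ l, w l = q l * w j := by
    intro l
    let V := φ ⁻¹ᵁ Dp N k j ⊓ LefPen.chart 1 k i₁
    let r := φ.app (Dp N k j) (ratio N k j l)
    have h1 : r • Gen.sec (s j) (φ ⁻¹ᵁ Dp N k j) = Gen.sec (s l) (φ ⁻¹ᵁ Dp N k j) := hrat j l
    have hsl : ∀ l, Gen.sec (s l) V = P.presheaf.map (homOfLE (inf_le_right : V ≤ _)).op (LefPen.dehom (G l) i₁) •
        L.presheaf.map (homOfLE (inf_le_right : V ≤ _)).op g := by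
      intro l
      rw [Gen.sec_ofSec, ← Gen.map_smul_section, ← hgG]
      exact (Gen.map_map_section L _ _ _).symm
    have h2 := congrArg (L.presheaf.map (homOfLE (inf_le_left : V ≤ φ ⁻¹ᵁ Dp N k j)).op) h1
    rw [Gen.map_smul_section, Gen.map_sec, Gen.map_sec, hsl, hsl, ← mul_smul] at h2
    have h3 := (hgg V inf_le_right).1 h2
    have hV : ⊤ ≤ pt k c i₁ hi₁ ⁻¹ᵁ V := le_inf hj' h0
    have h4 := congrArg ((pt k c i₁ hi₁).appLE V ⊤ hV) h3
    rw [map_mul] at h4
    have e1 : ∀ l, (pt k c i₁ hi₁).appLE V ⊤ hV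
        (P.presheaf.map (homOfLE (inf_le_right : V ≤ _)).op (LefPen.dehom (G l) i₁)) =
        (Scheme.ΓSpecIso (CommRingCat.of B)).inv (w l) := by
      intro l
      rw [← CommRingCat.comp_apply, Scheme.Hom.map_appLE]
      exact pt_dehom c i₁ hi₁ h0 (G l) _ (hw l)
    have e2 : (pt k c i₁ hi₁).appLE V ⊤ hV (P.presheaf.map (homOfLE (inf_le_left : V ≤ _)).op r) =
        (Scheme.ΓSpecIso (CommRingCat.of B)).inv (q l) := by
      rw [← CommRingCat.comp_apply, Scheme.Hom.map_appLE]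
      exact hratv l
    rw [e1, e1, e2, ← map_mul] at h4
    exact ((ConcreteCategory.bijective_of_isIso
      (Scheme.ΓSpecIso (CommRingCat.of B)).inv).1 h4).symm
  have hwj : IsUnit (w j) := by
    have h1 : IsUnit (w j₀) := by
      have := hj₀
      rw [← hw j₀] at this
      exact isUnit_of_mul_isUnit_left this
    rw [key j₀] at h1
    exact isUnit_of_mul_isUnit_right h1
  rw [hm]
  symm
  refine pt_smul k (w j * (uc : B) * (↑ub⁻¹ : B)) ((hwj.mul uc.isUnit).mul (ub⁻¹).isUnit) b j ⟨ub, hub⟩ _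
    (fun l => ?_) j₀ hj₀
  rw [← hw l, key l, ← huc]
  change (↑ub⁻¹ : B) * b l * w j * uc = _
  ring

lemma ev_one2 {B : Type u} [CommRing B] [Algebra k B] (u : B) {e : ℕ} {p : Polynomial k} (hp : p.natDegree ≤ e) :
    ev k (one2 u) (hg e p) = Polynomial.aeval u p :=
  eval_hg hp (algebraMap k B) (one2 u) rfl

/-- Values of a morphism given by polynomials without common zero at the generic point, and the pullback of `O(1)`. -/
theorem value (e : ℕ) (h : Fin (N + 1) → Polynomial k) (hdeg : ∀ l, (h l).natDegree ≤ e)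
    (hspan : Ideal.span (Set.range h) = ⊤) (l₁ : Fin (N + 1)) (hl₁ : (h l₁).coeff e ≠ 0)
    (r : ProjSpace 1 k ⟶ ProjSpace N k) (hr : r ≫ ProjSpace.toSpec N k = ProjSpace.toSpec 1 k) (j : Fin (N + 1))
    (hj : IsUnit (Polynomial.aeval (RatFunc.X : RatFunc k) (h j)))
    (hgen : genP k ≫ r = pt k (fun l => Polynomial.aeval (RatFunc.X : RatFunc k) (h l)) j hj) :
    (∀ {B : Type u} [CommRing B] [IsLocalRing B] [Algebra k B] (c : Fin (1 + 1) → B) (i₁ : Fin (1 + 1))
        (hi₁ : IsUnit (c i₁)) (j : Fin (N + 1)) (hj : IsUnit (ev k c (hg e (h j)))),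
        pt k c i₁ hi₁ ≫ r = pt k (fun l => ev k c (hg e (h l))) j hj) ∧
      Nonempty ((Scheme.Modules.pullback r).obj (Twist.twistProjSpace N k 1) ≅ Twist.twistProjSpace 1 k e) := by
  obtain ⟨φ, hφ, hφg, iso⟩ := exists_iso e h hdeg hspan l₁ hl₁
  have hs : IsSeparated (ProjSpace.toSpec N k) := by
    have : IsProper (ProjSpace.toSpec N k) := VarietyB.ProjSpaceProper.isProper_toSpec N k
    infer_instance
  have h1 : genP k ≫ φ = pt k (fun l => Polynomial.aeval (RatFunc.X : RatFunc k) (h l)) j hj := by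
    have h2 : ∀ l, ev k (one2 (RatFunc.X : RatFunc k)) (hg e (h l)) = Polynomial.aeval (RatFunc.X : RatFunc k) (h l) :=
      fun l => ev_one2 _ (hdeg l)
    have h3 := hφg (one2 (RatFunc.X : RatFunc k)) 0 (isUnit_one2 _) j (by rw [h2]; exact hj)
    simp only [h2] at h3
    exact h3
  obtain rfl : r = φ := ext_genP (ProjSpace.toSpec N k) r φ (hr.trans hφ.symm) (hgen.trans h1.symm)
  exact ⟨hφg, iso⟩

/-- **Degree of a morphism given by polynomials without common zero.** -/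
theorem deg_eq (e : ℕ) (h : Fin (N + 1) → Polynomial k) (hdeg : ∀ l, (h l).natDegree ≤ e)
    (hspan : Ideal.span (Set.range h) = ⊤) (l₁ : Fin (N + 1)) (hl₁ : (h l₁).coeff e ≠ 0)
    (r : ProjSpace 1 k ⟶ ProjSpace N k) (hr : r ≫ ProjSpace.toSpec N k = ProjSpace.toSpec 1 k) (j : Fin (N + 1))
    (hj : IsUnit (Polynomial.aeval (RatFunc.X : RatFunc k) (h j)))
    (hgen : genP k ≫ r = pt k (fun l => Polynomial.aeval (RatFunc.X : RatFunc k) (h l)) j hj) :
    Curv2.deg k (ProjSpace 1 k) ((Scheme.Modules.pullback r).obj (Twist.twistProjSpace N k 1)) 1 = e := by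
  obtain ⟨-, ⟨iso⟩⟩ := value e h hdeg hspan l₁ hl₁ r hr j hj hgen
  rw [deg_congr iso, deg_twist]

end K329.Deg
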