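import Groth.Agent.S1518
import Groth.Agent.CurvesC.ProjMap
import Groth.Agent.Fdesc.LocGenPullback
import Groth.Agent.Fdesc.LocGenGlue

/-!
# The degree of the pullback of `O(1)` is nonnegative
-/

set_option autoImplicit false
universe u

open CategoryTheory CategoryTheory.Limits AlgebraicGeometry TopologicalSpace

namespace K329.DegNonneg

open Groth.Agent.Fdesc.LocGen Groth.Agent.CurvesC.ProjSpaceBasic

theorem deg_nonneg (k : Type u) [Field k] {N : ℕ} (C : Scheme.{u}) [C.Over (Spec (CommRingCat.of k))] [IsIntegral C]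
    [IsProper (C ↘ (Spec (CommRingCat.of k)))] (hdim : topologicalKrullDim C = 1) (φ : C ⟶ CohB1.ProjSpace N k) :
    0 ≤ Curv2.deg k C ((Scheme.Modules.pullback φ).obj (Twist.twistProjSpace N k 1)) 1 := by
  have hinv : PicF.IsInvertible (Twist.twistProjSpace N k 1) := by
    rw [isInvertible_iff]
    intro x
    have hx : x ∈ (⨆ i, Dp N k i) := by rw [iSup_Dp]; trivial
    obtain ⟨i, hi⟩ := Opens.mem_iSup.1 hx
    exact ⟨Dp N k i, sec (T N k i) (Dp N k i), hi, isGen_T N k i⟩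
  let x := genericPoint C
  have hx : φ x ∈ (⨆ i, Dp N k i) := by rw [iSup_Dp]; trivial
  obtain ⟨i, hi⟩ := Opens.mem_iSup.1 hx
  refine Groth.Agent.S1518.result k C hdim _ (isInvertible_pullback φ hinv) (pullHom φ (T N k i)) ?_
  intro h0
  have h1 : IsGen (sec (pullHom φ (T N k i)) (φ ⁻¹ᵁ Dp N k i)) := by
    rw [sec_pullHom]
    exact IsGen.pullSec φ (isGen_T N k i)
  have : Nonempty (φ ⁻¹ᵁ Dp N k i : C.Opens) := ⟨⟨x, hi⟩⟩
  have h2 : sec (pullHom φ (T N k i)) (φ ⁻¹ᵁ Dp N k i) = 0 := by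
    rw [h0]; rfl
  rw [h2] at h1
  have h3 : (1 : Γ(C, φ ⁻¹ᵁ Dp N k i)) = 0 := h1.ext (by rw [smul_zero, smul_zero])
  exact one_ne_zero h3

end K329.DegNonneg
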