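import Groth.Agent.S2354
import Groth.Agent.S1535
import Mathlib.AlgebraicGeometry.Morphisms.Smooth

/-!
# Extension of a rational map over the points of codimension one
-/

set_option autoImplicit false
universe u

open CategoryTheory CategoryTheory.Limits AlgebraicGeometry TopologicalSpace

namespace K329.ExtV

local notation "Sp" k:max => Spec (CommRingCat.of k)

variable {k : Type u} [Field k]

theorem exists_extension {S X : Scheme.{u}} (s : S ⟶ Sp k) [IsIntegral S] [Smooth s] (pX : X ⟶ Sp k) [IsProper pX]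
    (V₀ : S.Opens) (hV₀ : (V₀ : Set S).Nonempty) (g₀ : V₀.toScheme ⟶ X) (hg₀ : g₀ ≫ pX = V₀.ι ≫ s) :
    ∃ (V : S.Opens) (h : V₀ ≤ V) (g : V.toScheme ⟶ X), g ≫ pX = V.ι ≫ s ∧ S.homOfLE h ≫ g = g₀ ∧
      ∀ x : S, x ∉ V → (2 : WithBot ℕ∞) ≤ ringKrullDim (S.presheaf.stalk x) := by
  let _ : S.Over (Sp k) := ⟨s⟩
  have : Smooth (S ↘ (Sp k)) := inferInstanceAs (Smooth s)
  have hN : IsLocallyNoetherian S := LocallyOfFiniteType.isLocallyNoetherian s
  obtain ⟨V, h, g', hg', hg'', hV⟩ := Groth.Agent.S2354.result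
    (fun y _ => Groth.Agent.S1535.result k S y) (pullback.fst s pX)
    ((pullback.fst s pX).isClosedMap) V₀
    ((IsOpen.dense V₀.2 hV₀)) (pullback.lift V₀.ι g₀ hg₀.symm) (pullback.lift_fst _ _ _)
  refine ⟨V, h, g' ≫ pullback.snd s pX, ?_, ?_, ?_⟩
  · rw [Category.assoc, ← pullback.condition, reassoc_of% hg']
  · rw [reassoc_of% hg'', pullback.lift_snd]
  · intro x hx
    by_contra hcon
    apply hx
    apply hV
    exact Order.le_of_lt_succ (by
      rw [not_le] at hcon
      exact hcon)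

end K329.ExtV
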