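import Groth.Agent.Curves.K329.Core3
import Groth.Agent.Curves.K329.ExtV
import Groth.Agent.Curves.K329.DegNonneg
import Groth.Agent.Curves.K329.Deg

/-!
# Bend and break with a degree bound: a family over an open part of a smooth proper surface
-/

set_option autoImplicit false
universe u v

open CategoryTheory CategoryTheory.Limits AlgebraicGeometry TopologicalSpace IsLocalRing

namespace K329.Core4

open K329.Plan510 K329.ChartPt K329.DotLen K329.Coord K329.Pt K329.Core1 K329.Core2 K329.Core3 CohB1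
open Groth.Agent.Divis.CartierBasic Groth.Agent.Divis.CartierStalk Groth.Agent Groth.Agent.Grpsch.PicGrp K464.Base

local notation "Sp" k:max => Spec (CommRingCat.of k)

variable {k : Type u} [Field k] [IsAlgClosed k]

/-- Coordinates of the image of a closed point. -/
theorem exists_coords {X C : Scheme.{u}} (pX : X ⟶ Sp k) {N : ℕ} (ι : X ⟶ ProjSpace N k)
    (hι : ι ≫ ProjSpace.toSpec N k = pX) (a : C ⟶ Sp k) [LocallyOfFiniteType a] (f : C ⟶ X) (hf : f ≫ pX = a) {b : C}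
    (hb : IsClosed ({b} : Set C)) : ∃ (c : Fin (N + 1) → k) (j₀ : Fin (N + 1)) (h₀ : IsUnit (c j₀)),
      ι (f b) = pt k c j₀ h₀ (closedPoint k) := by
  let τ := pointOfClosedPoint a b hb
  have h1 : τ ≫ a = 𝟙 _ := pointOfClosedPoint_comp _ _ _
  obtain ⟨c, j₀, h₀, h2⟩ := exists_pt k (τ ≫ f ≫ ι) (by
    rw [Category.assoc, Category.assoc, hι, hf, h1]
    exact (Spec.map_id _).symm)
  refine ⟨c, j₀, h₀, ?_⟩
  rw [← h2]
  have h3 : τ (closedPoint k) = b := pointOfClosedPoint_apply _ _ _ _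
  rw [Scheme.Hom.comp_apply, Scheme.Hom.comp_apply, h3]

section

variable {S C W X : Scheme.{u}} [C.Over (Sp k)] [S.Over (Sp k)] [IsIntegral C] [IsProper (C ↘ (Sp k))]
  (hC : topologicalKrullDim C = 1) [IsIntegral S] [Smooth (S ↘ (Sp k))] [IsProper (S ↘ (Sp k))]
  (hdim : topologicalKrullDim S = 2) (f₁ : S ⟶ C) (hf₁ : f₁ ≫ (C ↘ (Sp k)) = S ↘ (Sp k))
  (i : W ⟶ S) [IsOpenImmersion i] (pX : X ⟶ Sp k) {N : ℕ} (ι : X ⟶ ProjSpace N k)
  [IsClosedImmersion ι] (hι : ι ≫ ProjSpace.toSpec N k = pX) (F : W ⟶ X) (hF : F ≫ pX = i ≫ (S ↘ (Sp k)))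
  (σ : C ⟶ W) (hσ : σ ≫ i ≫ f₁ = 𝟙 C)
  (B : Finset C) (hB : B.Nonempty) (hBc : ∀ b ∈ B, IsClosed ({b} : Set C))
  (hfix : ∀ b ∈ B, ∀ z : W, f₁ (i z) = b → F z = (σ ≫ F) b)
  (hmax : ∀ b ∈ B, ∀ x : S, IsClosed ({x} : Set S) → f₁ x = b →
    ∃ (z : C.presheaf.stalk (f₁ x)) (t : S.presheaf.stalk x),
    maximalIdeal (C.presheaf.stalk (f₁ x)) = Ideal.span {z} ∧
    maximalIdeal (S.presheaf.stalk x) = Ideal.span {(f₁.stalkMap x).hom z, t})
  (hθ : ∀ b ∈ B, ∃ θ : S, θ ∈ Set.range i ∧ θ ≠ genericPoint S ∧ f₁ θ = b ∧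
    (∀ x : S, f₁ x = b → ∃ hx : θ ⤳ x, ∀ z : C.presheaf.stalk (f₁ x),
      maximalIdeal (C.presheaf.stalk (f₁ x)) = Ideal.span {z} →
      (maximalIdeal (S.presheaf.stalk θ)).comap (S.presheaf.stalkSpecializes hx).hom =
        Ideal.span {(f₁.stalkMap x).hom z}))
  (hA : Sections k)
  (hNum : ∀ (M : S.Modules) (hM : PicF.IsInvertible M), ∃ e : ℤ,
    (∀ (b : C) (hb : IsClosed ({b} : Set C)), ∃ hE : BlowUp.IsEffCartierIdeal (fib f₁ hb),
      dot k S (ic _ hE) (mk M hM) = - e) ∧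
    (0 < e → 0 ≤ Curv2.deg k C ((Scheme.Modules.pullback (σ ≫ i)).obj M) 1 →
      dot k S (mk M hM) (mk M hM) ≤ 2 * Curv2.deg k C ((Scheme.Modules.pullback (σ ≫ i)).obj M) 1 * e))
  (hR : ∀ (U : C.Opens), (U : Set C).Nonempty → ∀ c : Fin (N + 1) → k,
    (∀ x : S, f₁ x ∈ U → ∃ φ : Fin (N + 1) → S.presheaf.stalk x, ∑ l, sig (S ↘ (Sp k)) x (c l) * φ l = 1 ∧
      IsCoord k (S ↘ (Sp k)) i (F ≫ ι) x φ) → F ≫ ι = (i ≫ f₁) ≫ σ ≫ F ≫ ι)
  (hnt : F ≠ (i ≫ f₁) ≫ σ ≫ F)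

include hC hdim hf₁ hι hF hσ hB hBc hfix hmax hθ hA hNum hR hnt in
theorem exists_curve :
    ∃ r : ProjSpace 1 k ⟶ X, r ≫ pX = ProjSpace.toSpec 1 k ∧
    (¬ ∃ y : X, Set.range r.base ⊆ {y}) ∧ (∃ b ∈ B, (σ ≫ F) b ∈ Set.range r.base) ∧
    Curv2.deg k (ProjSpace 1 k) ((Scheme.Modules.pullback (r ≫ ι)).obj (Twist.twistProjSpace N k 1)) 1 *
      (B.card : ℤ) ≤
    2 * Curv2.deg k C ((Scheme.Modules.pullback ((σ ≫ F) ≫ ι)).obj (Twist.twistProjSpace N k 1)) 1 := by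
  have hpX : IsProper pX := by
    have : IsProper (ProjSpace.toSpec N k) := Groth.Agent.VarietyB.ProjSpaceProper.isProper_toSpec N k
    rw [← hι]
    infer_instance
  have hfX : (σ ≫ F) ≫ pX = (C ↘ (Sp k)) := by
    rw [Category.assoc, hF, ← hf₁, reassoc_of% hσ]
  have hf₁p : IsProper f₁ := by
    have : IsProper (f₁ ≫ (C ↘ (Sp k))) := by rw [hf₁]; infer_instance
    exact MorphismProperty.of_postcomp (W := @IsProper) (W' := @IsSeparated) f₁ (C ↘ (Sp k)) inferInstance this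
  -- extension to codimension one
  have hWne : Nonempty W := ⟨σ (genericPoint C)⟩
  obtain ⟨V, hV, g, hg, hgV, hVcod⟩ := ExtV.exists_extension (S ↘ (Sp k)) pX i.opensRange
    (by obtain ⟨w⟩ := hWne; exact ⟨i w, ⟨w, rfl⟩⟩) (i.isoOpensRange.inv ≫ F) (by
      rw [Category.assoc, hF, Scheme.Hom.isoOpensRange_inv_comp_assoc])
  let i' : W ⟶ V.toScheme := i.isoOpensRange.hom ≫ S.homOfLE hV
  have hi' : i' ≫ V.ι = i := by simp [i']
  have hi'g : i' ≫ g = F := by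
    simp only [i', Category.assoc, hgV, Iso.hom_inv_id_assoc]
  have hiV : ∀ w : W, i w ∈ V := fun w => hV ⟨w, rfl⟩
  have hi'w : ∀ w : W, i' w = ⟨i w, hiV w⟩ := by
    intro w
    apply V.ι.isOpenEmbedding.injective
    rw [← Scheme.Hom.comp_apply, hi']
    rfl
  -- the sections
  obtain ⟨M, hM, D, ⟨eM⟩, hEff, hco⟩ := hA S (S ↘ (Sp k)) N V hVcod (g ≫ ι) (by rw [Category.assoc, hι, hg])
  obtain ⟨e, he, hHodge⟩ := hNum M hM
  have hdeg : Curv2.deg k C ((Scheme.Modules.pullback (σ ≫ i)).obj M) 1 =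
      Curv2.deg k C ((Scheme.Modules.pullback ((σ ≫ F) ≫ ι)).obj (Twist.twistProjSpace N k 1)) 1 := by
    have h1 : σ ≫ i = (σ ≫ i') ≫ V.ι := by rw [Category.assoc, hi']
    have h2 : (σ ≫ F) ≫ ι = (σ ≫ i') ≫ (g ≫ ι) := by
      rw [Category.assoc, Category.assoc, reassoc_of% hi'g]
    rw [h1, h2]
    exact Deg.deg_congr (((Scheme.Modules.pullbackComp (σ ≫ i') V.ι).app M).symm ≪≫
      (Scheme.Modules.pullback (σ ≫ i')).mapIso eM ≪≫ (Scheme.Modules.pullbackComp (σ ≫ i') (g ≫ ι)).app _) 1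
  have hdd := DegNonneg.deg_nonneg k C hC ((σ ≫ F) ≫ ι)
  rw [hdeg] at hHodge
  refine Core3.exists_curve (S ↘ (Sp k)) hdim f₁ pX ι hι hVcod g hg D hco (σ ≫ F) B hB hBc hmax ?_ e
    (dot k S (mk M hM) (mk M hM)) _ ?_ ?_ (fun h => hHodge h hdd) ?_
  · -- the generic points of the fibres
    intro b hb
    obtain ⟨θ, ⟨w, rfl⟩, hη, hb1, hx⟩ := hθ b hb
    obtain ⟨a, j₀, h₀, h1⟩ := exists_coords pX ι hι (C ↘ (Sp k)) (σ ≫ F) hfX (hBc b hb)
    refine ⟨i w, hiV w, hη, hx, a, j₀, h₀, ?_, h1⟩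
    rw [← h1, ← hfix b hb w hb1, ← hi'w w, ← Scheme.Hom.comp_apply, reassoc_of% hi'g, Scheme.Hom.comp_apply]
  · -- intersection with the fibres
    intro b hb c hc hcl
    obtain ⟨hE, h1⟩ := he b (hBc b hb)
    obtain ⟨hDc, hinv⟩ := hEff c hc
    rw [← dot_eq_finsum k hdim hDc hE hcl, dot_comm]
    rw [mk_eq_ic_inv hinv hM hDc, dot_inv_right k S hdim.le] at h1
    linarith
  · intro c d hc hd hcl
    obtain ⟨hDc, hinv⟩ := hEff c hc
    obtain ⟨hDd, hinv'⟩ := hEff d hd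
    rw [← dot_eq_finsum k hdim hDc hDd hcl, ← dot_inv_inv k S hdim.le, ← mk_eq_ic_inv hinv hM hDc,
      ← mk_eq_ic_inv hinv' hM hDd]
  · -- rigidity
    intro c b hb hcon
    apply hnt
    let Z : Set C := f₁ '' (D c).support
    have hZ : IsClosed Z := f₁.isClosedMap _ (D c).support.isClosed
    let U : C.Opens := ⟨Zᶜ, hZ.isOpen_compl⟩
    have h1 := hR U ⟨b, fun ⟨x, hx, hxb⟩ => hcon x hxb hx⟩ c (by
      intro x hx
      have hxD : x ∉ (D c).support := fun h => hx ⟨x, h, rfl⟩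
      obtain ⟨φ, hφ, hφ'⟩ := hco x
      rw [notMem_support_iff_stalkIdeal_eq_top, hφ c, Ideal.span_singleton_eq_top] at hxD
      obtain ⟨v, hv⟩ := hxD
      refine ⟨fun l => (v⁻¹ : (S.presheaf.stalk x)ˣ) * φ l, ?_, ?_⟩
      · have h2 : ∑ l, sig (S ↘ (Sp k)) x (c l) * ((v⁻¹ : (S.presheaf.stalk x)ˣ) * φ l) =
            (v⁻¹ : (S.presheaf.stalk x)ˣ) * ∑ l, sig (S ↘ (Sp k)) x (c l) * φ l := by
          rw [Finset.mul_sum]
          exact Finset.sum_congr rfl fun l _ => by ring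
        rw [h2, ← hv, Units.inv_mul]
      · intro L _ _ m hm ψ hψ
        obtain ⟨j, hj, h2⟩ := hφ' L (m ≫ i') (by rw [Category.assoc, reassoc_of% hi']; exact hm) ψ (by
          rw [Category.assoc, hi']; exact hψ)
        have hvu : IsUnit (ψ ((v⁻¹ : (S.presheaf.stalk x)ˣ) : S.presheaf.stalk x)) := (v⁻¹).isUnit.map ψ
        refine ⟨j, by rw [map_mul]; exact hvu.mul hj, ?_⟩
        rw [pt_smul k _ hvu (fun l => ψ (φ l)) j hj _ (fun l => map_mul ψ _ _) j, ← h2, Category.assoc,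
          reassoc_of% hi'g])
    rw [← cancel_mono ι, h1]
    simp only [Category.assoc]

end

end K329.Core4
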