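import Groth.Agent.Curves.K329.Core4
import Groth.Agent.Curves.K40.ProdSurf

/-!
# Bend and break with a degree bound: a family over an open part of a smooth proper curve
-/

set_option autoImplicit false
universe u v

open CategoryTheory CategoryTheory.Limits AlgebraicGeometry TopologicalSpace IsLocalRing

namespace K329.Core5

open K329.Plan510 K329.Core2 CohB1
open Groth.Agent.Divis.CartierBasic Groth.Agent Groth.Agent.Grpsch.PicGrp K464.Base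

local notation "Sp" k:max => Spec (CommRingCat.of k)

variable {k : Type u} [Field k] [IsAlgClosed k]

theorem exists_uniformizer {C : Scheme.{u}} (a : C ⟶ Sp k) [IsIntegral C] [Smooth a]
    (hC : topologicalKrullDim C = 1) {x : C} (hx : IsClosed ({x} : Set C)) :
    ∃ z, maximalIdeal (C.presheaf.stalk x) = Ideal.span {z} := by
  have h1 := CurvesA.CurveDvr.isDiscreteValuationRing_stalk a hC.le x
    ((CurvesA.CurveDvr.isClosed_singleton_iff hC x).1 hx)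
  obtain ⟨z, hz⟩ := IsDiscreteValuationRing.exists_irreducible (C.presheaf.stalk x)
  exact ⟨z, hz.maximalIdeal_eq⟩

variable {X C P T' : Scheme.{u}} [C.Over (Sp k)] [P.Over (Sp k)] [IsIntegral C] [IsIntegral P] [Smooth (C ↘ (Sp k))]
  [Smooth (P ↘ (Sp k))] [IsProper (C ↘ (Sp k))] [IsProper (P ↘ (Sp k))]
  (hC : topologicalKrullDim C = 1) (hP : topologicalKrullDim P = 1)
  (pX : X ⟶ Sp k) {N : ℕ} (ι : X ⟶ ProjSpace N k) [IsClosedImmersion ι] (hι : ι ≫ ProjSpace.toSpec N k = pX)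
  (j : T' ⟶ P) [IsOpenImmersion j] (t : Sp k ⟶ T') (ht : t ≫ j ≫ (P ↘ (Sp k)) = 𝟙 _)
  (F : pullback (C ↘ (Sp k)) (j ≫ (P ↘ (Sp k))) ⟶ X)
  (hF : F ≫ pX = pullback.fst (C ↘ (Sp k)) (j ≫ (P ↘ (Sp k))) ≫ (C ↘ (Sp k)))
  (σ : C ⟶ pullback (C ↘ (Sp k)) (j ≫ (P ↘ (Sp k))))
  (hσ : σ = pullback.lift (𝟙 C) ((C ↘ (Sp k)) ≫ t) (by simp [ht]))
  (B : Finset C) (hB : B.Nonempty) (hBc : ∀ b ∈ B, IsClosed ({b} : Set C))
  (hfix : ∀ b ∈ B, ∀ z : ↥(pullback (C ↘ (Sp k)) (j ≫ (P ↘ (Sp k)))),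
    (pullback.fst (C ↘ (Sp k)) (j ≫ (P ↘ (Sp k)))) z = b → F z = (σ ≫ F) b)
  (hnt : F ≠ pullback.fst (C ↘ (Sp k)) (j ≫ (P ↘ (Sp k))) ≫ σ ≫ F)

/-- the inclusion `C × T' ⟶ C × P` -/
noncomputable abbrev inc (C : Scheme.{u}) [C.Over (Sp k)] {P T' : Scheme.{u}} [P.Over (Sp k)] (j : T' ⟶ P) :
    pullback (C ↘ (Sp k)) (j ≫ (P ↘ (Sp k))) ⟶ pullback (C ↘ (Sp k)) (P ↘ (Sp k)) :=
  pullback.map (C ↘ (Sp k)) (j ≫ (P ↘ (Sp k))) (C ↘ (Sp k)) (P ↘ (Sp k)) (𝟙 _) j (𝟙 _) (by simp) (by simp)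

include hC hP hι ht hF hσ hB hBc hfix hnt in
theorem exists_curve (hA : Sections k) (hR : Rigid k) (hNum : Numbers k) :
    ∃ r : ProjSpace 1 k ⟶ X, r ≫ pX = ProjSpace.toSpec 1 k ∧
    (¬ ∃ y : X, Set.range r.base ⊆ {y}) ∧ (∃ b ∈ B, (σ ≫ F) b ∈ Set.range r.base) ∧
    Curv2.deg k (ProjSpace 1 k) ((Scheme.Modules.pullback (r ≫ ι)).obj (Twist.twistProjSpace N k 1)) 1 *
      (B.card : ℤ) ≤
    2 * Curv2.deg k C ((Scheme.Modules.pullback ((σ ≫ F) ≫ ι)).obj (Twist.twistProjSpace N k 1)) 1 := by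
  -- the product surface
  obtain ⟨hint, hdim, hθ, hmx⟩ := K40.ProdSurf.prodSurf k C P (C ↘ (Sp k)) (P ↘ (Sp k)) hC hP
  letI : (pullback (C ↘ (Sp k)) (P ↘ (Sp k))).Over (Sp k) :=
    ⟨pullback.fst (C ↘ (Sp k)) (P ↘ (Sp k)) ≫ (C ↘ (Sp k))⟩
  have hsm : Smooth (pullback (C ↘ (Sp k)) (P ↘ (Sp k)) ↘ (Sp k)) :=
    inferInstanceAs (Smooth (pullback.fst (C ↘ (Sp k)) (P ↘ (Sp k)) ≫ (C ↘ (Sp k))))
  have hpr : IsProper (pullback (C ↘ (Sp k)) (P ↘ (Sp k)) ↘ (Sp k)) :=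
    inferInstanceAs (IsProper (pullback.fst (C ↘ (Sp k)) (P ↘ (Sp k)) ≫ (C ↘ (Sp k))))
  have hif₁ : inc C j ≫ pullback.fst (C ↘ (Sp k)) (P ↘ (Sp k)) =
      pullback.fst (C ↘ (Sp k)) (j ≫ (P ↘ (Sp k))) := by
    rw [inc, pullback.map, pullback.lift_fst, Category.comp_id]
  have hσi : σ ≫ inc C j = pullback.lift (𝟙 C) ((C ↘ (Sp k)) ≫ t ≫ j) (by simp [ht]) := by
    rw [hσ]
    apply pullback.hom_ext
    · rw [Category.assoc, hif₁, pullback.lift_fst, pullback.lift_fst]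
    · rw [Category.assoc, inc, pullback.map, pullback.lift_snd, pullback.lift_snd_assoc, pullback.lift_snd,
        Category.assoc]
  refine Core4.exists_curve (S := pullback (C ↘ (Sp k)) (P ↘ (Sp k))) hC hdim
    (pullback.fst (C ↘ (Sp k)) (P ↘ (Sp k))) rfl (inc C j) pX ι hι F ?_ σ ?_ B hB hBc ?_ ?_ ?_ hA ?_ ?_ ?_
  · rw [hF, ← hif₁, Category.assoc]
    rfl
  · rw [hif₁, hσ, pullback.lift_fst]
  · intro b hb z hz
    apply hfix b hb z
    rw [← hz, ← hif₁]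
    rfl
  · intro b hb x hx hxb
    have hxC : IsClosed ({(pullback.fst (C ↘ (Sp k)) (P ↘ (Sp k))) x} : Set C) := by
      rw [hxb]; exact hBc b hb
    have hxP : IsClosed ({(pullback.snd (C ↘ (Sp k)) (P ↘ (Sp k))) x} : Set P) := by
      have h1 := (pullback.snd (C ↘ (Sp k)) (P ↘ (Sp k))).isClosedMap _ hx
      rwa [Set.image_singleton] at h1
    obtain ⟨z, hz⟩ := exists_uniformizer (C ↘ (Sp k)) hC hxC
    obtain ⟨w, hw⟩ := exists_uniformizer (P ↘ (Sp k)) hP hxP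
    exact ⟨z, _, hz, hmx x hx z w hz hw⟩
  · intro b hb
    obtain ⟨θ, h1, h2, h3, h4⟩ := hθ b (hBc b hb)
    refine ⟨θ, ?_, ?_, h1, h4⟩
    · rw [inc, Scheme.Pullback.range_map]
      refine ⟨⟨_, rfl⟩, ?_⟩
      rw [Set.mem_preimage, h2]
      have h5 : Nonempty T' := ⟨t (closedPoint k)⟩
      obtain ⟨w⟩ := h5
      have h6 : genericPoint P ∈ j.opensRange :=
        ((genericPoint_spec P).specializes trivial).mem_open j.opensRange.2 (y := j w) ⟨w, rfl⟩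
      exact h6
    · rintro rfl
      have h6 : IsField ((pullback (C ↘ (Sp k)) (P ↘ (Sp k))).presheaf.stalk
        (genericPoint ↥(pullback (C ↘ (Sp k)) (P ↘ (Sp k))))) :=
        Field.toIsField (pullback (C ↘ (Sp k)) (P ↘ (Sp k))).functionField
      rw [ringKrullDim_eq_zero_of_isField h6] at h3
      exact absurd h3 (by decide)
  · intro M hM
    rw [hσi]
    exact hNum C P hC hP (t ≫ j) (by rw [Category.assoc]; exact ht) M hM
  · intro U hU c h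
    rw [hif₁, hσ]
    exact hR C P T' (C ↘ (Sp k)) (P ↘ (Sp k)) hC hP j t ht N (F ≫ ι)
      (by rw [Category.assoc, hι, hF]) U hU c h
  · rw [hif₁]
    exact hnt

end K329.Core5
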