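import Groth.Agent.Curves.K329.Core5
import Groth.Agent.Curves.K329.Cmpct

/-!
# Bend and break with a degree bound: reduction to a family over an open part of a smooth proper curve
-/

set_option autoImplicit false
universe u v

open CategoryTheory CategoryTheory.Limits AlgebraicGeometry TopologicalSpace IsLocalRing

namespace K329.Core6

open K329.Plan510 CohB1 Groth.Agent

local notation "Sp" k:max => Spec (CommRingCat.of k)

variable {k : Type u} [Field k] [IsAlgClosed k]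

/-- Lifting of `k`-points along a surjective morphism. -/
theorem exists_lift_point {T T' : Scheme.{u}} (a : T ⟶ Sp k) [LocallyOfFiniteType a] (ν : T' ⟶ T)
    [LocallyOfFiniteType ν] [Surjective ν] [CompactSpace T'] (t₀ : Sp k ⟶ T) (ht₀ : t₀ ≫ a = 𝟙 _) [IsSeparated a] :
    ∃ t : Sp k ⟶ T', t ≫ ν = t₀ := by
  have hcl : IsClosedImmersion t₀ := isClosedImmersion_of_comp_eq_id _ _ ht₀
  have h1 : IsClosed (ν ⁻¹' {t₀ (closedPoint k)}) := by
    have h2 : ({t₀ (closedPoint k)} : Set T) = Set.range t₀ := by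
      ext x
      constructor
      · rintro rfl; exact ⟨_, rfl⟩
      · rintro ⟨y, rfl⟩
        rw [Set.mem_singleton_iff]
        congr 1
        exact Subsingleton.elim _ _
    rw [h2]
    exact (t₀.isClosedEmbedding.isClosed_range).preimage ν.continuous
  have h2 : (ν ⁻¹' {t₀ (closedPoint k)}).Nonempty := by
    obtain ⟨w, hw⟩ := ν.surjective (t₀ (closedPoint k))
    exact ⟨w, hw⟩
  obtain ⟨w, hw, hwc⟩ := h1.exists_closed_singleton h2
  refine ⟨pointOfClosedPoint (ν ≫ a) w hwc, ?_⟩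
  apply ext_of_apply_closedPoint_eq a
  · rw [Category.assoc, pointOfClosedPoint_comp]
  · exact ht₀
  · rw [Scheme.Hom.comp_apply, pointOfClosedPoint_apply]
    exact hw

theorem main (hA : Sections k) (hR : Rigid k) (hNum : Numbers k)
    (X : Scheme.{u}) [X.Over (Spec (CommRingCat.of k))]
    (N : ℕ) (ι : X ⟶ CohB1.ProjSpace N k) [IsClosedImmersion ι]
    (hι : ι ≫ CohB1.ProjSpace.toSpec N k = X ↘ Spec (CommRingCat.of k))
    (C : Scheme.{u}) [C.Over (Spec (CommRingCat.of k))] (hC : Curve.IsSmoothProperCurve k C (C ↘ Spec (CommRingCat.of k)))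
    (T : Scheme.{u}) [T.Over (Spec (CommRingCat.of k))] [IsIntegral T] [IsSeparated (T ↘ Spec (CommRingCat.of k))]
    [LocallyOfFiniteType (T ↘ Spec (CommRingCat.of k))] [CompactSpace T] (hT : topologicalKrullDim T = 1)
    (t₀ : Spec (CommRingCat.of k) ⟶ T) (ht₀ : t₀ ≫ (T ↘ Spec (CommRingCat.of k)) = 𝟙 _)
    (F : Limits.pullback (C ↘ Spec (CommRingCat.of k)) (T ↘ Spec (CommRingCat.of k)) ⟶ X)
    (hF : F ≫ (X ↘ Spec (CommRingCat.of k)) = Limits.pullback.fst (C ↘ Spec (CommRingCat.of k)) (T ↘ Spec (CommRingCat.of k)) ≫ (C ↘ Spec (CommRingCat.of k)))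
    (s : C ⟶ Limits.pullback (C ↘ Spec (CommRingCat.of k)) (T ↘ Spec (CommRingCat.of k))) (hs₁ : s ≫ Limits.pullback.fst (C ↘ Spec (CommRingCat.of k)) (T ↘ Spec (CommRingCat.of k)) = 𝟙 C)
    (hs₂ : s ≫ Limits.pullback.snd (C ↘ Spec (CommRingCat.of k)) (T ↘ Spec (CommRingCat.of k)) = (C ↘ Spec (CommRingCat.of k)) ≫ t₀)
    (f : C ⟶ X) (hf : f = s ≫ F)
    (B : Finset C) (hB : B.Nonempty) (hBc : ∀ b ∈ B, IsClosed ({b} : Set C))
    (hfix : ∀ b ∈ B, ∀ z : ↥(Limits.pullback (C ↘ Spec (CommRingCat.of k)) (T ↘ Spec (CommRingCat.of k))),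
      (Limits.pullback.fst (C ↘ Spec (CommRingCat.of k)) (T ↘ Spec (CommRingCat.of k))).base z = b → F.base z = f.base b)
    (hnontriv : ¬ ∃ h : C ⟶ X, F = Limits.pullback.fst (C ↘ Spec (CommRingCat.of k)) (T ↘ Spec (CommRingCat.of k)) ≫ h) :
    ∃ g : CohB1.ProjSpace 1 k ⟶ X, g ≫ (X ↘ Spec (CommRingCat.of k)) = CohB1.ProjSpace.toSpec 1 k ∧
      (¬ ∃ x : X, Set.range g.base ⊆ {x}) ∧ (∃ b ∈ B, f.base b ∈ Set.range g.base) ∧
      Curv2.deg k (CohB1.ProjSpace 1 k)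
          ((Scheme.Modules.pullback (g ≫ ι)).obj (Twist.twistProjSpace N k 1)) 1 * (B.card : ℤ) ≤
      2 * Curv2.deg k C ((Scheme.Modules.pullback (f ≫ ι)).obj (Twist.twistProjSpace N k 1)) 1 := by
  obtain ⟨hCp, hCs, hCi, hCd⟩ := hC
  obtain ⟨T', P, ν, j, p, hν, hνs, hj, hjp, hT'i, hPi, hPp, hPs, hPd⟩ := Cmpct.exists_completion
    (T ↘ Spec (CommRingCat.of k)) hT
  have hcT' : CompactSpace T' := QuasiCompact.compactSpace_of_compactSpace ν
  obtain ⟨t, ht⟩ := exists_lift_point (T ↘ (Sp k)) ν t₀ ht₀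
  have hft : LocallyOfFiniteType ν := inferInstance
  letI : P.Over (Sp k) := ⟨p⟩
  have hPs' : Smooth (P ↘ (Sp k)) := hPs
  have hPp' : IsProper (P ↘ (Sp k)) := hPp
  have hjp' : j ≫ (P ↘ (Sp k)) = ν ≫ (T ↘ (Sp k)) := hjp
  have ht' : t ≫ j ≫ (P ↘ (Sp k)) = 𝟙 _ := by rw [hjp', reassoc_of% ht, ht₀]
  let μ : pullback (C ↘ (Sp k)) (j ≫ (P ↘ (Sp k))) ⟶ pullback (C ↘ (Sp k)) (T ↘ (Sp k)) :=
    pullback.map _ _ _ _ (𝟙 _) ν (𝟙 _) (by simp) (by rw [Category.comp_id, hjp'])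
  have hμ₁ : μ ≫ pullback.fst _ _ = pullback.fst _ _ := by
    simp only [μ, pullback.map, pullback.lift_fst, Category.comp_id]
  have hμ₂ : μ ≫ pullback.snd _ _ = pullback.snd _ _ ≫ ν := by
    simp only [μ, pullback.map, pullback.lift_snd]
  let σ : C ⟶ pullback (C ↘ (Sp k)) (j ≫ (P ↘ (Sp k))) :=
    pullback.lift (𝟙 C) ((C ↘ (Sp k)) ≫ t) (by simp [ht'])
  have hσμ : σ ≫ μ = s := by
    apply pullback.hom_ext
    · rw [Category.assoc, hμ₁, hs₁, pullback.lift_fst]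
    · rw [Category.assoc, hμ₂, hs₂, pullback.lift_snd_assoc, Category.assoc, ht]
  have hσF : σ ≫ μ ≫ F = f := by rw [reassoc_of% hσμ, hf]
  have hμs : Function.Surjective μ := by
    rw [← Set.range_eq_univ, Scheme.Pullback.range_map]
    have h1 : Set.range (𝟙 C : C ⟶ C) = Set.univ := Set.range_eq_univ.2 fun x => ⟨x, rfl⟩
    have h2 : Set.range ν = Set.univ := Set.range_eq_univ.2 ν.surjective
    rw [h1, h2]
    simp
  have hdom : IsDominant μ := ⟨hμs.denseRange⟩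
  have hint : IsIntegral (pullback (C ↘ (Sp k)) (T ↘ (Sp k))) :=
    K40.ProdSurf.isIntegral_prod (C ↘ (Sp k)) (T ↘ (Sp k))
  have hsep : IsSeparated (X ↘ (Sp k)) := by
    have : IsProper (ProjSpace.toSpec N k) := Groth.Agent.VarietyB.ProjSpaceProper.isProper_toSpec N k
    rw [← hι]
    infer_instance
  have hfX : f ≫ (X ↘ (Sp k)) = (C ↘ (Sp k)) := by
    rw [hf, Category.assoc, hF, reassoc_of% hs₁]
  obtain ⟨r, h1, h2, h3, h4⟩ := Core5.exists_curve hCd hPd (X ↘ (Sp k)) ι hι j t ht' (μ ≫ F)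
    (by rw [Category.assoc, hF, reassoc_of% hμ₁]) σ rfl B hB hBc (by
      intro b hb z hz
      have h5 : (pullback.fst (C ↘ (Sp k)) (T ↘ (Sp k))) (μ z) = b := by
        rw [← hz, ← hμ₁]
        rfl
      have h6 := hfix b hb (μ z) h5
      rw [hσF]
      exact h6) (by
      intro h0
      apply hnontriv
      refine ⟨f, ?_⟩
      refine ext_of_isDominant_of_isSeparated (X ↘ (Sp k)) ?_ μ ?_
      · rw [hF, Category.assoc, hfX]
      · rw [reassoc_of% hμ₁, ← hσF, ← h0]) hA hR hNum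
  rw [hσF] at h3 h4
  exact ⟨r, h1, h2, h3, h4⟩

end K329.Core6
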