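import Groth.Agent.Sga1.BiratExt
import Mathlib.AlgebraicGeometry.Morphisms.Preimmersion
import Mathlib.AlgebraicGeometry.Stalk

/-!
# Extending a morphism from the generic point of a regular curve to a proper scheme
-/

set_option autoImplicit false
universe u

open CategoryTheory AlgebraicGeometry IsLocalRing

namespace K329.CurveExt

theorem bijective_stalkClosedPointTo {C : Scheme.{u}} [IsIntegral C] {L : Type u} [Field L]
    (g : Spec (CommRingCat.of L) ⟶ C) [IsPreimmersion g] (hg : g (closedPoint L) = genericPoint C) :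
    Function.Bijective (Scheme.stalkClosedPointTo g).hom := by
  constructor
  · have h1 : IsField (C.presheaf.stalk (g (closedPoint L))) := by
      rw [hg]
      exact Field.toIsField C.functionField
    let := h1.toField
    exact (Scheme.stalkClosedPointTo g).hom.injective
  · have h1 := g.stalkMap_surjective (closedPoint L)
    rw [Scheme.stalkClosedPointTo]
    have h2 : Function.Surjective (stalkClosedPointIso (CommRingCat.of L)).hom :=
      ((ConcreteCategory.isIso_iff_bijective (stalkClosedPointIso (CommRingCat.of L)).hom).1 inferInstance).2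
    exact h2.comp h1

/-- A morphism from the generic point of an integral scheme all of whose local rings are valuation rings to a proper
scheme extends. -/
theorem exists_extension {S C Y : Scheme.{u}} [IsIntegral C] (pC : C ⟶ S)
    (hval : ∀ x : C, ValuationRing (C.presheaf.stalk x)) (pY : Y ⟶ S) [IsProper pY]
    {L : Type u} [Field L] (g : Spec (CommRingCat.of L) ⟶ C) [IsPreimmersion g]
    (hg : g (closedPoint L) = genericPoint C) (δ : Spec (CommRingCat.of L) ⟶ Y) (h : δ ≫ pY = g ≫ pC) :
    ∃ r : C ⟶ Y, r ≫ pY = pC ∧ g ≫ r = δ := by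
  let φ : C.presheaf.stalk (g (closedPoint L)) ⟶ CommRingCat.of L := Scheme.stalkClosedPointTo g
  have hφ : IsIso φ := (ConcreteCategory.isIso_iff_bijective φ).2 (bijective_stalkClosedPointTo g hg)
  have hg' : Spec.map φ ≫ C.fromSpecStalk (g (closedPoint L)) = g :=
    Scheme.Spec_stalkClosedPointTo_fromSpecStalk g
  let f : Spec (C.presheaf.stalk (g (closedPoint L))) ⟶ Y := Spec.map (inv φ) ≫ δ
  have hinv : Spec.map (inv φ) ≫ Spec.map φ = 𝟙 _ := by
    rw [← Spec.map_comp, IsIso.hom_inv_id, Spec.map_id]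
  have hinv' : Spec.map φ ≫ Spec.map (inv φ) = 𝟙 _ := by
    rw [← Spec.map_comp, IsIso.inv_hom_id, Spec.map_id]
  have hf : f ≫ pY = C.fromSpecStalk _ ≫ pC := by
    have e1 : f ≫ pY = Spec.map (inv φ) ≫ g ≫ pC := by rw [Category.assoc, h]
    have e2 : Spec.map (inv φ) ≫ g ≫ pC =
      Spec.map (inv φ) ≫ (Spec.map φ ≫ C.fromSpecStalk (g (closedPoint L))) ≫ pC :=
      congrArg (fun z => Spec.map (inv φ) ≫ z ≫ pC) hg'.symm
    rw [e1, e2, Category.assoc, ← Category.assoc (Spec.map (inv φ)), hinv, Category.id_comp]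
  let F := Scheme.PartialMap.ofFromSpecStalk pC pY f hf
  obtain ⟨W, hUW, h', h1, h2, h3⟩ := Groth.Agent.Sga1.BiratExt.exists_extension pC pY F.domain F.dense_domain
    F.hom (Scheme.PartialMap.ofFromSpecStalk_comp pC pY f hf)
  have hW : ∀ x : C, x ∈ W := fun x => by
    have := hval x
    exact h3 x
  have hr : Set.range (𝟙 C : C ⟶ C) ⊆ Set.range W.ι := by
    rw [Scheme.Opens.range_ι]
    intro x _
    exact hW x
  let l : C ⟶ W := IsOpenImmersion.lift W.ι (𝟙 C) hr
  have hl : l ≫ W.ι = 𝟙 C := IsOpenImmersion.lift_fac _ _ _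
  refine ⟨l ≫ h', ?_, ?_⟩
  · rw [Category.assoc, h1, ← Category.assoc, hl, Category.id_comp]
  · have e1 : F.domain.ι ≫ l = C.homOfLE hUW := by
      rw [← cancel_mono W.ι, Category.assoc, hl, Category.comp_id, Scheme.homOfLE_ι]
    have e2 : C.fromSpecStalk (g (closedPoint L)) ≫ l ≫ h' = f := by
      have e3 := Scheme.PartialMap.fromSpecStalkOfMem_ofFromSpecStalk pC pY f hf
      rw [← e3, Scheme.PartialMap.fromSpecStalkOfMem, ← Scheme.Opens.fromSpecStalkOfMem_ι _ _
        (Scheme.PartialMap.mem_domain_ofFromSpecStalk pC pY f hf)]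
      change (_ ≫ F.domain.ι) ≫ l ≫ h' = _ ≫ F.hom
      rw [Category.assoc, ← Category.assoc F.domain.ι, e1, h2]
    have e5 : g ≫ l ≫ h' = (Spec.map φ ≫ C.fromSpecStalk (g (closedPoint L))) ≫ l ≫ h' :=
      congrArg (fun z => z ≫ l ≫ h') hg'.symm
    rw [e5, Category.assoc, e2]
    change Spec.map φ ≫ Spec.map (inv φ) ≫ δ = δ
    rw [← Category.assoc, hinv', Category.id_comp]

end K329.CurveExt
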