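import Groth.Agent.Curves.K329.DegPoly
import Groth.Agent.Curves.K329.Eqn

/-!
# Rational curves on a projective scheme from tuples of polynomials

`exists_curve_poly`: polynomials `h l` of degree at most `q` satisfying the equations of `Y ⊆ P^N`, not all
proportional to `h(0) ≠ 0`, give a nonconstant rational curve on `Y` of degree at most `q` through `[h(0)]`.
-/

set_option autoImplicit false
universe u

open CategoryTheory AlgebraicGeometry IsLocalRing TopologicalSpace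

namespace K329.CurvePoly

open CohB1 K329.Pt K329.P1Gen K329.Homog K329.Curve K329.Deg K329.Link K329.DegPoly K329.Limit K329.Eqn

variable {k : Type u} [Field k] {N : ℕ}

/-- A rational curve from a tuple of polynomials satisfying the equations. -/
theorem exists_curve_poly {Y : Scheme.{u}} (pY : Y ⟶ Spec (CommRingCat.of k)) [IsProper pY] (ι : Y ⟶ ProjSpace N k)
    [IsClosedImmersion ι] (hι : ι ≫ ProjSpace.toSpec N k = pY) (q : ℕ) (h : Fin (N + 1) → Polynomial k)
    (hdeg : ∀ l, (h l).natDegree ≤ q) (i₁ : Fin (N + 1)) (hi₁ : IsUnit ((h i₁).coeff 0))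
    (i : ℕ) (hi : (fun l => (h l).coeff i) ≠ 0) (hi' : ¬ Prp (fun l => (h l).coeff 0) (fun l => (h l).coeff i))
    (heq : ∀ F d, IsEqn ι F d → MvPolynomial.eval₂ Polynomial.C h F = 0) :
    ∃ g : ProjSpace 1 k ⟶ Y, g ≫ pY = ProjSpace.toSpec 1 k ∧ (¬ ∃ y : Y, Set.range g.base ⊆ {y}) ∧
      pt1 k (0 : k) ≫ g ≫ ι = pt k (fun l => (h l).coeff 0) i₁ hi₁ ∧
      Curv2.deg k (ProjSpace 1 k) ((Scheme.Modules.pullback (g ≫ ι)).obj (Twist.twistProjSpace N k 1)) 1 ≤ q := by
  have h0 : h i₁ ≠ 0 := by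
    intro h0
    rw [h0, Polynomial.coeff_zero] at hi₁
    exact not_isUnit_zero hi₁
  have hj : IsUnit (Polynomial.aeval (RatFunc.X : RatFunc k) (h i₁)) := isUnit_aeval_ratFunc h0
  obtain ⟨κ, hκ⟩ := exists_factor ι (fun l => Polynomial.aeval (RatFunc.X : RatFunc k) (h l)) i₁ hj (by
    intro F d hF
    have h1 := congrArg (algebraMap (Polynomial k) (RatFunc k)) (heq F d hF)
    rw [map_zero] at h1
    refine Eq.trans ?_ h1
    rw [ev, MvPolynomial.coe_eval₂Hom]
    simp only [aeval_ratFunc]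
    exact (MvPolynomial.hom_eval₂ F Polynomial.C (algebraMap (Polynomial k) (RatFunc k)) h).symm)
  have hκ' : κ ≫ pY = Spec.map (CommRingCat.ofHom (algebraMap k (RatFunc k))) := by
    rw [← hι, ← Category.assoc, hκ, pt_toSpec]
  obtain ⟨g, hg, hgκ⟩ := P1Gen.exists_extension k pY κ hκ'
  have hgen : genP k ≫ g ≫ ι = pt k (fun l => Polynomial.aeval (RatFunc.X : RatFunc k) (h l)) i₁ hj := by
    rw [← Category.assoc, hgκ, hκ]
  have hgι : (g ≫ ι) ≫ ProjSpace.toSpec N k = ProjSpace.toSpec 1 k := by rw [Category.assoc, hι, hg]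
  refine ⟨g, hg, not_const pY ι hι g hg h i₁ hj hgen i₁ hi₁.ne_zero i hi hi', ?_,
    deg_le q h hdeg (g ≫ ι) hgι i₁ hj hgen⟩
  have hc' : IsUnit (Polynomial.aeval (0 : k) (h i₁)) := by
    rwa [← Polynomial.coeff_zero_eq_aeval_zero]
  have h1 : pt1 k (0 : k) ≫ g ≫ ι = pt k (fun l => Polynomial.aeval (0 : k) (h l)) i₁ hc' :=
    pt1_comp (g ≫ ι) hgι h i₁ hj hgen (0 : k) i₁ hc'
  rw [h1]
  congr 1
  funext l
  rw [← Polynomial.coeff_zero_eq_aeval_zero]

/-- The same with the equations checked on all values, over an infinite field. -/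
theorem exists_curve_of_values [Infinite k] {Y : Scheme.{u}} (pY : Y ⟶ Spec (CommRingCat.of k)) [IsProper pY]
    (ι : Y ⟶ ProjSpace N k) [IsClosedImmersion ι] (hι : ι ≫ ProjSpace.toSpec N k = pY) (q : ℕ)
    (h : Fin (N + 1) → Polynomial k) (hdeg : ∀ l, (h l).natDegree ≤ q) (i₁ : Fin (N + 1))
    (hi₁ : IsUnit ((h i₁).coeff 0)) (i : ℕ) (hi : (fun l => (h l).coeff i) ≠ 0)
    (hi' : ¬ Prp (fun l => (h l).coeff 0) (fun l => (h l).coeff i))
    (heq : ∀ (b : k) (j : Fin (N + 1)) (hj : IsUnit ((h j).eval b)),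
      ∃ m : Spec (CommRingCat.of k) ⟶ Y, m ≫ ι = pt k (fun l => (h l).eval b) j hj) :
    ∃ g : ProjSpace 1 k ⟶ Y, g ≫ pY = ProjSpace.toSpec 1 k ∧ (¬ ∃ y : Y, Set.range g.base ⊆ {y}) ∧
      pt1 k (0 : k) ≫ g ≫ ι = pt k (fun l => (h l).coeff 0) i₁ hi₁ ∧
      Curv2.deg k (ProjSpace 1 k) ((Scheme.Modules.pullback (g ≫ ι)).obj (Twist.twistProjSpace N k 1)) 1 ≤ q := by
  refine exists_curve_poly pY ι hι q h hdeg i₁ hi₁ i hi hi' fun F d hF => ?_
  apply Polynomial.funext
  intro b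
  rw [Polynomial.eval_zero]
  have h1 : Polynomial.eval b (MvPolynomial.eval₂ Polynomial.C h F) = ev k (fun l => (h l).eval b) F := by
    rw [ev, MvPolynomial.coe_eval₂Hom]
    have h2 := MvPolynomial.hom_eval₂ F Polynomial.C (Polynomial.evalRingHom b) h
    rw [Polynomial.coe_evalRingHom] at h2
    rw [h2]
    congr 1
    ext c
    simp
  rw [h1]
  by_cases hb : ∃ j, (h j).eval b ≠ 0
  · obtain ⟨j, hj⟩ := hb
    obtain ⟨m, hm⟩ := heq b j (isUnit_iff_ne_zero.2 hj)
    exact ev_eq_zero ι _ j (isUnit_iff_ne_zero.2 hj) m hm hF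
  · push Not at hb
    have h3 : (fun l => (h l).eval b) = fun l => (0 : k) * (fun _ => (0 : k)) l := by
      funext l
      rw [hb l, zero_mul]
    rw [h3, ev_smul_of_mem k 0 _ d F hF.2.1, zero_pow hF.1.ne', zero_mul]

end K329.CurvePoly
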