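import Groth.Agent.Curves.K329.Deg

/-!
# Morphisms from the projective line and polynomials

* `exists_poly`: every `r : P^1 → P^N` over `k` is given by polynomials without common zero.
* `deg_le`: if `r` is given by polynomials of degree at most `q` then `deg r^*O(1) ≤ q`.
* `exists_curve_poly`: a rational curve from a tuple of polynomials.
-/

set_option autoImplicit false
universe u

open CategoryTheory AlgebraicGeometry IsLocalRing TopologicalSpace

namespace K329.DegPoly

open CohB1 K329.Pt K329.P1Gen K329.Homog K329.Curve K329.Deg K329.Link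

variable {k : Type u} [Field k] {N : ℕ}

/-- Dividing a family of polynomials by their greatest common divisor. -/
theorem factor {ι : Type} [Fintype ι] (p : ι → Polynomial k) (hp : ∃ i, p i ≠ 0) :
    ∃ (g : Polynomial k) (h : ι → Polynomial k), g ≠ 0 ∧ (∀ l, p l = g * h l) ∧ Ideal.span (Set.range h) = ⊤ := by
  let I := Ideal.span (Set.range p)
  let g := Submodule.IsPrincipal.generator I
  have hg : Ideal.span {g} = I := Ideal.span_singleton_generator I
  have h1 : ∀ l, ∃ c, p l = g * c := by
    intro l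
    have : p l ∈ Ideal.span {g} := hg ▸ Ideal.subset_span ⟨l, rfl⟩
    obtain ⟨c, hc⟩ := Ideal.mem_span_singleton.1 this
    exact ⟨c, hc⟩
  choose h hh using h1
  have hg0 : g ≠ 0 := by
    intro h0
    obtain ⟨i, hi⟩ := hp
    exact hi (by rw [hh i, h0, zero_mul])
  refine ⟨g, h, hg0, hh, ?_⟩
  have h2 : g ∈ I := Submodule.IsPrincipal.generator_mem I
  obtain ⟨c, hc⟩ := (Ideal.mem_span_range_iff_exists_fun).1 h2
  rw [Ideal.eq_top_iff_one]
  refine (Ideal.mem_span_range_iff_exists_fun).2 ⟨c, ?_⟩
  apply mul_left_cancel₀ hg0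
  rw [Finset.mul_sum, mul_one]
  refine Eq.trans (Finset.sum_congr rfl fun l _ => ?_) hc
  rw [hh l]
  ring

/-- Clearing denominators. -/
theorem exists_coprime (b : Fin (N + 1) → RatFunc k) (i : Fin (N + 1)) (hi : b i ≠ 0) :
    ∃ (h : Fin (N + 1) → Polynomial k) (v : RatFunc k), v ≠ 0 ∧
      (∀ l, b l = v * Polynomial.aeval (RatFunc.X : RatFunc k) (h l)) ∧ Ideal.span (Set.range h) = ⊤ := by
  obtain ⟨⟨d, hd⟩, hd'⟩ := IsLocalization.exist_integer_multiples_of_finite (nonZeroDivisors (Polynomial k)) b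
  choose p hp using hd'
  have hd0 : algebraMap (Polynomial k) (RatFunc k) d ≠ 0 :=
    (map_ne_zero_iff _ (RatFunc.algebraMap_injective k)).2 (nonZeroDivisors.ne_zero hd)
  have hp' : ∀ l, algebraMap (Polynomial k) (RatFunc k) (p l) = algebraMap (Polynomial k) (RatFunc k) d * b l := by
    intro l
    rw [hp l]
    exact Algebra.smul_def _ _
  have hpi : p i ≠ 0 := by
    intro h0
    have := hp' i
    rw [h0, map_zero] at this
    exact mul_ne_zero hd0 hi this.symm
  obtain ⟨g, h, hg, hh, hspan⟩ := factor p ⟨i, hpi⟩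
  have hg0 : algebraMap (Polynomial k) (RatFunc k) g ≠ 0 :=
    (map_ne_zero_iff _ (RatFunc.algebraMap_injective k)).2 hg
  refine ⟨h, algebraMap (Polynomial k) (RatFunc k) g / algebraMap (Polynomial k) (RatFunc k) d,
    div_ne_zero hg0 hd0, fun l => ?_, hspan⟩
  have h1 := hp' l
  rw [hh l, map_mul] at h1
  rw [aeval_ratFunc]
  field_simp
  linear_combination -h1

/-- A family of polynomials without common zero has a member of maximal degree. -/
theorem exists_max (h : Fin (N + 1) → Polynomial k) (hspan : Ideal.span (Set.range h) = ⊤) :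
    ∃ l, (h l).coeff (Finset.univ.sup fun l => (h l).natDegree) ≠ 0 := by
  obtain ⟨l, -, hl⟩ := Finset.exists_mem_eq_sup Finset.univ ⟨0, Finset.mem_univ 0⟩ fun l => (h l).natDegree
  rcases eq_or_ne (h l) 0 with h0 | h0
  · -- all degrees are zero
    have h1 : ∀ m, (h m).natDegree = 0 := by
      intro m
      have h2 : (h m).natDegree ≤ Finset.univ.sup fun l => (h l).natDegree :=
        Finset.le_sup (f := fun l => (h l).natDegree) (Finset.mem_univ m)
      rw [hl, h0, Polynomial.natDegree_zero] at h2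
      exact Nat.le_zero.1 h2
    by_contra hcon
    push Not at hcon
    have h3 : ∀ m, h m = 0 := by
      intro m
      have h4 := hcon m
      rw [hl, h0, Polynomial.natDegree_zero] at h4
      rw [Polynomial.eq_C_of_natDegree_eq_zero (h1 m), h4, Polynomial.C_0]
    have h5 : Ideal.span (Set.range h) = ⊥ := by
      rw [Ideal.span_eq_bot]
      rintro _ ⟨m, rfl⟩
      exact h3 m
    rw [h5] at hspan
    exact bot_ne_top hspan
  · refine ⟨l, ?_⟩
    rw [hl]
    exact mt Polynomial.leadingCoeff_eq_zero.1 h0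

/-- Every morphism from the projective line to projective space is given by polynomials without common zero, and
their maximal degree is the degree of the morphism. -/
theorem exists_poly (r : ProjSpace 1 k ⟶ ProjSpace N k) (hr : r ≫ ProjSpace.toSpec N k = ProjSpace.toSpec 1 k) :
    ∃ (e : ℕ) (h : Fin (N + 1) → Polynomial k) (j : Fin (N + 1))
      (hj : IsUnit (Polynomial.aeval (RatFunc.X : RatFunc k) (h j))),
      Ideal.span (Set.range h) = ⊤ ∧ (∀ l, (h l).natDegree ≤ e) ∧ (∃ l, (h l).coeff e ≠ 0) ∧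
      genP k ≫ r = pt k (fun l => Polynomial.aeval (RatFunc.X : RatFunc k) (h l)) j hj ∧
      Curv2.deg k (ProjSpace 1 k) ((Scheme.Modules.pullback r).obj (Twist.twistProjSpace N k 1)) 1 = e := by
  obtain ⟨b, i, hi, hb⟩ := exists_pt k (genP k ≫ r) (by rw [Category.assoc, hr, genP_toSpec])
  obtain ⟨h, v, hv, hh, hspan⟩ := exists_coprime b i hi.ne_zero
  have hj : IsUnit (Polynomial.aeval (RatFunc.X : RatFunc k) (h i)) := by
    have := hi
    rw [hh i] at this
    exact isUnit_of_mul_isUnit_right this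
  have hgen : genP k ≫ r = pt k (fun l => Polynomial.aeval (RatFunc.X : RatFunc k) (h l)) i hj := by
    rw [hb]
    exact pt_smul k v (isUnit_iff_ne_zero.2 hv) _ i hj _ hh i hi
  obtain ⟨l₁, hl₁⟩ := exists_max h hspan
  have hdeg : ∀ l, (h l).natDegree ≤ Finset.univ.sup fun l => (h l).natDegree :=
    fun l => Finset.le_sup (f := fun l => (h l).natDegree) (Finset.mem_univ l)
  exact ⟨_, h, i, hj, hspan, hdeg, ⟨l₁, hl₁⟩, hgen, deg_eq _ h hdeg hspan l₁ hl₁ r hr i hj hgen⟩

/-- Upper bound for the degree of a morphism given by polynomials, common zeros allowed. -/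
theorem deg_le (q : ℕ) (h : Fin (N + 1) → Polynomial k) (hdeg : ∀ l, (h l).natDegree ≤ q)
    (r : ProjSpace 1 k ⟶ ProjSpace N k) (hr : r ≫ ProjSpace.toSpec N k = ProjSpace.toSpec 1 k) (j : Fin (N + 1))
    (hj : IsUnit (Polynomial.aeval (RatFunc.X : RatFunc k) (h j)))
    (hgen : genP k ≫ r = pt k (fun l => Polynomial.aeval (RatFunc.X : RatFunc k) (h l)) j hj) :
    Curv2.deg k (ProjSpace 1 k) ((Scheme.Modules.pullback r).obj (Twist.twistProjSpace N k 1)) 1 ≤ q := by
  have hj0 : h j ≠ 0 := by
    intro h0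
    rw [h0, map_zero] at hj
    exact not_isUnit_zero hj
  obtain ⟨g, h', hg, hh, hspan⟩ := factor h ⟨j, hj0⟩
  have hg' : IsUnit (Polynomial.aeval (RatFunc.X : RatFunc k) g) := isUnit_aeval_ratFunc hg
  have hj' : IsUnit (Polynomial.aeval (RatFunc.X : RatFunc k) (h' j)) := by
    have := hj
    rw [hh j, map_mul] at this
    exact isUnit_of_mul_isUnit_right this
  have hgen' : genP k ≫ r = pt k (fun l => Polynomial.aeval (RatFunc.X : RatFunc k) (h' l)) j hj' := by
    rw [hgen]
    exact pt_smul k _ hg' _ j hj' _ (fun l => by rw [hh l, map_mul]) j hj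
  obtain ⟨l₁, hl₁⟩ := exists_max h' hspan
  have hdeg' : ∀ l, (h' l).natDegree ≤ Finset.univ.sup fun l => (h' l).natDegree :=
    fun l => Finset.le_sup (f := fun l => (h' l).natDegree) (Finset.mem_univ l)
  rw [deg_eq _ h' hdeg' hspan l₁ hl₁ r hr j hj' hgen']
  have : (Finset.univ.sup fun l => (h' l).natDegree) ≤ q := by
    apply Finset.sup_le
    intro l _
    rcases eq_or_ne (h' l) 0 with h0 | h0
    · rw [h0, Polynomial.natDegree_zero]
      exact Nat.zero_le _
    · have h1 := hdeg l
      rw [hh l, Polynomial.natDegree_mul hg h0] at h1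
      omega
  exact_mod_cast this

end K329.DegPoly
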