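import Groth.Agent.Surf.K463.RatZ
import Groth.Agent.Surf.K464.DegCurve
import Groth.Agent.Surf.K458.Pos
import Groth.Agent.Sga5.H844.FinLen
import Groth.Agent.VarietyB.DimSch

/-!
# Intersection numbers on smooth proper surfaces as sums of local lengths

`dot_eq_finsum`: `(D . E) = ∑_x length O_x / (D_x + E_x)` for effective Cartier divisors without common component.
-/

set_option autoImplicit false
universe u

open CategoryTheory CategoryTheory.Limits AlgebraicGeometry TopologicalSpace IsLocalRing

namespace K329.DotLen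

open Groth.Agent Groth.Agent.Grpsch.PicGrp K464.Base K464.Curves
open Groth.Agent.Divis.CartierBasic Groth.Agent.Divis.CartierStalk Groth.Agent.Dix.IdealModCartier

local notation "Sp" k:max => Spec (CommRingCat.of k)

variable (k : Type u) [Field k] [IsAlgClosed k] {X : Scheme.{u}} [X.Over (Sp k)]

omit [IsAlgClosed k] in
theorem ringKrullDim_of_isClosed [LocallyOfFiniteType (X ↘ (Sp k))] [IsIntegral X] {d : ℕ}
    (hdim : topologicalKrullDim X = d) {x : X} (hx : IsClosed ({x} : Set X)) :
    ringKrullDim (X.presheaf.stalk x) = d := by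
  have h1 := Groth.Agent.VarietyB.DimSch.localDim_eq k x
  rw [Groth.Agent.VarietyB.DimSch.trd_eq_zero_of_isClosed k hx,
    Groth.Agent.VarietyB.DimSch.localDim_eq_of_irreducible k x,
    ← Groth.Agent.VarietyB.DimSch.topologicalKrullDim_eq_trd k, hdim, Nat.cast_zero, add_zero] at h1
  exact h1.symm

variable [IsProper (X ↘ (Sp k))] [Smooth (X ↘ (Sp k))] [IsIntegral X] (hdim : topologicalKrullDim X = 2)

omit [IsProper (X ↘ (Sp k))] in
include k hdim in
/-- Local equations of divisors meeting only in closed points are coprime. -/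
theorem dvd_of_dvd_mul {D E : X.IdealSheafData}
    (hcl : ∀ x : X, x ∈ D.support → x ∈ E.support → IsClosed ({x} : Set X)) (x : X)
    {f g : X.presheaf.stalk x} (hf0 : f ≠ 0) (hf : stalkIdeal D x = Ideal.span {f}) (hg : stalkIdeal E x = Ideal.span {g})
    {a : X.presheaf.stalk x} (h : f ∣ g * a) : f ∣ a := by
  have hN : IsLocallyNoetherian X := LocallyOfFiniteType.isLocallyNoetherian (X ↘ (Sp k))
  have hreg : IsRegularLocalRing (X.presheaf.stalk x) := S1535.result k X x
  have hufd : UniqueFactorizationMonoid (X.presheaf.stalk x) := (K458.Decomp.factorial_of_smooth k x).2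
  have hrel : IsRelPrime f g := by
    refine (UniqueFactorizationMonoid.isRelPrime_iff_no_prime_factors hf0).2 fun p hpf hpg hpp => ?_
    let q : PrimeSpectrum (X.presheaf.stalk x) := ⟨Ideal.span {p}, (Ideal.span_singleton_prime hpp.ne_zero).2 hpp⟩
    have hqD : X.fromSpecStalk x q ∈ D.support := by
      rw [fromSpecStalk_mem_support_iff, hf, Ideal.span_singleton_le_iff_mem]
      exact Ideal.mem_span_singleton.2 hpf
    have hqE : X.fromSpecStalk x q ∈ E.support := by
      rw [fromSpecStalk_mem_support_iff, hg, Ideal.span_singleton_le_iff_mem]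
      exact Ideal.mem_span_singleton.2 hpg
    have hc := hcl _ hqD hqE
    have hsp : X.fromSpecStalk x q ⤳ x := by
      have h1 : X.fromSpecStalk x q ∈ Set.range (X.fromSpecStalk x) := ⟨q, rfl⟩
      rw [X.range_fromSpecStalk] at h1
      exact h1
    have hx : x = X.fromSpecStalk x q := by
      have := hsp.mem_closed hc rfl
      exact this
    have hq : q = closedPoint (X.presheaf.stalk x) := by
      apply (X.fromSpecStalk x).isEmbedding.injective
      rw [Scheme.fromSpecStalk_closedPoint]
      exact hx.symm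
    have hxc : IsClosed ({x} : Set X) := by
      have h2 := hc
      rw [← hx] at h2
      exact h2
    have h2 := ringKrullDim_of_isClosed k (d := 2) hdim hxc
    have h3 : maximalIdeal (X.presheaf.stalk x) = Ideal.span {p} := (congrArg PrimeSpectrum.asIdeal hq).symm
    rw [← IsLocalRing.maximalIdeal_height_eq_ringKrullDim] at h2
    have h4 : (maximalIdeal (X.presheaf.stalk x)).height ≤ 1 := by
      have hpr : (Ideal.span {p}).IsPrime := q.isPrime
      have := Ideal.height_le_one_of_isPrincipal_of_mem_minimalPrimes (Ideal.span {p}) (maximalIdeal (X.presheaf.stalk x))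
        (by rw [h3, Ideal.minimalPrimes_eq_subsingleton_self]; rfl)
      exact this
    have h5 : ((2 : ℕ) : WithBot ℕ∞) ≤ 1 := by
      rw [← h2]
      exact_mod_cast h4
    exact absurd h5 (by decide)
  exact hrel.dvd_of_dvd_mul_left h

include k hdim in
/-- The restriction of `E` to `D` is an effective Cartier divisor. -/
theorem isEff_comap {D E : X.IdealSheafData} (hD : BlowUp.IsEffCartierIdeal D) (hE : BlowUp.IsEffCartierIdeal E)
    (hcl : ∀ x : X, x ∈ D.support → x ∈ E.support → IsClosed ({x} : Set X)) :
    BlowUp.IsEffCartierIdeal (E.comap D.subschemeι) := by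
  have hN : IsLocallyNoetherian X := LocallyOfFiniteType.isLocallyNoetherian (X ↘ (Sp k))
  have hND : IsLocallyNoetherian D.subscheme := by
    have : LocallyOfFiniteType (D.subschemeι ≫ (X ↘ (Sp k))) := inferInstance
    exact LocallyOfFiniteType.isLocallyNoetherian (D.subschemeι ≫ (X ↘ (Sp k)))
  refine isEffCartierIdeal_of_stalkIdeal _ fun y _ => ?_
  obtain ⟨f, hf0, hf⟩ := exists_stalkIdeal_eq_span hD (D.subschemeι y)
  obtain ⟨g, hg0, hg⟩ := exists_stalkIdeal_eq_span hE (D.subschemeι y)
  refine ⟨D.subschemeι.stalkMap y g, ?_, ?_⟩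
  · rw [mem_nonZeroDivisors_iff_right]
    intro b hb
    obtain ⟨a, rfl⟩ := stalkMap_subschemeι_surjective D y b
    have h1 : (D.subschemeι.stalkMap y).hom (a * g) = 0 := by
      rw [map_mul]
      exact hb
    rw [← RingHom.mem_ker, ker_stalkMap_subschemeι, hf, Ideal.mem_span_singleton, mul_comm] at h1
    have h2 := dvd_of_dvd_mul k hdim hcl (D.subschemeι y) (nonZeroDivisors.ne_zero hf0) hf hg h1
    change (D.subschemeι.stalkMap y).hom a = 0
    rw [← RingHom.mem_ker, ker_stalkMap_subschemeι, hf, Ideal.mem_span_singleton]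
    exact h2
  · rw [stalkIdeal_comap, hg, Ideal.map_span, Set.image_singleton]

/-- The local intersection number. -/
noncomputable def len {X : Scheme.{u}} (I : X.IdealSheafData) (x : X) : ℕ :=
  (Module.length (X.presheaf.stalk x) (X.presheaf.stalk x ⧸ stalkIdeal I x)).toNat

theorem len_eq_zero {X : Scheme.{u}} (I : X.IdealSheafData) {x : X} (hx : x ∉ I.support) : len I x = 0 := by
  have h5 := (notMem_support_iff_stalkIdeal_eq_top I x).1 hx
  have h6 : Subsingleton (X.presheaf.stalk x ⧸ stalkIdeal I x) := by
    rw [h5]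
    exact Ideal.Quotient.subsingleton_iff.2 rfl
  rw [len, Module.length_eq_zero, ENat.toNat_zero]

/-- The length on the divisor is the length on the surface. -/
theorem len_comap {X : Scheme.{u}} (D E : X.IdealSheafData) (y : D.subscheme) :
    len (E.comap D.subschemeι) y = len (D ⊔ E) (D.subschemeι y) := by
  have hsurj := stalkMap_subschemeι_surjective D y
  let φ := (D.subschemeι.stalkMap y).hom
  have hsurj' : Function.Surjective ((Ideal.Quotient.mk (stalkIdeal (E.comap D.subschemeι) y)).comp φ) :=
    Ideal.Quotient.mk_surjective.comp hsurj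
  have hker : RingHom.ker ((Ideal.Quotient.mk (stalkIdeal (E.comap D.subschemeι) y)).comp φ) =
      stalkIdeal (D ⊔ E) (D.subschemeι y) := by
    rw [← RingHom.comap_ker, Ideal.mk_ker, stalkIdeal_comap, Ideal.comap_map_of_surjective _ hsurj, stalkIdeal_sup,
      sup_comm]
    congr 1
    exact ker_stalkMap_subschemeι D y
  have e : (X.presheaf.stalk (D.subschemeι y) ⧸ stalkIdeal (D ⊔ E) (D.subschemeι y)) ≃+*
      (D.subscheme.presheaf.stalk y ⧸ stalkIdeal (E.comap D.subschemeι) y) :=
    (Ideal.quotEquivOfEq hker.symm).trans (RingHom.quotientKerEquivOfSurjective hsurj')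
  rw [len, len, Sga5.H844.FinLen.length_quotient_eq, Sga5.H844.FinLen.length_quotient_eq]
  exact congrArg ENat.toNat (Sga5.H844.FinLen.length_ringEquiv e).symm

include hdim in
/-- **Intersection numbers as sums of local lengths.** -/
theorem dot_eq_finsum {D E : X.IdealSheafData} (hD : BlowUp.IsEffCartierIdeal D) (hE : BlowUp.IsEffCartierIdeal E)
    (hcl : ∀ x : X, x ∈ D.support → x ∈ E.support → IsClosed ({x} : Set X)) :
    dot k X (ic D hD) (ic E hE) = ((∑ᶠ x : X, len (D ⊔ E) x : ℕ) : ℤ) := by
  let _ := overC k X D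
  have := isProper_sub k X D
  have hd : topologicalKrullDim D.subscheme ≤ 1 := by
    rw [dim_sub]
    exact K463.RatZ.dim_support_eff k hdim hD
  have hE' := isEff_comap k hdim hD hE hcl
  obtain ⟨e⟩ := pullback_idealMod D.subschemeι hE hE'
  have hI := isInvertible_idealMod hE'
  obtain ⟨L, hL, ⟨e2⟩⟩ := Grpsch.PicGrp.exists_inverse hI
  have e' : CohB1.tensorMod L (ClSub.idealMod (E.comap D.subschemeι)) ≅ Coh.structureModule D.subscheme :=
    (Ega2.Tens.swap _ _).trans e2
  obtain ⟨hfin, h1⟩ := S1604.result k D.subscheme hd _ hE' L hL ⟨e'⟩ 1 _ (VarietyB.DegCartier.isFinLocFreeOfRank_one hI)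
  have h2 : Curv2.euler k D.subscheme (CohB1.tensorMod (ClSub.idealMod (E.comap D.subschemeι)) L) =
      Curv2.euler k D.subscheme (Coh.structureModule D.subscheme) := VarietyA.EulerAdd.euler_congr (k := k) e2
  have h3 : Curv2.euler k D.subscheme ((Scheme.Modules.pullback D.subschemeι).obj (ClSub.idealMod E)) =
      Curv2.euler k D.subscheme (ClSub.idealMod (E.comap D.subschemeι)) := VarietyA.EulerAdd.euler_congr (k := k) e
  have h4 : degOn k X D (ic E hE) =
      - (Module.finrank k (Coh.HH D.subscheme (ClSub.quotMod (E.comap D.subschemeι)) 0) : ℤ) := by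
    rw [ic, degOn_eq_deg]
    unfold Curv2.deg at h1 ⊢
    rw [h2] at h1
    rw [h3]
    push_cast at h1 ⊢
    linarith
  rw [dot_ic_eq, h4, neg_neg, Sga5.H844.FinLen.finrank_quotMod_eq]
  congr 1
  have h5 : Function.Injective D.subschemeι := D.subschemeι.isEmbedding.injective
  have h6 : Function.support (fun x : X => len (D ⊔ E) x) ⊆ Set.range D.subschemeι := by
    intro x hx
    by_contra h3
    apply hx
    apply len_eq_zero
    intro hx'
    apply h3
    rw [Scheme.IdealSheafData.range_subschemeι]
    rw [Scheme.IdealSheafData.support_sup] at hx'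
    exact hx'.1
  rw [← finsum_mem_univ (fun x : X => len (D ⊔ E) x),
    finsum_mem_inter_support_eq _ Set.univ (Set.range D.subschemeι)
      (by rw [Set.univ_inter, Set.inter_eq_right.2 h6]), finsum_mem_range h5]
  exact finsum_congr fun z => by rw [← len_comap]; rfl

end K329.DotLen
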