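import Groth.Agent.S1655
import Groth.Agent.CycB.PushLocal
import Groth.Agent.Dix.NormalLoc
import Mathlib.AlgebraicGeometry.AlgClosed.Basic

/-!
# A second closed point in the fibre of a birational morphism

`exists_other`: `p : Γ ⟶ X` proper birational, `X` smooth over a field, `y` a closed point of `Γ` such that `p` is not an
isomorphism over any neighbourhood of `p y`: the fibre through `y` contains another closed point.
-/

set_option autoImplicit false
universe u

open CategoryTheory AlgebraicGeometry

namespace K329.OtherPt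

variable {k : Type u} [Field k]

theorem exists_other {X Γ : Scheme.{u}} (pX : X ⟶ Spec (CommRingCat.of k)) [Smooth pX] [QuasiCompact pX]
    [IsIntegral X] [IsIntegral Γ] (p : Γ ⟶ X) [IsProper p] (V : X.Opens) (hV : (V : Set X).Nonempty)
    (hiso : IsIso (p ∣_ V)) (y : Γ) (hy : IsClosed ({y} : Set Γ))
    (hno : ∀ W : X.Opens, p y ∈ W → ¬ IsIso (p ∣_ W)) :
    ∃ y' : Γ, IsClosed ({y'} : Set Γ) ∧ y' ≠ y ∧ p y' = p y := by
  have hX : IsLocallyNoetherian X := LocallyOfFiniteType.isLocallyNoetherian pX
  have hXq : CompactSpace X := QuasiCompact.compactSpace_of_compactSpace pX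
  have hXn : IsNoetherian X := {}
  have hlft : LocallyOfFiniteType (p ≫ pX) := inferInstance
  have hJ : JacobsonSpace Γ := LocallyOfFiniteType.jacobsonSpace (p ≫ pX)
  have hpy : IsClosed ({p y} : Set X) := by
    have := p.isClosedMap {y} hy
    rwa [Set.image_singleton] at this
  have h1 : ∃ z : Γ, z ≠ y ∧ p z = p y := by
    by_contra hcon
    push Not at hcon
    have hqf : p.QuasiFiniteAt y := by
      refine Groth.Agent.CycB.PushLocal.quasiFiniteAt_of_discrete p (p y) ?_ y rfl
      intro a b _ ha hb
      have h2 : a = y := by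
        by_contra hne
        exact hcon a hne ha
      have h3 : b = y := by
        by_contra hne
        exact hcon b hne hb
      rw [h2, h3]
    obtain ⟨W, hW, hWiso⟩ := Groth.Agent.S1655.result p V hV hiso (p y)
      (Groth.Agent.Dix.NormalLoc.stalk_of_smooth pX (p y)).2 y rfl hqf
    exact hno W hW hWiso
  obtain ⟨z, hzy, hz⟩ := h1
  obtain ⟨y', ⟨h2, h3⟩, h4⟩ := nonempty_inter_closedPoints (X := Γ) (Z := p ⁻¹' {p y} ∩ {y}ᶜ)
    ⟨z, hz, hzy⟩ ((hpy.preimage p.continuous).isLocallyClosed.inter hy.isOpen_compl.isLocallyClosed)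
  exact ⟨y', h4, h3, h2⟩

end K329.OtherPt
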