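import Groth.Agent.Curves.K329.TwoPts
import Groth.Agent.Curves.K329.OtherPt
import Groth.Agent.Models.H55.Graph
import Groth.Agent.CurvesC.SpreadIso

/-!
# Rational maps to projective varieties without rational curves

`exists_extension`: a rational map from a smooth proper variety to a projective variety without rational curves
extends.
-/

set_option autoImplicit false
universe u

open CategoryTheory CategoryTheory.Limits AlgebraicGeometry IsLocalRing

namespace K329.GraphExt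

open CohB1 K329.Limit

/-- The closed graph of a rational map. -/
theorem exists_graph {S X Y C : Scheme.{u}} (p₁ : X ⟶ S) (p₂ : Y ⟶ S) (g₁ : C ⟶ X) (g₂ : C ⟶ Y)
    [IsIntegral X] [IsIntegral C] [IsSeparated p₁] [IsProper p₂] [IsOpenImmersion g₁]
    (w : g₁ ≫ p₁ = g₂ ≫ p₂) [QuasiCompact g₁] :
    ∃ (G : Scheme.{u}) (_ : IsIntegral G) (q₁ : G ⟶ X) (q₂ : G ⟶ Y) (hw : q₁ ≫ p₁ = q₂ ≫ p₂) (j : C ⟶ G),
      IsProper q₁ ∧ IsClosedImmersion (pullback.lift q₁ q₂ hw) ∧ j ≫ q₁ = g₁ ∧ j ≫ q₂ = g₂ ∧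
      q₁ (genericPoint G) = genericPoint X ∧ IsIso (q₁.stalkMap (genericPoint G)) := by
  let γ : C ⟶ pullback p₁ p₂ := pullback.lift g₁ g₂ w
  have hγ₁ : γ ≫ pullback.fst p₁ p₂ = g₁ := pullback.lift_fst _ _ _
  have hγ₂ : γ ≫ pullback.snd p₁ p₂ = g₂ := pullback.lift_snd _ _ _
  have hqc : QuasiCompact γ := by
    have : QuasiCompact (γ ≫ pullback.fst p₁ p₂) := by rw [hγ₁]; infer_instance
    exact MorphismProperty.of_postcomp (W := @QuasiCompact) (W' := @QuasiSeparated) γ (pullback.fst p₁ p₂)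
      inferInstance this
  have hint : IsIntegral γ.image := Groth.Agent.CycB.ImageInt.isIntegral_image γ
  have hj := Groth.Agent.CycB.ImageInt.toImage_genericPoint γ
  have hj₁ : γ.toImage ≫ (γ.imageι ≫ pullback.fst p₁ p₂) = g₁ := by
    rw [Scheme.Hom.toImage_imageι_assoc, hγ₁]
  have hj₂ : γ.toImage ≫ (γ.imageι ≫ pullback.snd p₁ p₂) = g₂ := by
    rw [Scheme.Hom.toImage_imageι_assoc, hγ₂]
  have ho₁ : IsOpenImmersion (γ.toImage ≫ (γ.imageι ≫ pullback.fst p₁ p₂)) := by rw [hj₁]; infer_instance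
  obtain ⟨a1, b1⟩ := Groth.Agent.Models.H55.Graph.gen_iso_of_comp γ.toImage (γ.imageι ≫ pullback.fst p₁ p₂) hj
  have hw : (γ.imageι ≫ pullback.fst p₁ p₂) ≫ p₁ = (γ.imageι ≫ pullback.snd p₁ p₂) ≫ p₂ := by
    rw [Category.assoc, Category.assoc, pullback.condition]
  refine ⟨γ.image, hint, γ.imageι ≫ pullback.fst p₁ p₂, γ.imageι ≫ pullback.snd p₁ p₂, hw, γ.toImage, inferInstance,
    ?_, hj₁, hj₂, a1, b1⟩
  have h2 : pullback.lift _ _ hw = γ.imageι := by
    apply pullback.hom_ext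
    · exact pullback.lift_fst _ _ _
    · exact pullback.lift_snd _ _ _
  rw [h2]
  infer_instance

variable {k : Type u} [Field k] [IsAlgClosed k] {N : ℕ}

/-- Closed points of a closed subscheme of a product are determined by their projections. -/
theorem eq_of_proj_eq {X Y G : Scheme.{u}} (pX : X ⟶ Spec (CommRingCat.of k)) (pY : Y ⟶ Spec (CommRingCat.of k))
    [IsSeparated pX] [IsSeparated pY] [LocallyOfFiniteType pX] [LocallyOfFiniteType pY]
    (q₁ : G ⟶ X) (q₂ : G ⟶ Y) (hw : q₁ ≫ pX = q₂ ≫ pY) [IsClosedImmersion (pullback.lift q₁ q₂ hw)]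
    (y y' : G) (hy : IsClosed ({y} : Set G)) (hy' : IsClosed ({y'} : Set G)) (h₁ : q₁ y = q₁ y')
    (h₂ : q₂ y = q₂ y') : y = y' := by
  have hft : LocallyOfFiniteType (q₁ ≫ pX) := by
    have h1 : q₁ ≫ pX = pullback.lift q₁ q₂ hw ≫ pullback.fst pX pY ≫ pX := by
      rw [← Category.assoc, pullback.lift_fst]
    rw [h1]
    infer_instance
  let s := pointOfClosedPoint (q₁ ≫ pX) y hy
  let s' := pointOfClosedPoint (q₁ ≫ pX) y' hy'
  have hs : s ≫ q₁ ≫ pX = 𝟙 _ := pointOfClosedPoint_comp _ _ _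
  have hs' : s' ≫ q₁ ≫ pX = 𝟙 _ := pointOfClosedPoint_comp _ _ _
  have hsy : s (closedPoint k) = y := pointOfClosedPoint_apply _ _ _ _
  have hsy' : s' (closedPoint k) = y' := pointOfClosedPoint_apply _ _ _ _
  have hid : Spec.map (CommRingCat.ofHom (algebraMap k k)) = 𝟙 (Spec (CommRingCat.of k)) := Spec.map_id _
  have e₁ : s ≫ q₁ = s' ≫ q₁ := by
    have := eq_of_apply_eq pX (s' ≫ q₁) (by rw [Category.assoc, hs']) (s ≫ q₁) (by rw [Category.assoc, hs, hid])
      (by rw [Scheme.Hom.comp_apply, Scheme.Hom.comp_apply, hsy, hsy', h₁])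
    rwa [hid, Category.id_comp] at this
  have e₂ : s ≫ q₂ = s' ≫ q₂ := by
    have := eq_of_apply_eq pY (s' ≫ q₂) (by rw [Category.assoc, ← hw, hs']) (s ≫ q₂)
      (by rw [Category.assoc, ← hw, hs, hid])
      (by rw [Scheme.Hom.comp_apply, Scheme.Hom.comp_apply, hsy, hsy', h₂])
    rwa [hid, Category.id_comp] at this
  have e : s = s' := by
    rw [← cancel_mono (pullback.lift q₁ q₂ hw)]
    apply pullback.hom_ext
    · rw [Category.assoc, Category.assoc, pullback.lift_fst, e₁]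
    · rw [Category.assoc, Category.assoc, pullback.lift_snd, e₂]
  rw [← hsy, ← hsy', e]

/-- A rational map from a smooth proper variety to a projective variety without rational curves extends. -/
theorem exists_extension {X Y : Scheme.{u}} (pX : X ⟶ Spec (CommRingCat.of k)) [Smooth pX] [IsProper pX]
    [IsIntegral X] (pY : Y ⟶ Spec (CommRingCat.of k)) [IsProper pY] (ι : Y ⟶ ProjSpace N k) [Mono ι]
    (hι : ι ≫ ProjSpace.toSpec N k = pY)
    (hno : ∀ r : ProjSpace 1 k ⟶ Y, r ≫ pY = ProjSpace.toSpec 1 k → ∃ y : Y, Set.range r.base ⊆ {y})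
    (U : X.Opens) (hU : (U : Set X).Nonempty) (g : (U : Scheme.{u}) ⟶ Y) (hg : g ≫ pY = U.ι ≫ pX) :
    ∃ g' : X ⟶ Y, U.ι ≫ g' = g ∧ g' ≫ pY = pX := by
  have hX : IsLocallyNoetherian X := LocallyOfFiniteType.isLocallyNoetherian pX
  have : Nonempty U := hU.to_subtype
  have hUint : IsIntegral (U : Scheme.{u}) := inferInstance
  obtain ⟨G, hG, q₁, q₂, hw, j, hq₁, hcl, hj₁, hj₂, hgen, hst⟩ := exists_graph pX pY U.ι g hg.symm
  have hJG : JacobsonSpace G := LocallyOfFiniteType.jacobsonSpace (q₁ ≫ pX)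
  have hJX : JacobsonSpace X := LocallyOfFiniteType.jacobsonSpace pX
  have hbir : Groth.Agent.CurvesC.SpreadIso.IsBir q₁ := ⟨hgen, hst⟩
  have hnorm : ∀ w : X, IsIntegrallyClosed (X.presheaf.stalk w) := fun w =>
    (Groth.Agent.Dix.NormalLoc.stalk_of_smooth pX w).2
  obtain ⟨V, hV, hiso⟩ := Groth.Agent.CurvesC.SpreadIso.exists_isIso hbir hnorm (genericPoint X) (by
    have : IsField (X.presheaf.stalk (genericPoint X)) := Semifield.toIsField X.functionField
    let := this.toField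
    infer_instance)
  have hVne : (V : Set X).Nonempty := ⟨_, hV⟩
  have hV' : (q₁ ⁻¹ᵁ V : Set G).Nonempty := ⟨genericPoint G, by
    change q₁ (genericPoint G) ∈ V
    rw [hgen]
    exact hV⟩
  have hsurj : Surjective q₁ := hbir.surjective
  have hloc : ∀ x : X, ∃ W : X.Opens, x ∈ W ∧ IsIso (q₁ ∣_ W) := by
    by_contra hcon
    push Not at hcon
    obtain ⟨x₀, hx₀⟩ := hcon
    let W₀ : X.Opens := ⨆ (W : {W : X.Opens // IsIso (q₁ ∣_ W)}), W.1
    obtain ⟨x, ⟨hx1, -⟩, hx2⟩ := nonempty_inter_closedPoints (X := X) (Z := (W₀ : Set X)ᶜ ∩ Set.univ)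
      ⟨x₀, by
        rintro hx
        have hx' : x₀ ∈ W₀ := hx
        rw [TopologicalSpace.Opens.mem_iSup] at hx'
        obtain ⟨⟨W, hW⟩, hxW⟩ := hx'
        exact hx₀ W hxW hW, trivial⟩ (W₀.2.isClosed_compl.isLocallyClosed.inter isOpen_univ.isLocallyClosed)
    have hxno : ∀ W : X.Opens, x ∈ W → ¬ IsIso (q₁ ∣_ W) := by
      intro W hW hiso
      exact hx1 ((TopologicalSpace.Opens.mem_iSup).2 ⟨⟨W, hiso⟩, hW⟩)
    obtain ⟨y₀, hy₀⟩ := hsurj.surj x
    obtain ⟨y, hy1, hy2⟩ := nonempty_inter_closedPoints (X := G) (Z := q₁ ⁻¹' {x}) ⟨y₀, hy₀⟩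
      ((hx2.preimage q₁.continuous).isLocallyClosed)
    have hyx : q₁ y = x := hy1
    obtain ⟨y', hy', hne, hyy⟩ := OtherPt.exists_other pX q₁ V hVne hiso y hy2 (by rwa [hyx])
    have hne2 : q₂ y ≠ q₂ y' := fun h => hne (eq_of_proj_eq pX pY q₁ q₂ hw y y' hy2 hy' hyy.symm h).symm
    obtain ⟨r, hr1, hr2, -, -⟩ := TwoPts.two_points pX q₁ V hV' pY ι hι q₂ hw.symm y y' hy2 hy' hyy.symm hne2
    exact hr2 (hno r hr1)
  choose W hW hWiso using hloc
  have hq₁iso : IsIso q₁ := by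
    refine (IsZariskiLocalAtTarget.iff_of_iSup_eq_top (P := MorphismProperty.isomorphisms Scheme.{u}) W
      (f := q₁) ?_).2 hWiso
    rw [eq_top_iff]
    intro x _
    exact (TopologicalSpace.Opens.mem_iSup).2 ⟨x, hW x⟩
  refine ⟨inv q₁ ≫ q₂, ?_, ?_⟩
  · rw [← hj₁, Category.assoc, IsIso.hom_inv_id_assoc, hj₂]
  · rw [Category.assoc, ← hw, IsIso.inv_hom_id_assoc]

end K329.GraphExt
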