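import Groth.Agent.PerfB.ProjSpaceCover
import Mathlib.Algebra.Polynomial.Homogenize
import Mathlib.RingTheory.MvPolynomial.Homogeneous

/-!
# Homogenization of polynomials in the affine coordinate `u = X₁ / X₀`

`hg e p` is the form `X₀^e p(X₁/X₀)` of degree `e`, for `natDegree p ≤ e`.
-/

set_option autoImplicit false
universe u

open CategoryTheory AlgebraicGeometry

namespace K329.Homog

open CohB1

variable {k : Type u} [Field k]

/-- the form `X₀^e p(X₁/X₀)` -/
noncomputable def hg (e : ℕ) (p : Polynomial k) : MvPolynomial (Fin (1 + 1)) k :=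
  MvPolynomial.rename (Equiv.swap (0 : Fin 2) 1) (p.homogenize e)

lemma hg_isHomogeneous (e : ℕ) (p : Polynomial k) : (hg e p).IsHomogeneous e :=
  (Polynomial.isHomogeneous_homogenize p).rename_isHomogeneous

lemma hg_mem (e : ℕ) (p : Polynomial k) : hg e p ∈ polyGrading 1 k e :=
  (MvPolynomial.mem_homogeneousSubmodule _ _).2 (hg_isHomogeneous e p)

lemma hg_add (e : ℕ) (p q : Polynomial k) : hg e (p + q) = hg e p + hg e q := by
  rw [hg, Polynomial.homogenize_add, map_add]; rfl

lemma hg_zero (e : ℕ) : hg e (0 : Polynomial k) = 0 := by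
  rw [hg, Polynomial.homogenize_zero, map_zero]

lemma hg_sum {ι : Type*} (s : Finset ι) (e : ℕ) (p : ι → Polynomial k) :
    hg e (∑ i ∈ s, p i) = ∑ i ∈ s, hg e (p i) := by
  rw [hg, Polynomial.homogenize_finsetSum, map_sum]; rfl

lemma hg_mul {p q : Polynomial k} {m n : ℕ} (hm : p.natDegree ≤ m) (hn : q.natDegree ≤ n) :
    hg (m + n) (p * q) = hg m p * hg n q := by
  rw [hg, Polynomial.homogenize_mul p q hm hn, map_mul]; rfl

lemma hg_one (e : ℕ) : hg e (1 : Polynomial k) = MvPolynomial.X 0 ^ e := by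
  rw [hg, Polynomial.homogenize_one, map_pow, MvPolynomial.rename_X, Equiv.swap_apply_right]

lemma hg_C (e : ℕ) (c : k) : hg e (Polynomial.C c) = MvPolynomial.C c * MvPolynomial.X 0 ^ e := by
  rw [hg, Polynomial.homogenize_C, map_mul, map_pow, MvPolynomial.rename_X, Equiv.swap_apply_right,
    MvPolynomial.rename_C]

lemma hg_C_mul (e : ℕ) (c : k) (p : Polynomial k) : hg e (Polynomial.C c * p) = MvPolynomial.C c * hg e p := by
  rw [hg, Polynomial.homogenize_C_mul, map_mul, MvPolynomial.rename_C]; rfl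

lemma hg_X_pow (e : ℕ) : hg e (Polynomial.X ^ e : Polynomial k) = MvPolynomial.X 1 ^ e := by
  rw [hg, Polynomial.homogenize_X_pow le_rfl, Nat.sub_self, pow_zero, mul_one, map_pow, MvPolynomial.rename_X,
    Equiv.swap_apply_left]

lemma eval_hg {S : Type*} [CommSemiring S] {p : Polynomial k} {e : ℕ} (hp : p.natDegree ≤ e) (f : k →+* S)
    (g : Fin (1 + 1) → S) (h0 : g 0 = 1) : MvPolynomial.eval₂ f g (hg e p) = p.eval₂ f (g 1) := by
  have h1 : MvPolynomial.eval₂ f g (hg e p) =
      MvPolynomial.eval₂ f (g ∘ (Equiv.swap (0 : Fin 2) 1)) (p.homogenize e) :=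
    MvPolynomial.eval₂_rename f (Equiv.swap (0 : Fin 2) 1) g (p.homogenize e)
  have h2 : (g ∘ (Equiv.swap (0 : Fin 2) 1)) 1 = 1 := by
    rw [Function.comp_apply, Equiv.swap_apply_right]; exact h0
  have h3 : (g ∘ (Equiv.swap (0 : Fin 2) 1)) 0 = g 1 := by
    rw [Function.comp_apply, Equiv.swap_apply_left]
  rw [h1, Polynomial.eval₂_homogenize_of_eq_one hp f _ h2, h3]

/-- modulo `X₀` only the leading coefficient matters -/
lemma exists_hg_eq {p : Polynomial k} {e : ℕ} (hp : p.natDegree ≤ e) :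
    ∃ q, hg e p = MvPolynomial.C (p.coeff e) * MvPolynomial.X 1 ^ e + MvPolynomial.X 0 * q := by
  rcases Nat.eq_zero_or_pos e with rfl | he
  · refine ⟨0, ?_⟩
    have h1 : p = Polynomial.C (p.coeff 0) := Polynomial.eq_C_of_natDegree_le_zero hp
    rw [mul_zero, add_zero, pow_zero, mul_one]
    conv_lhs => rw [h1]
    rw [hg_C, pow_zero, mul_one]
  · obtain ⟨e, rfl⟩ : ∃ e', e = e' + 1 := ⟨e - 1, by omega⟩
    set p' := p - Polynomial.C (p.coeff (e + 1)) * Polynomial.X ^ (e + 1) with hp'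
    have h1 : p = Polynomial.C (p.coeff (e + 1)) * Polynomial.X ^ (e + 1) + p' := by rw [hp']; ring
    have h2 : p'.natDegree ≤ e := by
      rw [Polynomial.natDegree_le_iff_coeff_eq_zero]
      intro N hN
      rw [hp', Polynomial.coeff_sub, Polynomial.coeff_C_mul, Polynomial.coeff_X_pow]
      rcases eq_or_ne N (e + 1) with rfl | hne
      · simp
      · rw [if_neg hne, mul_zero, sub_zero]
        exact Polynomial.coeff_eq_zero_of_natDegree_lt (by omega)
    refine ⟨hg e p', ?_⟩
    conv_lhs => rw [h1]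
    rw [hg_add, hg_C_mul, hg_X_pow]
    congr 1
    have h3 := hg_mul (k := k) (p := 1) (q := p') (m := 1) (n := e) (by simp) h2
    rw [one_mul, hg_one, pow_one, add_comm 1 e] at h3
    exact h3

/-- Forms attached to polynomials without common zero, one of them of degree `e`: no common zero on the
projective line. -/
theorem exists_mem_basicOpen {ι : Type*} [Fintype ι] (e : ℕ) (h : ι → Polynomial k)
    (hdeg : ∀ l, (h l).natDegree ≤ e) (hspan : Ideal.span (Set.range h) = ⊤) (l₁ : ι) (hl₁ : (h l₁).coeff e ≠ 0)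
    (x : Proj (polyGrading 1 k)) : ∃ l, x ∈ Proj.basicOpen (polyGrading 1 k) (hg e (h l)) := by
  by_contra hcon
  push Not at hcon
  have hcon' : ∀ l, hg e (h l) ∈ x.asHomogeneousIdeal.toIdeal := by
    intro l
    by_contra hl
    exact hcon l ((Proj.mem_basicOpen _ _ _).2 hl)
  have hprime : x.asHomogeneousIdeal.toIdeal.IsPrime := x.isPrime
  obtain ⟨i, hi⟩ := Groth.Agent.PerfB.ProjSpaceCover.exists_mem_basicOpen_X 1 k x
  rw [Proj.mem_basicOpen] at hi
  have h0 : (MvPolynomial.X 0 : MvPolynomial (Fin (1 + 1)) k) ∈ x.asHomogeneousIdeal.toIdeal := by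
    -- a combination of the `h l` is one
    have h1 : (1 : Polynomial k) ∈ Ideal.span (Set.range h) := hspan ▸ Submodule.mem_top
    obtain ⟨b, hb⟩ := (Ideal.mem_span_range_iff_exists_fun).1 h1
    let m := Finset.univ.sup fun l => (b l).natDegree
    have h2 : ∀ l, (b l).natDegree ≤ m := fun l => Finset.le_sup (f := fun l => (b l).natDegree) (Finset.mem_univ l)
    have h3 : (MvPolynomial.X 0 : MvPolynomial (Fin (1 + 1)) k) ^ (m + e) ∈ x.asHomogeneousIdeal.toIdeal := by
      rw [← hg_one, ← hb, hg_sum]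
      refine Ideal.sum_mem _ fun l _ => ?_
      rw [hg_mul (h2 l) (hdeg l)]
      exact Ideal.mul_mem_left _ _ (hcon' l)
    exact hprime.mem_of_pow_mem _ h3
  have h1 : (MvPolynomial.X 1 : MvPolynomial (Fin (1 + 1)) k) ∈ x.asHomogeneousIdeal.toIdeal := by
    obtain ⟨q, hq⟩ := exists_hg_eq (hdeg l₁)
    have h2 := hcon' l₁
    rw [hq] at h2
    have h3 : MvPolynomial.C ((h l₁).coeff e) * MvPolynomial.X 1 ^ e ∈ x.asHomogeneousIdeal.toIdeal :=
      (Ideal.add_mem_iff_left _ (Ideal.mul_mem_right _ _ h0)).1 h2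
    have h4 : (MvPolynomial.X 1 : MvPolynomial (Fin (1 + 1)) k) ^ e ∈ x.asHomogeneousIdeal.toIdeal := by
      have h5 := Ideal.mul_mem_left _ (MvPolynomial.C ((h l₁).coeff e)⁻¹) h3
      rwa [← mul_assoc, ← MvPolynomial.C_mul, inv_mul_cancel₀ hl₁, MvPolynomial.C_1, one_mul] at h5
    exact hprime.mem_of_pow_mem _ h4
  fin_cases i
  · exact hi h0
  · exact hi h1

end K329.Homog
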