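import Groth.Agent.Curves.K329.Prim
import Groth.Agent.S0546
import Mathlib.RingTheory.Smooth.AdicCompletion
import Mathlib.RingTheory.AdicCompletion.Completeness

/-!
# Homotopy of arcs in a smooth scheme

`exists_homotopy`: two arcs `α, β : A → k⟦t⟧` of a formally smooth algebra with the same reduction are the restrictions
to `z = 0` and `z = t` of a homomorphism `A → k⟦z,t⟧`.
-/

set_option autoImplicit false
universe u

namespace K329.Homotopy

open MvPowerSeries K329.SubstWt K329.TwoArcs K329.Prim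

variable {k : Type u} [Field k]

/-- the inclusion `k⟦t⟧ → k⟦z,t⟧` -/
noncomputable def inc (k : Type u) [Field k] : PowerSeries k →ₐ[k] MvPowerSeries (Fin 2) k :=
  substAlgHom (R := k) (σ := Unit) (a := fun _ => (X 1 : MvPowerSeries (Fin 2) k))
    (hasSubst_of_constantCoeff_zero fun _ => by simp)

lemma hasSubst_inc : HasSubst (fun _ : Unit => (X 1 : MvPowerSeries (Fin 2) k)) :=
  hasSubst_of_constantCoeff_zero fun _ => by simp

lemma pz_inc (f : PowerSeries k) : pz k (inc k f) = f := by
  have h := comp_eq (hasSubst_inc (k := k)) (hasSubst_tz k) (HasSubst.X (σ := Unit) (S := k)) (fun s => ?_) f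
  · refine h.trans ?_
    rw [substAlgHom_apply, subst_self]
    rfl
  · rw [subst_X (hasSubst_tz k)]
    rfl

lemma pzt_inc (f : PowerSeries k) : pzt k (inc k f) = f := by
  have h := comp_eq (hasSubst_inc (k := k)) (hasSubst_tzt k) (HasSubst.X (σ := Unit) (S := k)) (fun s => ?_) f
  · refine h.trans ?_
    rw [substAlgHom_apply, subst_self]
    rfl
  · rw [subst_X (hasSubst_tzt k)]
    rfl

/-- Two power series in one variable with the same constant coefficient. -/
lemma exists_pz_pzt (a b : PowerSeries k) (h : PowerSeries.constantCoeff a = PowerSeries.constantCoeff b) :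
    ∃ f : MvPowerSeries (Fin 2) k, pz k f = a ∧ pzt k f = b := by
  have h1 : (PowerSeries.X : PowerSeries k) ∣ b - a := by
    rw [PowerSeries.X_dvd_iff, map_sub, h, sub_self]
  obtain ⟨c, hc⟩ := h1
  refine ⟨inc k a + X 0 * inc k c, ?_, ?_⟩
  · rw [map_add, map_mul, pz_inc, pz_X0, zero_mul, add_zero]
  · rw [map_add, map_mul, pzt_inc, pzt_inc, pzt_X0, ← hc]
    ring

/-- the pair of restrictions -/
noncomputable def res (k : Type u) [Field k] : MvPowerSeries (Fin 2) k →ₐ[k] PowerSeries k × PowerSeries k :=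
  (pz k).prod (pzt k)

lemma ker_res : RingHom.ker (res k).rangeRestrict = Ideal.span {(X 0 * (X 0 - X 1) : MvPowerSeries (Fin 2) k)} := by
  apply le_antisymm
  · intro f hf
    have h0 : res k f = 0 := congrArg Subtype.val hf
    have h1 : pz k f = 0 := congrArg Prod.fst h0
    have h2 : pzt k f = 0 := congrArg Prod.snd h0
    obtain ⟨g, hg⟩ := dvd_of_pz_eq_zero h1
    rw [hg, map_mul, pzt_X0] at h2
    have h3 : pzt k g = 0 := (mul_eq_zero.1 h2).resolve_left PowerSeries.X_ne_zero
    obtain ⟨g', hg'⟩ := dvd_of_pzt_eq_zero h3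
    rw [Ideal.mem_span_singleton]
    exact ⟨g', by rw [hg, hg']; ring⟩
  · rw [Ideal.span_singleton_le_iff_mem]
    apply Subtype.ext
    change (pz k (X 0 * (X 0 - X 1)), pzt k (X 0 * (X 0 - X 1))) = 0
    rw [map_mul, map_mul, pz_X0, map_sub, map_sub, pzt_X0, pzt_X1, sub_self]
    simp

instance isAdicComplete_ker :
    IsAdicComplete (RingHom.ker (res k).rangeRestrict) (MvPowerSeries (Fin 2) k) := by
  have hle : RingHom.ker (res k).rangeRestrict ≤ Ideal.span (Set.range (X (R := k) (σ := Fin 2))) := by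
    rw [ker_res, Ideal.span_singleton_le_iff_mem]
    exact Ideal.mul_mem_right _ _ (Ideal.subset_span ⟨0, rfl⟩)
  refine Groth.Agent.S0546.result (MvPowerSeries (Fin 2) k) _ _ hle ?_ (MvPowerSeries (Fin 2) k)
  rw [ker_res]
  exact ⟨{X 0 * (X 0 - X 1)}, by rw [Finset.coe_singleton]⟩

/-- **Homotopy of arcs.** -/
theorem exists_homotopy {A : Type u} [CommRing A] [Algebra k A] [Algebra.FormallySmooth k A]
    (α β : A →ₐ[k] PowerSeries k)
    (h : ∀ x, PowerSeries.constantCoeff (α x) = PowerSeries.constantCoeff (β x)) :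
    ∃ θ : A →ₐ[k] MvPowerSeries (Fin 2) k, (∀ x, pz k (θ x) = α x) ∧ ∀ x, pzt k (θ x) = β x := by
  have hrange : ∀ x, (α.prod β) x ∈ (res k).range := by
    intro x
    obtain ⟨f, hf1, hf2⟩ := exists_pz_pzt (α x) (β x) (h x)
    exact ⟨f, Prod.ext hf1 hf2⟩
  let ψ : A →ₐ[k] (res k).range := (α.prod β).codRestrict _ hrange
  let e : (MvPowerSeries (Fin 2) k ⧸ RingHom.ker (res k).rangeRestrict) ≃ₐ[k] (res k).range :=
    Ideal.quotientKerAlgEquivOfSurjective (res k).rangeRestrict_surjective
  obtain ⟨θ, hθ⟩ := Algebra.FormallySmooth.exists_mkₐ_comp_eq_of_isAdicComplete (R := k) (A := A)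
    (e.symm.toAlgHom.comp ψ)
  have h1 : ∀ x, res k (θ x) = (α x, β x) := by
    intro x
    have h2 := congrArg (fun t => e t) (DFunLike.congr_fun hθ x)
    have h3 : e ((Ideal.Quotient.mkₐ k (RingHom.ker (res k).rangeRestrict)) (θ x)) = (res k).rangeRestrict (θ x) := rfl
    have h4 : (res k).rangeRestrict (θ x) = ψ x := by
      rw [← h3]
      refine h2.trans ?_
      exact e.apply_symm_apply (ψ x)
    exact congrArg Subtype.val h4
  exact ⟨θ, fun x => congrArg Prod.fst (h1 x), fun x => congrArg Prod.snd (h1 x)⟩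

end K329.Homotopy
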