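import Groth.Agent.Curves.K329.Pt
import Groth.Agent.Curves.K329.CurveExt
import Groth.Agent.CohqA.ProjDim
import Groth.Agent.Dix.NormalLoc
import Groth.Agent.CurvesB.DimPts
import Groth.Agent.Sga5.ProjReg
import Mathlib.FieldTheory.RatFunc.AsPolynomial
import Mathlib.RingTheory.LaurentSeries

/-!
# The projective line: its generic point `Spec k(u)` and extension of morphisms

* `aff k : Spec k[u] ⟶ P^1_k`, the open immersion `u ↦ [1 : u]`.
* `genP k : Spec k(u) ⟶ P^1_k`, the generic point.
* `exists_extension`: a `k`-morphism from `Spec k(u)` to a proper `k`-scheme extends to `P^1_k`.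
-/

set_option autoImplicit false
universe u

open CategoryTheory AlgebraicGeometry IsLocalRing

namespace K329.P1Gen

open Groth.Agent.VarietyB.ProjHom Groth.Agent.Sga5.ProjChart CohB1 K329.Pt

variable (k : Type u) [Field k]

/-- the coordinates `[1 : c]` -/
noncomputable def one2 {B : Type u} [CommRing B] (c : B) : Fin (1 + 1) → B := ![1, c]

lemma isUnit_one2 {B : Type u} [CommRing B] (c : B) : IsUnit (one2 c 0) := isUnit_one

/-- the morphism `[1 : c]` -/
noncomputable def pt1 {B : Type u} [CommRing B] [Algebra k B] (c : B) : Spec (CommRingCat.of B) ⟶ ProjSpace 1 k :=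
  pt k (one2 c) 0 (isUnit_one2 c)

lemma map_pt1 {B C : Type u} [CommRing B] [Algebra k B] [CommRing C] [Algebra k C] (φ : B →ₐ[k] C) (c : B) :
    Spec.map (CommRingCat.ofHom (φ : B →+* C)) ≫ pt1 k c = pt1 k (φ c) := by
  refine map_pt' k φ _ _ _ _ (fun l => ?_) _ _
  fin_cases l
  · exact map_one φ
  · rfl

lemma pt1_toSpec {B : Type u} [CommRing B] [Algebra k B] (c : B) :
    pt1 k c ≫ ProjSpace.toSpec 1 k = Spec.map (CommRingCat.ofHom (algebraMap k B)) :=
  pt_toSpec k _ _ _

/-- the open immersion `[1 : u]` of the affine line -/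
noncomputable def aff : Spec (CommRingCat.of (Polynomial k)) ⟶ ProjSpace 1 k := pt1 k (Polynomial.X : Polynomial k)

lemma bijective_chart : Function.Bijective (awayLift (polyGrading 1 k) (ev k (one2 (Polynomial.X : Polynomial k)))
    (MvPolynomial.X 0) (isUnit_ev k (isUnit_one2 Polynomial.X))) := by
  set χ := awayLift (polyGrading 1 k) (ev k (one2 (Polynomial.X : Polynomial k)))
    (MvPolynomial.X 0) (isUnit_ev k (isUnit_one2 Polynomial.X)) with hχ
  have key : ∀ l, χ (coord 1 k 0 l) = one2 (Polynomial.X : Polynomial k) l := by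
    intro l
    have h3 := awayLift_mk (polyGrading 1 k) (ev k (one2 (Polynomial.X : Polynomial k)))
      (isUnit_ev k (isUnit_one2 Polynomial.X)) (X_mem 1 k 0) 1 (MvPolynomial.X l)
      (by simpa using X_mem 1 k l)
    rw [pow_one, ev_X, ev_X] at h3
    have h4 : one2 (Polynomial.X : Polynomial k) 0 = 1 := rfl
    rw [h4, mul_one] at h3
    exact h3
  have keyC : ∀ r, χ (chartC 1 k 0 r) = Polynomial.C r := by
    intro r
    have h1 := pt_toSpec k (one2 (Polynomial.X : Polynomial k)) 0 (isUnit_one2 _)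
    rw [pt, Category.assoc, Groth.Agent.Sga7.H132.ProjPts.chart_toSpec, ← Spec.map_comp] at h1
    have h2 := congrArg CommRingCat.Hom.hom (Spec.map_injective h1)
    exact congrFun (congrArg DFunLike.coe h2) r
  have h1 : χ.comp (chartEquiv 1 k 0 : MvPolynomial (Fin 1) k →+* Chart 1 k 0) =
      (MvPolynomial.uniqueAlgEquiv k (Fin 1) : MvPolynomial (Fin 1) k →+* Polynomial k) := by
    apply MvPolynomial.ringHom_ext
    · intro r
      change χ (chartEquiv 1 k 0 (MvPolynomial.C r)) = MvPolynomial.uniqueAlgEquiv k (Fin 1) (MvPolynomial.C r)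
      rw [chartEquiv_C, keyC]
      exact ((MvPolynomial.uniqueAlgEquiv k (Fin 1)).commutes r).symm
    · intro j
      change χ (chartEquiv 1 k 0 (MvPolynomial.X j)) = MvPolynomial.uniqueAlgEquiv k (Fin 1) (MvPolynomial.X j)
      rw [chartEquiv_X, key]
      have : j = 0 := Subsingleton.elim _ _
      subst this
      simp [one2, MvPolynomial.uniqueAlgEquiv]
  have h2 : Function.Bijective (χ.comp (chartEquiv 1 k 0 : MvPolynomial (Fin 1) k →+* Chart 1 k 0)) := by
    rw [h1]
    exact (MvPolynomial.uniqueAlgEquiv k (Fin 1)).bijective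
  have h3 : Function.Bijective (chartEquiv 1 k 0) := (chartEquiv 1 k 0).bijective
  rw [RingHom.coe_comp] at h2
  exact (Function.Bijective.of_comp_iff χ h3).1 h2

instance isOpenImmersion_aff : IsOpenImmersion (aff k) := by
  rw [aff, pt1, pt]
  have h1 : IsIso (CommRingCat.ofHom (awayLift (polyGrading 1 k) (ev k (one2 (Polynomial.X : Polynomial k)))
    (MvPolynomial.X 0) (isUnit_ev k (isUnit_one2 Polynomial.X)))) :=
    (ConcreteCategory.isIso_iff_bijective _).2 (bijective_chart k)
  infer_instance

/-- the generic point -/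
noncomputable def genP : Spec (CommRingCat.of (RatFunc k)) ⟶ ProjSpace 1 k := pt1 k (RatFunc.X : RatFunc k)

lemma genP_eq : Spec.map (CommRingCat.ofHom (algebraMap (Polynomial k) (RatFunc k))) ≫ aff k = genP k := by
  have h := map_pt1 k (IsScalarTower.toAlgHom k (Polynomial k) (RatFunc k)) (Polynomial.X : Polynomial k)
  have h2 : (IsScalarTower.toAlgHom k (Polynomial k) (RatFunc k)) (Polynomial.X : Polynomial k) = RatFunc.X :=
    RatFunc.algebraMap_X
  rw [h2] at h
  exact h

lemma genP_toSpec : genP k ≫ ProjSpace.toSpec 1 k = Spec.map (CommRingCat.ofHom (algebraMap k (RatFunc k))) :=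
  pt1_toSpec k (RatFunc.X : RatFunc k)

instance isPreimmersion_genP : IsPreimmersion (genP k) := by
  rw [← genP_eq]
  have : IsPreimmersion (Spec.map (CommRingCat.ofHom (algebraMap (Polynomial k) (RatFunc k)))) :=
    IsPreimmersion.of_isLocalization (nonZeroDivisors (Polynomial k))
  infer_instance

lemma genP_closedPoint : genP k (closedPoint (RatFunc k)) = genericPoint (ProjSpace 1 k) := by
  rw [← genP_eq, Scheme.Hom.comp_apply]
  have h1 : Spec.map (CommRingCat.ofHom (algebraMap (Polynomial k) (RatFunc k))) (closedPoint (RatFunc k)) =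
      genericPoint (Spec (CommRingCat.of (Polynomial k))) := by
    have : IsDomain (CommRingCat.of (Polynomial k)) := inferInstanceAs (IsDomain (Polynomial k))
    rw [genericPoint_eq_bot_of_affine]
    apply PrimeSpectrum.ext
    change Ideal.comap (algebraMap (Polynomial k) (RatFunc k)) (maximalIdeal (RatFunc k)) = ⊥
    have h2 : maximalIdeal (RatFunc k) = ⊥ := maximalIdeal_eq_bot
    rw [h2]
    exact RingHom.ker_eq_bot_iff_eq_zero _ |>.2 fun x hx => by
      have := (RatFunc.algebraMap_injective k)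
      exact (map_eq_zero_iff _ this).1 hx
  rw [h1]
  exact genericPoint_eq_of_isOpenImmersion (aff k)

lemma valuationRing_stalk (x : ProjSpace 1 k) : ValuationRing ((ProjSpace 1 k).presheaf.stalk x) := by
  obtain ⟨h1, h2⟩ := Groth.Agent.Dix.NormalLoc.stalk_of_smooth (ProjSpace.toSpec 1 k) x
  have h3 : ringKrullDim ((ProjSpace 1 k).presheaf.stalk x) ≤ 1 :=
    (Groth.Agent.CurvesB.DimPts.ringKrullDim_stalk_le x).trans
      (Groth.Agent.CohqA.ProjDim.topologicalKrullDim_le k 1)
  refine (Groth.Agent.Dix.NormalLoc.valuationRing_of_not_two_le_ringKrullDim _ ?_).1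
  intro h4
  have h5 : (2 : WithBot ℕ∞) ≤ 1 := h4.trans h3
  exact absurd h5 (by decide)

/-- A `k`-morphism from `Spec k(u)` to a proper `k`-scheme extends to the projective line. -/
theorem exists_extension {Y : Scheme.{u}} (pY : Y ⟶ Spec (CommRingCat.of k)) [IsProper pY]
    (δ : Spec (CommRingCat.of (RatFunc k)) ⟶ Y)
    (h : δ ≫ pY = Spec.map (CommRingCat.ofHom (algebraMap k (RatFunc k)))) :
    ∃ r : ProjSpace 1 k ⟶ Y, r ≫ pY = ProjSpace.toSpec 1 k ∧ genP k ≫ r = δ :=
  CurveExt.exists_extension (ProjSpace.toSpec 1 k) (valuationRing_stalk k) pY (genP k) (genP_closedPoint k) δ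
    (by rw [h, genP_toSpec])

end K329.P1Gen
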