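import Groth.Agent.Curves.K329.Prim
import Groth.Agent.Curves.K329.P1Gen
import Groth.Agent.Pic13.H959.RedLift
import Mathlib.AlgebraicGeometry.ValuativeCriterion

/-!
# Rational curves as limits of families over `Spec k⟦z,t⟧`

* `pt1_comp`: values of a morphism `P^1 ⟶ P^N` given by polynomials at the generic point.
* `exists_curve`: a nonconstant weighted limit of the coordinates of a point of a projective scheme `Y` over the
  fraction field of `k⟦z,t⟧` gives a rational curve on `Y`.
-/

set_option autoImplicit false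
universe u

open CategoryTheory AlgebraicGeometry IsLocalRing

namespace K329.Limit

open CohB1 K329.Pt K329.P1Gen K329.SubstWt K329.Link K329.TwoArcs K329.Prim

/-- The valuative criterion. -/
theorem exists_lift {V E : Type u} [CommRing V] [IsDomain V] [ValuationRing V] [Field E] [Algebra V E]
    [IsFractionRing V E] {Y S : Scheme.{u}} (p : Y ⟶ S) [IsProper p] (x : Spec (CommRingCat.of E) ⟶ Y)
    (t : Spec (CommRingCat.of V) ⟶ S)
    (h : x ≫ p = Spec.map (CommRingCat.ofHom (algebraMap V E)) ≫ t) :
    ∃ a : Spec (CommRingCat.of V) ⟶ Y, a ≫ p = t ∧ Spec.map (CommRingCat.ofHom (algebraMap V E)) ≫ a = x := by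
  have h1 : ValuativeCriterion p := by
    have := (IsProper.eq_valuativeCriterion ▸ (inferInstance : IsProper p) : _)
    exact this.1.1.1
  obtain ⟨⟨⟨l, h2, h3⟩, -⟩⟩ := (h1 ⟨V, E, x, t, ⟨h⟩⟩)
  exact ⟨l, h3, h2⟩

/-- Two morphisms from the spectrum of a domain to a separated scheme agreeing over an injective extension. -/
theorem ext_of_injective {B C : Type u} [CommRing B] [IsDomain B] [CommRing C] (φ : B →+* C)
    (hφ : Function.Injective φ) {Z S : Scheme.{u}} (p : Z ⟶ S) [IsSeparated p]
    (m m' : Spec (CommRingCat.of B) ⟶ Z) (h : m ≫ p = m' ≫ p)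
    (h' : Spec.map (CommRingCat.ofHom φ) ≫ m = Spec.map (CommRingCat.ofHom φ) ≫ m') : m = m' := by
  have hd : IsDominant (Spec.map (CommRingCat.ofHom φ)) := by
    apply isDominant_of_of_appTop_injective
    have h1 := Scheme.ΓSpecIso_naturality (CommRingCat.ofHom φ)
    have h2 : (Spec.map (CommRingCat.ofHom φ)).appTop =
      (Scheme.ΓSpecIso _).hom ≫ CommRingCat.ofHom φ ≫ (Scheme.ΓSpecIso _).inv := by
      rw [← Category.assoc, ← h1, Category.assoc, Iso.hom_inv_id, Category.comp_id]
    rw [h2]
    have e1 := ((ConcreteCategory.isIso_iff_bijective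
      (Scheme.ΓSpecIso (CommRingCat.of B)).hom).1 inferInstance).1
    have e2 := ((ConcreteCategory.isIso_iff_bijective
      (Scheme.ΓSpecIso (CommRingCat.of C)).inv).1 inferInstance).1
    intro x y hxy
    simp only [CommRingCat.comp_apply] at hxy
    exact e1 (hφ (e2 hxy))
  exact ext_of_isDominant_of_isSeparated p h (Spec.map (CommRingCat.ofHom φ)) h'

variable {k : Type u} [Field k]

instance isDomain_mvps : IsDomain (MvPowerSeries (Fin 2) k) := NoZeroDivisors.to_isDomain _

/-- the constant coefficient, as a homomorphism of `k`-algebras -/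
noncomputable def cc (k : Type u) [Field k] (L : Type u) [Field L] [Algebra k L] : PowerSeries L →ₐ[k] L :=
  { (PowerSeries.constantCoeff (R := L)) with
    commutes' := fun r => by
      change PowerSeries.constantCoeff (PowerSeries.C (algebraMap k L r)) = _
      rw [PowerSeries.constantCoeff_C] }

/-- the constant coefficient, as a homomorphism of `k`-algebras -/
noncomputable def cc2 (k : Type u) [Field k] : MvPowerSeries (Fin 2) k →ₐ[k] k :=
  { (MvPowerSeries.constantCoeff (σ := Fin 2) (R := k)) with
    commutes' := fun r => by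
      change MvPowerSeries.constantCoeff (MvPowerSeries.C r) = _
      rw [MvPowerSeries.constantCoeff_C]
      rfl }

lemma cc_apply (L : Type u) [Field L] [Algebra k L] (f : PowerSeries L) :
    cc k L f = PowerSeries.constantCoeff f := rfl

lemma cc2_apply (f : MvPowerSeries (Fin 2) k) : cc2 k f = MvPowerSeries.constantCoeff f := rfl

variable {N : ℕ}

/-- A `Spec L⟦X⟧`-point whose generic point has coordinates `f`, proportional to the coordinates `g` over `L⟦X⟧`, one
of which is invertible. -/
theorem closed_of_generic {L : Type u} [Field L] [Algebra k L] {E : Type u} [CommRing E] [Algebra k E]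
    (i : PowerSeries L →ₐ[k] E) (hi : Function.Injective i)
    (m : Spec (CommRingCat.of (PowerSeries L)) ⟶ ProjSpace N k)
    (hm : m ≫ ProjSpace.toSpec N k = Spec.map (CommRingCat.ofHom (algebraMap k (PowerSeries L))))
    (f : Fin (N + 1) → E) (j : Fin (N + 1)) (hj : IsUnit (f j))
    (h : Spec.map (CommRingCat.ofHom (i : PowerSeries L →+* E)) ≫ m = pt k f j hj)
    (w : E) (g : Fin (N + 1) → PowerSeries L) (hw : IsUnit w) (hg : ∀ l, f l = w * i (g l))
    (l₀ : Fin (N + 1)) (hl₀ : IsUnit (PowerSeries.constantCoeff (g l₀))) :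
    m = pt k g l₀ (PowerSeries.isUnit_iff_constantCoeff.2 hl₀) ∧
    Spec.map (CommRingCat.ofHom (cc k L : PowerSeries L →+* L)) ≫ m =
      pt k (fun l => PowerSeries.constantCoeff (g l)) l₀ hl₀ := by
  have hu : IsUnit (g l₀) := PowerSeries.isUnit_iff_constantCoeff.2 hl₀
  have h1 : m = pt k g l₀ hu := by
    refine eq_pt_of_injective k i hi m hm g l₀ hu ?_
    rw [h]
    exact pt_smul k w hw _ _ _ _ hg _ _
  refine ⟨h1, ?_⟩
  rw [h1]
  exact map_pt k (cc k L) g l₀ hu

/-- Values of a morphism given by polynomials at the generic point. -/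
theorem pt1_comp (R : ProjSpace 1 k ⟶ ProjSpace N k)
    (hR : R ≫ ProjSpace.toSpec N k = ProjSpace.toSpec 1 k) (h : Fin (N + 1) → Polynomial k)
    (j₀ : Fin (N + 1)) (hj₀ : IsUnit (Polynomial.aeval (RatFunc.X : RatFunc k) (h j₀)))
    (hgen : genP k ≫ R = pt k (fun l => Polynomial.aeval (RatFunc.X : RatFunc k) (h l)) j₀ hj₀)
    {C : Type u} [CommRing C] [Algebra k C] [Nontrivial C] (c : C) (j : Fin (N + 1))
    (hj : IsUnit (Polynomial.aeval c (h j))) :
    pt1 k c ≫ R = pt k (fun l => Polynomial.aeval c (h l)) j hj := by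
  have h0 : h j ≠ 0 := by
    intro h0
    rw [h0, map_zero] at hj
    exact not_isUnit_zero hj
  let B := Localization.Away (h j)
  have hle : Submonoid.powers (h j) ≤ nonZeroDivisors (Polynomial k) :=
    powers_le_nonZeroDivisors_of_noZeroDivisors h0
  have hB : IsDomain B := IsLocalization.isDomain_of_le_nonZeroDivisors (M := Submonoid.powers (h j)) _ hle
  have haX : ∀ p : Polynomial k, Polynomial.aeval (RatFunc.X : RatFunc k) p = algebraMap (Polynomial k) (RatFunc k) p := by
    intro p
    have h1 := Polynomial.aeval_algebraMap_apply (RatFunc k) (Polynomial.X : Polynomial k) p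
    rw [RatFunc.algebraMap_X, Polynomial.aeval_X_left_apply] at h1
    exact h1
  have hu : ∀ y : Submonoid.powers (h j), IsUnit ((IsScalarTower.toAlgHom k (Polynomial k) (RatFunc k)) y) := by
    rintro ⟨_, n, rfl⟩
    rw [map_pow]
    refine IsUnit.pow _ (isUnit_iff_ne_zero.2 ?_)
    exact (map_ne_zero_iff _ (RatFunc.algebraMap_injective k)).2 h0
  let ψ : B →ₐ[k] RatFunc k := IsLocalization.liftAlgHom (M := Submonoid.powers (h j)) (f := IsScalarTower.toAlgHom k (Polynomial k) (RatFunc k)) hu
  have hψ : ∀ p, ψ (algebraMap (Polynomial k) B p) = algebraMap (Polynomial k) (RatFunc k) p := fun p =>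
    IsLocalization.lift_eq (g := ((IsScalarTower.toAlgHom k (Polynomial k) (RatFunc k) : Polynomial k →ₐ[k] RatFunc k) : Polynomial k →+* RatFunc k)) _ p
  have hψinj : Function.Injective ψ := by
    rw [injective_iff_map_eq_zero]
    intro b hb
    obtain ⟨⟨p, s⟩, hs⟩ := IsLocalization.surj (Submonoid.powers (h j)) b
    have h1 := congrArg ψ hs
    rw [map_mul, hb, zero_mul, hψ] at h1
    have h2 : p = 0 := RatFunc.algebraMap_injective k (h1.symm.trans (map_zero _).symm)
    have h3 : IsUnit (algebraMap (Polynomial k) B s) := IsLocalization.map_units B s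
    rw [h2, map_zero] at hs
    exact (h3.mul_left_eq_zero).1 hs
  have hv : ∀ y : Submonoid.powers (h j), IsUnit ((Polynomial.aeval c : Polynomial k →ₐ[k] C) y) := by
    rintro ⟨_, n, rfl⟩
    rw [map_pow]
    exact IsUnit.pow _ hj
  let χ : B →ₐ[k] C := IsLocalization.liftAlgHom (M := Submonoid.powers (h j)) (f := (Polynomial.aeval c : Polynomial k →ₐ[k] C)) hv
  have hχ : ∀ p, χ (algebraMap (Polynomial k) B p) = Polynomial.aeval c p := fun p =>
    IsLocalization.lift_eq (g := ((Polynomial.aeval c : Polynomial k →ₐ[k] C) : Polynomial k →+* C)) _ p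
  have hunit : IsUnit (algebraMap (Polynomial k) B (h j)) :=
    IsLocalization.map_units B (⟨h j, Submonoid.mem_powers _⟩ : Submonoid.powers (h j))
  have key : pt1 k (algebraMap (Polynomial k) B Polynomial.X) ≫ R =
      pt k (fun l => algebraMap (Polynomial k) B (h l)) j hunit := by
    refine eq_pt_of_injective k ψ hψinj _ ?_ _ j hunit ?_
    · rw [Category.assoc, hR, pt1_toSpec]
    · rw [← Category.assoc, map_pt1]
      have h1 : ψ (algebraMap (Polynomial k) B Polynomial.X) = RatFunc.X := by
        rw [hψ, RatFunc.algebraMap_X]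
      rw [h1]
      change genP k ≫ R = _
      rw [hgen]
      have hjj : IsUnit (Polynomial.aeval (RatFunc.X : RatFunc k) (h j)) := by
        rw [haX]
        exact isUnit_iff_ne_zero.2 ((map_ne_zero_iff _ (RatFunc.algebraMap_injective k)).2 h0)
      rw [pt_indep k _ j₀ j hj₀ hjj]
      congr 1
      funext l
      rw [hψ, haX]
  have h1 : pt1 k c = Spec.map (CommRingCat.ofHom (χ : B →+* C)) ≫ pt1 k (algebraMap (Polynomial k) B Polynomial.X) := by
    rw [map_pt1, hχ, Polynomial.aeval_X]
  rw [h1, Category.assoc, key]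
  exact map_pt' k χ _ j hunit _ (fun l => hχ (h l)) j hj

/-- A point over a field at a rational point factors through it. -/
theorem eq_of_apply_eq {Y : Scheme.{u}} (pY : Y ⟶ Spec (CommRingCat.of k)) [IsSeparated pY]
    (m₀ : Spec (CommRingCat.of k) ⟶ Y) (h₀ : m₀ ≫ pY = 𝟙 _) {L : Type u} [Field L] [Algebra k L]
    (m : Spec (CommRingCat.of L) ⟶ Y) (hm : m ≫ pY = Spec.map (CommRingCat.ofHom (algebraMap k L)))
    (h : m (closedPoint L) = m₀ (closedPoint k)) : m = Spec.map (CommRingCat.ofHom (algebraMap k L)) ≫ m₀ := by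
  have : IsClosedImmersion (m₀ ≫ pY) := by
    rw [h₀]
    infer_instance
  have h1 : IsClosedImmersion m₀ := IsClosedImmersion.of_comp m₀ pY
  obtain ⟨l, hl⟩ := Groth.Agent.Pic13.H959.RedLift.exists_lift m₀ m (by
    rintro _ ⟨x, rfl⟩
    have : x = closedPoint L := Subsingleton.elim (α := PrimeSpectrum L) _ _
    rw [this, h]
    exact ⟨_, rfl⟩)
  have h2 : l = Spec.map (CommRingCat.ofHom (algebraMap k L)) := by
    rw [← hm, ← hl, Category.assoc, h₀, Category.comp_id]
  rw [← hl, h2]

end K329.Limit
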