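import Mathlib.RingTheory.MvPowerSeries.Substitution
import Mathlib.RingTheory.PowerSeries.Basic
import Mathlib.RingTheory.PowerSeries.NoZeroDivisors
import Mathlib.RingTheory.Algebraic.Defs
import Mathlib.Algebra.Polynomial.AlgebraMap

/-!
# Weighted substitutions `z ↦ u τ^α`, `t ↦ τ^β`

`sub k u α β : k⟦z,t⟧ →ₐ[k] L⟦τ⟧`, with its coefficients (`coeff_sub`) and its injectivity for `u` transcendental.
-/

set_option autoImplicit false
universe u v

namespace K329.SubstWt

open MvPowerSeries

/-- The monomial exponent `(i, j)`. -/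
noncomputable def idx (x : ℕ × ℕ) : Fin 2 →₀ ℕ := Finsupp.equivFunOnFinite.symm ![x.1, x.2]

@[simp] lemma idx_zero (x : ℕ × ℕ) : idx x 0 = x.1 := rfl
@[simp] lemma idx_one (x : ℕ × ℕ) : idx x 1 = x.2 := rfl

lemma idx_injective : Function.Injective idx := fun x y h => by
  have h0 := DFunLike.congr_fun h 0
  have h1 := DFunLike.congr_fun h 1
  exact Prod.ext h0 h1

lemma idx_surj (d : Fin 2 →₀ ℕ) : idx (d 0, d 1) = d := by
  ext i
  fin_cases i <;> rfl

variable (k : Type u) [Field k] {L : Type v} [Field L] [Algebra k L]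

/-- The coefficient of `z^i t^j`. -/
noncomputable abbrev cf {k : Type u} [Field k] (φ : MvPowerSeries (Fin 2) k) (x : ℕ × ℕ) : k := coeff (idx x) φ

lemma ext_cf {k : Type u} [Field k] {φ ψ : MvPowerSeries (Fin 2) k} (h : ∀ x, cf φ x = cf ψ x) : φ = ψ := by
  ext d
  rw [← idx_surj d]
  exact h _

/-- The images of the variables. -/
noncomputable def tgt (u : L) (α β : ℕ) : Fin 2 → MvPowerSeries Unit L :=
  ![PowerSeries.C u * PowerSeries.X ^ α, PowerSeries.X ^ β]

lemma hasSubst_tgt (u : L) {α β : ℕ} (hα : 0 < α) (hβ : 0 < β) : HasSubst (tgt u α β) := by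
  apply hasSubst_of_constantCoeff_zero
  intro s
  fin_cases s
  · change PowerSeries.constantCoeff (PowerSeries.C u * PowerSeries.X ^ α) = 0
    simp [hα.ne']
  · change PowerSeries.constantCoeff (PowerSeries.X ^ β) = 0
    simp [hβ.ne']

/-- The weighted substitution. -/
noncomputable def sub (u : L) {α β : ℕ} (hα : 0 < α) (hβ : 0 < β) :
    MvPowerSeries (Fin 2) k →ₐ[k] PowerSeries L :=
  substAlgHom (R := k) (hasSubst_tgt u hα hβ)

variable {k}

/-- The polynomial of the terms of weight `n`. -/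
noncomputable def lead (φ : MvPowerSeries (Fin 2) k) (α β n : ℕ) : Polynomial k :=
  ∑ x ∈ (Finset.range (n + 1) ×ˢ Finset.range (n + 1)) with α * x.1 + β * x.2 = n,
    Polynomial.monomial x.1 (cf φ x)

lemma mem_lead_index {α β n : ℕ} (hα : 0 < α) (hβ : 0 < β) {x : ℕ × ℕ} (hx : α * x.1 + β * x.2 = n) :
    x ∈ ((Finset.range (n + 1) ×ˢ Finset.range (n + 1)).filter fun x : ℕ × ℕ => α * x.1 + β * x.2 = n) := by
  rw [Finset.mem_filter, Finset.mem_product, Finset.mem_range, Finset.mem_range]
  have h1 : x.1 ≤ α * x.1 := Nat.le_mul_of_pos_left _ hα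
  have h2 : x.2 ≤ β * x.2 := Nat.le_mul_of_pos_left _ hβ
  exact ⟨⟨by omega, by omega⟩, hx⟩

lemma coeff_lead (φ : MvPowerSeries (Fin 2) k) {α β n : ℕ} (hα : 0 < α) (hβ : 0 < β) {x : ℕ × ℕ}
    (hx : α * x.1 + β * x.2 = n) : (lead φ α β n).coeff x.1 = cf φ x := by
  rw [lead, Polynomial.finsetSum_coeff, Finset.sum_eq_single x]
  · rw [Polynomial.coeff_monomial, if_pos rfl]
  · intro y hy hyx
    rw [Polynomial.coeff_monomial, if_neg]
    intro he
    apply hyx
    have h1 := (Finset.mem_filter.1 hy).2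
    have h2 : β * y.2 = β * x.2 := by rw [← hx, he] at h1; omega
    exact Prod.ext he (Nat.eq_of_mul_eq_mul_left hβ h2)
  · intro hx'
    exact absurd (mem_lead_index hα hβ hx) hx'

lemma coeff_lead_eq_zero (φ : MvPowerSeries (Fin 2) k) {α β n : ℕ} {i : ℕ}
    (hi : ∀ j, α * i + β * j = n → cf φ (i, j) = 0) : (lead φ α β n).coeff i = 0 := by
  rw [lead, Polynomial.finsetSum_coeff]
  apply Finset.sum_eq_zero
  intro y hy
  rw [Polynomial.coeff_monomial]
  split_ifs with he
  · subst he
    exact hi y.2 (Finset.mem_filter.1 hy).2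
  · rfl

lemma coeff_tgt_prod (u : L) (α β : ℕ) (d : Fin 2 →₀ ℕ) (n : ℕ) :
    coeff (Finsupp.single () n) (d.prod fun s e => (tgt u α β s) ^ e) =
      if α * d 0 + β * d 1 = n then u ^ d 0 else 0 := by
  have h1 : (d.prod fun s e => (tgt u α β s) ^ e) =
      PowerSeries.C (u ^ d 0) * PowerSeries.X ^ (α * d 0 + β * d 1) := by
    rw [Finsupp.prod_fintype _ _ (fun _ => pow_zero _), Fin.prod_univ_two]
    change (PowerSeries.C u * PowerSeries.X ^ α) ^ d 0 * (PowerSeries.X ^ β) ^ d 1 = _
    rw [mul_pow, ← map_pow, mul_assoc, ← pow_mul, ← pow_mul, ← pow_add]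
  rw [h1]
  change PowerSeries.coeff n (PowerSeries.C (u ^ d 0) * PowerSeries.X ^ (α * d 0 + β * d 1)) = _
  rw [PowerSeries.coeff_C_mul, PowerSeries.coeff_X_pow]
  by_cases h : α * d 0 + β * d 1 = n
  · rw [if_pos h.symm, if_pos h, mul_one]
  · rw [if_neg (Ne.symm h), if_neg h, mul_zero]

/-- The coefficients of the weighted substitution. -/
theorem coeff_sub (u : L) {α β : ℕ} (hα : 0 < α) (hβ : 0 < β) (φ : MvPowerSeries (Fin 2) k) (n : ℕ) :
    PowerSeries.coeff n (sub k u hα hβ φ) = Polynomial.aeval u (lead φ α β n) := by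
  have h1 : PowerSeries.coeff n (sub k u hα hβ φ) =
      coeff (Finsupp.single () n) (subst (tgt u α β) φ) := by
    rw [sub, substAlgHom_apply]; rfl
  rw [h1, coeff_subst (hasSubst_tgt u hα hβ)]
  simp only [coeff_tgt_prod]
  let F : Finset (ℕ × ℕ) := (Finset.range (n + 1) ×ˢ Finset.range (n + 1)).filter
    fun x : ℕ × ℕ => α * x.1 + β * x.2 = n
  rw [finsum_eq_sum_of_support_subset (s := F.map ⟨idx, idx_injective⟩)]
  · rw [Finset.sum_map, lead, map_sum]
    apply Finset.sum_congr rfl
    intro x hx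
    have hx' := (Finset.mem_filter.1 hx).2
    simp only [Function.Embedding.coeFn_mk, idx_zero, idx_one]
    rw [if_pos hx', Polynomial.aeval_monomial, Algebra.smul_def]
  · intro d hd
    rw [Function.mem_support] at hd
    rw [Finset.coe_map, Set.mem_image]
    have h3 : α * d 0 + β * d 1 = n := by
      by_contra hcon
      rw [if_neg hcon, smul_zero] at hd
      exact hd rfl
    exact ⟨(d 0, d 1), mem_lead_index hα hβ h3, idx_surj d⟩

/-- The weighted substitution is injective for a transcendental `u`. -/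
theorem sub_injective {u : L} (hu : Transcendental k u) {α β : ℕ} (hα : 0 < α) (hβ : 0 < β) :
    Function.Injective (sub k u hα hβ) := by
  rw [injective_iff_map_eq_zero]
  intro φ hφ
  apply ext_cf
  intro x
  have h1 := coeff_sub u hα hβ φ (α * x.1 + β * x.2)
  rw [hφ, map_zero] at h1
  have h2 : lead φ α β (α * x.1 + β * x.2) = 0 := by
    by_contra hne
    exact hu ⟨_, hne, h1.symm⟩
  have h3 := coeff_lead φ hα hβ (x := x) rfl
  rw [h2, Polynomial.coeff_zero] at h3
  rw [← h3]
  exact (map_zero _).symm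

/-- The weighted substitution sends the variables to the maximal ideal. -/
theorem constantCoeff_sub (u : L) {α β : ℕ} (hα : 0 < α) (hβ : 0 < β) (φ : MvPowerSeries (Fin 2) k) :
    PowerSeries.constantCoeff (sub k u hα hβ φ) = algebraMap k L (constantCoeff φ) := by
  rw [← PowerSeries.coeff_zero_eq_constantCoeff_apply, coeff_sub]
  have h1 : lead φ α β 0 = Polynomial.C (constantCoeff φ) := by
    ext i
    rw [Polynomial.coeff_C]
    split_ifs with hi
    · subst hi
      have := coeff_lead φ hα hβ (x := (0, 0)) (n := 0) rfl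
      rw [this]
      change coeff (idx (0, 0)) φ = _
      have : idx (0, 0) = 0 := by
        ext i
        fin_cases i <;> rfl
      rw [this, coeff_zero_eq_constantCoeff_apply]
    · apply coeff_lead_eq_zero
      intro j hj
      have : α * i = 0 := by omega
      rcases Nat.mul_eq_zero.1 this with h | h
      · omega
      · exact absurd h hi
  rw [h1, Polynomial.aeval_C]

end K329.SubstWt
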