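import Groth.Agent.Curves.K329.Walk
import Groth.Agent.Curves.K329.SubstWt
import Mathlib.Algebra.Polynomial.Reverse
import Mathlib.Algebra.Polynomial.Div
import Mathlib.RingTheory.Algebraic.Integral
import Mathlib.Tactic.FieldSimp

/-!
# Limits of tuples of power series in two variables

`Lk u φ a q`: some weighted degeneration of the tuple `φ` of power series in `k⟦z,t⟧` is a nonconstant tuple of
polynomials in `u` of degree at most `q` with value `a` at `u = 0`.
-/

set_option autoImplicit false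
universe u v w

namespace K329.Link

open MvPowerSeries K329.SubstWt K329.Walk

variable {k : Type u} [Field k] {L : Type v} [Field L] [Algebra k L] {ι : Type w}

/-- The vectors are proportional (with a nonzero factor). -/
def Prp (a b : ι → k) : Prop := ∃ c : k, c ≠ 0 ∧ b = c • a

lemma Prp.refl (a : ι → k) : Prp a a := ⟨1, one_ne_zero, (one_smul _ _).symm⟩

lemma Prp.symm {a b : ι → k} (h : Prp a b) : Prp b a := by
  obtain ⟨c, hc, rfl⟩ := h
  exact ⟨c⁻¹, inv_ne_zero hc, by rw [smul_smul, inv_mul_cancel₀ hc, one_smul]⟩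

lemma Prp.trans {a b d : ι → k} (h : Prp a b) (h' : Prp b d) : Prp a d := by
  obtain ⟨c, hc, rfl⟩ := h
  obtain ⟨c', hc', rfl⟩ := h'
  exact ⟨c' * c, mul_ne_zero hc' hc, by rw [smul_smul]⟩

/-- A nonconstant weighted limit of `φ` of degree at most `q`, with value `a` at `0`. -/
def Lk (u : L) (φ : ι → MvPowerSeries (Fin 2) k) (a : ι → k) (q : ℕ) : Prop :=
  ∃ (σ : MvPowerSeries (Fin 2) k →ₐ[k] PowerSeries L) (n : ℕ) (h : ι → Polynomial k) (v : L),
    Function.Injective σ ∧
    (∀ f, PowerSeries.constantCoeff (σ f) = algebraMap k L (constantCoeff f)) ∧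
    (∀ l, ∀ m < n, PowerSeries.coeff m (σ (φ l)) = 0) ∧ v ≠ 0 ∧
    (∀ l, PowerSeries.coeff n (σ (φ l)) = v * Polynomial.aeval u (h l)) ∧
    (∀ l, (h l).natDegree ≤ q) ∧ Prp a (fun l => (h l).coeff 0) ∧
    ∃ i, (fun l => (h l).coeff i) ≠ 0 ∧ ¬ Prp a (fun l => (h l).coeff i)

theorem Lk.mono {u : L} {φ : ι → MvPowerSeries (Fin 2) k} {a : ι → k} {q q' : ℕ} (h : Lk u φ a q) (hq : q ≤ q') :
    Lk u φ a q' := by
  obtain ⟨σ, n, h, v, h1, h2, h3, h4, h5, h6, h7, h8⟩ := h
  exact ⟨σ, n, h, v, h1, h2, h3, h4, h5, fun l => (h6 l).trans hq, h7, h8⟩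

theorem Lk.prp {u : L} {φ : ι → MvPowerSeries (Fin 2) k} {a b : ι → k} {q : ℕ} (h : Lk u φ a q) (hab : Prp a b) :
    Lk u φ b q := by
  obtain ⟨σ, n, h, v, h1, h2, h3, h4, h5, h6, h7, i, h8, h9⟩ := h
  exact ⟨σ, n, h, v, h1, h2, h3, h4, h5, h6, hab.symm.trans h7, i, h8, fun h => h9 (hab.trans h)⟩

theorem Lk.comp {u : L} {φ : ι → MvPowerSeries (Fin 2) k} {a : ι → k} {q : ℕ}
    (τ : MvPowerSeries (Fin 2) k →ₐ[k] MvPowerSeries (Fin 2) k) (hτ : Function.Injective τ)
    (hτ' : ∀ f, constantCoeff (τ f) = constantCoeff f) (h : Lk u (fun l => τ (φ l)) a q) : Lk u φ a q := by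
  obtain ⟨σ, n, h, v, h1, h2, h3, h4, h5, h6, h7, h8⟩ := h
  refine ⟨σ.comp τ, n, h, v, h1.comp hτ, fun f => ?_, h3, h4, h5, h6, h7, h8⟩
  rw [AlgHom.comp_apply, h2, hτ']

/-- The vector of coefficients. -/
noncomputable def cv (φ : ι → MvPowerSeries (Fin 2) k) (x : ℕ × ℕ) : ι → k := fun l => cf (φ l) x

/-- The support of a tuple. -/
def supp (φ : ι → MvPowerSeries (Fin 2) k) : Set (ℕ × ℕ) := {x | cv φ x ≠ 0}

lemma cf_eq_zero_of_notMem {φ : ι → MvPowerSeries (Fin 2) k} {x : ℕ × ℕ} (hx : x ∉ supp φ) (l : ι) :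
    cf (φ l) x = 0 := by
  have : cv φ x = 0 := by
    by_contra h
    exact hx h
  exact congrFun this l

lemma lead_eq_zero_of_lt {φ : ι → MvPowerSeries (Fin 2) k} {α β n m : ℕ}
    (hsup : ∀ z ∈ supp φ, n ≤ α * z.1 + β * z.2) (hm : m < n) (l : ι) : lead (φ l) α β m = 0 := by
  ext i
  rw [Polynomial.coeff_zero]
  apply coeff_lead_eq_zero
  intro j hj
  apply cf_eq_zero_of_notMem
  intro hmem
  have := hsup _ hmem
  change n ≤ α * i + β * j at this
  omega

/-- An edge starting in a point with coefficient vector `a` and ending in a point with another one. -/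
theorem lk_of_edge_left {u : L} (hu : Transcendental k u) (φ : ι → MvPowerSeries (Fin 2) k) (a : ι → k)
    {x y : ℕ × ℕ} {α β q : ℕ} (he : EdgeAt (supp φ) α β x y) (hx : Prp a (cv φ x)) (hy : ¬ Prp a (cv φ y))
    (hq : y.1 ≤ q) : Lk u φ a q := by
  obtain ⟨hxS, hyS, hα, hβ, heq, hsup, hline⟩ := he
  have hu0 : u ≠ 0 := fun h => hu (h ▸ isAlgebraic_zero)
  let g : ι → Polynomial k := fun l => lead (φ l) α β (α * x.1 + β * x.2)
  have hg0 : ∀ l, ∀ i < x.1, (g l).coeff i = 0 := by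
    intro l i hi
    apply coeff_lead_eq_zero
    intro j hj
    apply cf_eq_zero_of_notMem
    intro hmem
    have := (hline (i, j) hmem hj).1
    change x.1 ≤ i at this
    omega
  have hg1 : ∀ l, ∀ i, y.1 < i → (g l).coeff i = 0 := by
    intro l i hi
    apply coeff_lead_eq_zero
    intro j hj
    apply cf_eq_zero_of_notMem
    intro hmem
    have := (hline (i, j) hmem hj).2
    change i ≤ y.1 at this
    omega
  -- divide by `X ^ x.1`
  have hdvd : ∀ l, ∃ h : Polynomial k, g l = Polynomial.X ^ x.1 * h := fun l =>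
    Polynomial.X_pow_dvd_iff.2 (hg0 l)
  choose h hh using hdvd
  have hcoeff : ∀ l i, (h l).coeff i = (g l).coeff (i + x.1) := by
    intro l i
    rw [hh l, Polynomial.coeff_X_pow_mul]
  have hxy : x.1 ≤ y.1 := (hline x hxS rfl).2
  refine ⟨sub k u hα hβ, α * x.1 + β * x.2, h, u ^ x.1, sub_injective hu hα hβ,
    constantCoeff_sub u hα hβ, ?_, pow_ne_zero _ hu0, ?_, ?_, ?_, ?_⟩
  · intro l m hm
    rw [coeff_sub, lead_eq_zero_of_lt hsup hm, map_zero]
  · intro l
    rw [coeff_sub]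
    change Polynomial.aeval u (g l) = _
    rw [hh l, map_mul, map_pow, Polynomial.aeval_X]
  · intro l
    rw [Polynomial.natDegree_le_iff_coeff_eq_zero]
    intro i hi
    rw [hcoeff]
    exact hg1 l _ (by omega)
  · have : (fun l => (h l).coeff 0) = cv φ x := by
      funext l
      rw [hcoeff, zero_add]
      exact coeff_lead (φ l) hα hβ rfl
    rw [this]
    exact hx
  · refine ⟨y.1 - x.1, ?_⟩
    have : (fun l => (h l).coeff (y.1 - x.1)) = cv φ y := by
      funext l
      rw [hcoeff, Nat.sub_add_cancel hxy]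
      exact coeff_lead (φ l) hα hβ heq
    rw [this]
    exact ⟨hyS, hy⟩

/-- An edge ending in a point with coefficient vector `a` and starting in a point with another one. -/
theorem lk_of_edge_right {u : L} (hu : Transcendental k u) (φ : ι → MvPowerSeries (Fin 2) k) (a : ι → k)
    {x y : ℕ × ℕ} {α β q : ℕ} (he : EdgeAt (supp φ) α β x y) (hy : Prp a (cv φ y)) (hx : ¬ Prp a (cv φ x))
    (hq : y.1 ≤ q) : Lk u φ a q := by
  obtain ⟨hxS, hyS, hα, hβ, heq, hsup, hline⟩ := he
  have hu0 : u ≠ 0 := fun h => hu (h ▸ isAlgebraic_zero)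
  have hu' : Transcendental k u⁻¹ := fun h => hu (IsAlgebraic.inv_iff.1 h)
  let g : ι → Polynomial k := fun l => lead (φ l) α β (α * x.1 + β * x.2)
  have hg1 : ∀ l, (g l).natDegree ≤ y.1 := by
    intro l
    rw [Polynomial.natDegree_le_iff_coeff_eq_zero]
    intro i hi
    apply coeff_lead_eq_zero
    intro j hj
    apply cf_eq_zero_of_notMem
    intro hmem
    have := (hline (i, j) hmem hj).2
    change i ≤ y.1 at this
    omega
  let h : ι → Polynomial k := fun l => Polynomial.reflect y.1 (g l)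
  have hcoeff : ∀ l i, i ≤ y.1 → (h l).coeff i = (g l).coeff (y.1 - i) := by
    intro l i hi
    change (Polynomial.reflect y.1 (g l)).coeff i = _
    rw [Polynomial.coeff_reflect, Polynomial.revAt_le hi]
  have hxy : x.1 ≤ y.1 := (hline x hxS rfl).2
  refine ⟨sub k u⁻¹ hα hβ, α * x.1 + β * x.2, h, u⁻¹ ^ y.1, sub_injective hu' hα hβ,
    constantCoeff_sub _ hα hβ, ?_, pow_ne_zero _ (inv_ne_zero hu0), ?_, ?_, ?_, ?_⟩
  · intro l m hm
    rw [coeff_sub, lead_eq_zero_of_lt hsup hm, map_zero]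
  · intro l
    rw [coeff_sub]
    change Polynomial.aeval u⁻¹ (g l) = _ * Polynomial.aeval u (Polynomial.reflect y.1 (g l))
    rw [Polynomial.aeval_def, Polynomial.aeval_def]
    have : Invertible u⁻¹ := ⟨u, mul_inv_cancel₀ hu0, inv_mul_cancel₀ hu0⟩
    have h1 := Polynomial.eval₂_reflect_mul_pow (algebraMap k L) u⁻¹ y.1 (g l) (hg1 l)
    have h2 : (⅟ (u⁻¹) : L) = u := by
      rw [invOf_eq_inv, inv_inv]
    rw [h2] at h1
    rw [← h1, mul_comm]
  · intro l
    rw [Polynomial.natDegree_le_iff_coeff_eq_zero]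
    intro i hi
    change (Polynomial.reflect y.1 (g l)).coeff i = 0
    rw [Polynomial.coeff_reflect, Polynomial.revAt_eq_self_of_lt (by omega)]
    exact Polynomial.coeff_eq_zero_of_natDegree_lt (lt_of_le_of_lt (hg1 l) (by omega))
  · have : (fun l => (h l).coeff 0) = cv φ y := by
      funext l
      rw [hcoeff l 0 (Nat.zero_le _), Nat.sub_zero]
      exact coeff_lead (φ l) hα hβ heq
    rw [this]
    exact hy
  · refine ⟨y.1 - x.1, ?_⟩
    have : (fun l => (h l).coeff (y.1 - x.1)) = cv φ x := by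
      funext l
      rw [hcoeff l _ (Nat.sub_le _ _), Nat.sub_sub_self hxy]
      exact coeff_lead (φ l) hα hβ rfl
    rw [this]
    exact ⟨hxS, hx⟩

/-- From the left: `a` is the limit along `z = 0`, `b` the limit along `t = 0`. -/
theorem lk_left {u : L} (hu : Transcendental k u) (φ : ι → MvPowerSeries (Fin 2) k) {a b : ι → k} {p q : ℕ}
    (ha : a ≠ 0) (hb : b ≠ 0) (hp : cv φ (0, p) = a) (hp' : ∀ j < p, cv φ (0, j) = 0)
    (hq : cv φ (q, 0) = b) (hq' : ∀ i < q, cv φ (i, 0) = 0) (hab : ¬ Prp a b) : Lk u φ a q := by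
  obtain ⟨x, y, α, β, he, hx, hy, hyq⟩ := exists_edge (supp φ) p q (by rw [supp, Set.mem_ofPred_eq, hp]; exact ha)
    (fun j hj => by
      by_contra hcon
      exact hj (hp' j (by omega)))
    (by rw [supp, Set.mem_ofPred_eq, hq]; exact hb)
    (fun i hi => by
      by_contra hcon
      exact hi (hq' i (by omega)))
    (fun z => Prp a (cv φ z)) (by rw [hp]; exact Prp.refl a) (by rw [hq]; exact hab)
  exact lk_of_edge_left hu φ a he hx hy hyq

/-- From the right: `a` is the limit along `z = 0`, `b` the limit along `t = 0`. -/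
theorem lk_right {u : L} (hu : Transcendental k u) (φ : ι → MvPowerSeries (Fin 2) k) {a b : ι → k} {p q : ℕ}
    (ha : a ≠ 0) (hb : b ≠ 0) (hp : cv φ (0, p) = a) (hp' : ∀ j < p, cv φ (0, j) = 0)
    (hq : cv φ (q, 0) = b) (hq' : ∀ i < q, cv φ (i, 0) = 0) (hab : ¬ Prp a b) : Lk u φ b q := by
  obtain ⟨x, y, α, β, he, hx, hy, hyq⟩ := exists_edge (supp φ) p q (by rw [supp, Set.mem_ofPred_eq, hp]; exact ha)
    (fun j hj => by
      by_contra hcon
      exact hj (hp' j (by omega)))
    (by rw [supp, Set.mem_ofPred_eq, hq]; exact hb)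
    (fun i hi => by
      by_contra hcon
      exact hi (hq' i (by omega)))
    (fun z => ¬ Prp b (cv φ z)) (by rw [hp]; exact fun h => hab h.symm)
      (by rw [hq]; exact fun h => h (Prp.refl b))
  exact lk_of_edge_right hu φ b he (not_not.1 hy) hx hyq

end K329.Link
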