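import Groth.Agent.Curves.K329.ChartPt
import Groth.Agent.Curves.K329.DotLen

/-!
# The local inequality on a smooth surface
-/

set_option autoImplicit false
universe u v

open CategoryTheory CategoryTheory.Limits AlgebraicGeometry TopologicalSpace IsLocalRing

namespace K329.LocPt

open K329.Plan510 K329.ChartPt K329.DotLen K329.Link Groth.Agent.Divis.CartierBasic Groth.Agent

local notation "Sp" k:max => Spec (CommRingCat.of k)

/-- At a point of a finite closed subscheme a power of the maximal ideal is contained in the ideal. -/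
lemma exists_pow_le {S : Scheme.{u}} [IsLocallyNoetherian S] (I : S.IdealSheafData)
    (hI : ∀ y ∈ I.support, IsClosed ({y} : Set S)) (x : S) :
    ∃ n, maximalIdeal (S.presheaf.stalk x) ^ n ≤ stalkIdeal I x := by
  apply Ideal.exists_pow_le_of_le_radical_of_fg
  · rw [Ideal.radical_eq_sInf]
    refine le_sInf fun q hq => ?_
    have hq' : q.IsPrime := hq.2
    let Q : PrimeSpectrum (S.presheaf.stalk x) := ⟨q, hq'⟩
    have h1 : S.fromSpecStalk x Q ∈ I.support := (fromSpecStalk_mem_support_iff _ x Q).2 hq.1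
    have h2 := hI _ h1
    have h3 : S.fromSpecStalk x Q ⤳ x := by
      have h := Set.mem_range_self (f := S.fromSpecStalk x) Q
      rwa [Scheme.range_fromSpecStalk] at h
    have h4 : x = S.fromSpecStalk x Q := by
      have h5 := h3.mem_closure
      rw [h2.closure_eq] at h5
      exact h5
    have h6 : S.fromSpecStalk x Q = S.fromSpecStalk x (IsLocalRing.closedPoint (S.presheaf.stalk x)) := by
      rw [Scheme.fromSpecStalk_closedPoint]
      exact h4.symm
    have h7 : Q = IsLocalRing.closedPoint (S.presheaf.stalk x) :=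
      (S.fromSpecStalk x).isEmbedding.injective h6
    have h8 : q = maximalIdeal (S.presheaf.stalk x) := congrArg PrimeSpectrum.asIdeal h7
    exact h8.ge
  · exact IsNoetherian.noetherian _

variable {k : Type u} [Field k] [IsAlgClosed k] {S : Scheme.{u}} (s : S ⟶ Sp k) [LocallyOfFiniteType s]
  {N : ℕ} {x : S} (hx : IsClosed ({x} : Set S)) [IsRegularLocalRing (S.presheaf.stalk x)]
  (hd : ringKrullDim (S.presheaf.stalk x) = 2)
  (z t : S.presheaf.stalk x) (hm : maximalIdeal (S.presheaf.stalk x) = Ideal.span {z, t})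
  (φ : Fin (N + 1) → S.presheaf.stalk x) (a : Fin (N + 1) → k)
  (hprop : ∀ l j, sig s x (a j) * φ l - sig s x (a l) * φ j ∈ Ideal.span {z})
  (c d : Fin (N + 1) → k) (hc : ∑ l, c l * a l ≠ 0) (hfz : ∑ l, sig s x (c l) * φ l ∉ Ideal.span {z})
  {D E Θ : S.IdealSheafData} (hD : stalkIdeal D x = Ideal.span {∑ l, sig s x (c l) * φ l})
  (hE : stalkIdeal E x = Ideal.span {∑ l, sig s x (d l) * φ l}) (hΘ : stalkIdeal Θ x = Ideal.span {z})
  (hn : ∃ n, maximalIdeal (S.presheaf.stalk x) ^ n ≤ stalkIdeal (D ⊔ E) x)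
  (hn2 : ∃ n, maximalIdeal (S.presheaf.stalk x) ^ n ≤ stalkIdeal (D ⊔ Θ) x)

omit [IsAlgClosed k] [LocallyOfFiniteType s] [IsRegularLocalRing (S.presheaf.stalk x)] in
include hD hE hn in
lemma pow_mem (r : S.presheaf.stalk x) (hr : r ∈ maximalIdeal (S.presheaf.stalk x)) :
    ∃ n, r ^ n ∈ Ideal.span (Set.range φ) := by
  obtain ⟨n, hn⟩ := hn
  refine ⟨n, ?_⟩
  have h1 := hn (Ideal.pow_mem_pow hr n)
  have h2 : stalkIdeal (D ⊔ E) x ≤ Ideal.span (Set.range φ) := by
    have h3 : ∀ c : Fin (N + 1) → k, ∑ l, sig s x (c l) * φ l ∈ Ideal.span (Set.range φ) := fun c =>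
      Ideal.sum_mem _ fun l _ => Ideal.mul_mem_left _ _ (Ideal.subset_span ⟨l, rfl⟩)
    rw [stalkIdeal_sup, hD, hE, sup_le_iff, Ideal.span_singleton_le_iff_mem, Ideal.span_singleton_le_iff_mem]
    exact ⟨h3 c, h3 d⟩
  exact h2 h1

include hx hd hm hprop hc hfz hD hE hΘ hn hn2 in
/-- **The local inequality.** -/
theorem len_ineq (δ : ℕ)
    (hδ : letI := alg s x
      ∀ (θ : S.presheaf.stalk x →ₐ[k] MvPowerSeries (Fin 2) k) (q : ℕ),
        Lk (RatFunc.X : RatFunc k) (fun l => θ (φ l)) a q → δ ≤ q) :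
    δ * len (D ⊔ Θ) x ≤ len (D ⊔ E) x := by
  let _ := alg s x
  obtain ⟨θ, hz, ht⟩ := exists_chart s hx z t hm hd
  have hres := exists_sub_mem s hx
  have hmz : z ∈ maximalIdeal (S.presheaf.stalk x) := by rw [hm]; exact Ideal.subset_span (by simp)
  have hmt : t ∈ maximalIdeal (S.presheaf.stalk x) := by rw [hm]; exact Ideal.subset_span (by simp)
  have hprim := pow_mem s φ c d hD hE hn t hmt
  have hsm : ∀ (e : k) (y : S.presheaf.stalk x), e • y = sig s x e * y := fun e y => Algebra.smul_def e y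
  have e1 : stalkIdeal (D ⊔ E) x = Ideal.span {∑ l, c l • φ l, ∑ l, d l • φ l} := by
    rw [stalkIdeal_sup, hD, hE, ← Ideal.span_union, Set.singleton_union]
    simp only [hsm]
  have e2 : stalkIdeal (D ⊔ Θ) x = Ideal.span {z, ∑ l, c l • φ l} := by
    rw [stalkIdeal_sup, hD, hΘ, sup_comm, ← Ideal.span_union, Set.singleton_union]
    simp only [hsm]
  obtain ⟨n, hn'⟩ := hn
  have hfin : Module.Finite k (S.presheaf.stalk x ⧸ stalkIdeal (D ⊔ E) x) := finite_quot hm hres _ n hn'
  have h1 : Module.finrank k (S.presheaf.stalk x ⧸ stalkIdeal (D ⊔ E) x) = len (D ⊔ E) x := (toNat_length _).symm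
  rw [e1] at hfin h1
  have h2 := LocIneq.local_ineq θ z t hz ht hm φ a (by
      intro l j
      rw [hsm, hsm]
      exact hprop l j) c hc (by simp only [hsm]; exact hfz) RatFunc.transcendental_X hres hprim d δ (hδ θ)
  obtain ⟨n', hn2'⟩ := hn2
  have hfin2 : Module.Finite k (S.presheaf.stalk x ⧸ stalkIdeal (D ⊔ Θ) x) := finite_quot hm hres _ n' hn2'
  have h3 : Module.finrank k (S.presheaf.stalk x ⧸ stalkIdeal (D ⊔ Θ) x) = len (D ⊔ Θ) x := (toNat_length _).symm
  rw [e2] at h3
  rw [← h1, ← h3]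
  exact h2

include hx hd hm hprop hc hfz hD hE hn in
/-- At a base point there is a nonconstant limit. -/
theorem exists_lk (hxD : x ∈ D.support) :
    letI := alg s x
    ∃ (θ : S.presheaf.stalk x →ₐ[k] MvPowerSeries (Fin 2) k) (q : ℕ),
        Lk (RatFunc.X : RatFunc k) (fun l => θ (φ l)) a q := by
  let _ := alg s x
  obtain ⟨θ, hz, ht⟩ := exists_chart s hx z t hm hd
  have hmz : z ∈ maximalIdeal (S.presheaf.stalk x) := by rw [hm]; exact Ideal.subset_span (by simp)
  have hmt : t ∈ maximalIdeal (S.presheaf.stalk x) := by rw [hm]; exact Ideal.subset_span (by simp)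
  have hsm : ∀ (e : k) (y : S.presheaf.stalk x), e • y = sig s x e * y := fun e y => Algebra.smul_def e y
  obtain ⟨q, hq⟩ := LocIneq.exists_lk θ z t hz ht hm φ a (by
      intro l j
      rw [hsm, hsm]
      exact hprop l j) c hc (by simp only [hsm]; exact hfz) RatFunc.transcendental_X
      (pow_mem s φ c d hD hE hn t hmt) (pow_mem s φ c d hD hE hn z hmz) (by
        rw [mem_support_iff_stalkIdeal_le, hD, Ideal.span_singleton_le_iff_mem] at hxD
        simp only [hsm]
        exact hxD)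
  exact ⟨θ, q, hq⟩

end K329.LocPt
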