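import Groth.Agent.Curves.K329.ClaimL
import Groth.Agent.Ega4B.Arc
import Mathlib.RingTheory.MvPowerSeries.Equiv

/-!
# The Newton polygon of a tuple without nonconstant limits of small degree

`newton`: let `φ` be a tuple of power series in `z, t` whose limit along `z = 0` is `a`, with `φ(0,t) = a t^α + …`, and
whose entries generate an ideal containing a power of `t`. If every nonconstant weighted limit through `a` has degree
at least `δ`, then the support of `φ` is contained in `i / δ + j / α ≥ 1`.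
-/

set_option autoImplicit false
universe u v w

namespace K329.Newton

open MvPowerSeries IsLocalRing K329.SubstWt K329.Link K329.TwoArcs K329.BlowSub K329.ArcLead K329.ClaimL

variable {k : Type u} [Field k]

/-- An arc in the curve `g = 0` on which `t` does not vanish. -/
theorem exists_arc_on [IsAlgClosed k] (g : MvPowerSeries (Fin 2) k) (h0 : constantCoeff g = 0)
    (hg : ∃ i, cf g (i, 0) ≠ 0) :
    ∃ γ : MvPowerSeries (Fin 2) k →ₐ[k] PowerSeries k, γ g = 0 ∧ γ (X 1) ≠ 0 := by
  let J : Ideal (MvPowerSeries (Fin 2) k) := Ideal.span {g}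
  have hgu : ¬ IsUnit g := by
    rw [MvPowerSeries.isUnit_iff_constantCoeff, h0]
    exact not_isUnit_zero
  have hJ : J ≠ ⊤ := by
    rw [Ne, Ideal.span_singleton_eq_top]
    exact hgu
  have hnt : Nontrivial (MvPowerSeries (Fin 2) k ⧸ J) := Ideal.Quotient.nontrivial_iff.2 hJ
  have hloc : IsLocalRing (MvPowerSeries (Fin 2) k ⧸ J) :=
    IsLocalRing.of_surjective' (Ideal.Quotient.mk J) Ideal.Quotient.mk_surjective
  -- powers of `t` are not multiples of `g`
  have hpow : ∀ n, ¬ g ∣ (X 1 : MvPowerSeries (Fin 2) k) ^ n := by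
    intro n
    induction n with
    | zero =>
      rw [pow_zero]
      exact fun h => hgu (isUnit_of_dvd_one h)
    | succ n ih =>
      rintro ⟨x, hx⟩
      apply ih
      have h1 : pt k g * pt k x = 0 := by
        rw [← map_mul, ← hx, map_pow]
        have h2 : pt k (X 1) = 0 := by
          apply PowerSeries.ext
          intro i
          rw [coeff_pt, map_zero]
          have := cf_monomial (k := k) (0, 1) (i, 0)
          rw [pow_zero, pow_one, one_mul] at this
          rw [this, if_neg]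
          intro h
          exact absurd (congrArg Prod.snd h) (by simp)
        rw [h2, zero_pow (Nat.succ_ne_zero n)]
      have h2 : pt k g ≠ 0 := by
        obtain ⟨i, hi⟩ := hg
        intro h
        apply hi
        rw [← coeff_pt, h, map_zero]
      have h3 : pt k x = 0 := (mul_eq_zero.1 h1).resolve_left h2
      obtain ⟨x', hx'⟩ := exists_eq_mul_X1_pow x 1 (fun i n hn => by
        obtain rfl : n = 0 := by omega
        rw [← coeff_pt, h3, map_zero])
      refine ⟨x', mul_right_cancel₀ X1_ne_zero ?_⟩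
      rw [← pow_succ, hx, hx', pow_one]
      ring
  have halg : Algebra.IsAlgebraic k (ResidueField (MvPowerSeries (Fin 2) k ⧸ J)) := by
    refine ⟨fun z => ?_⟩
    obtain ⟨y, rfl⟩ := residue_surjective z
    obtain ⟨f, rfl⟩ := Ideal.Quotient.mk_surjective y
    have h1 : residue (MvPowerSeries (Fin 2) k ⧸ J) (Ideal.Quotient.mk J f) =
        algebraMap k (ResidueField (MvPowerSeries (Fin 2) k ⧸ J)) (constantCoeff f) := by
      have h2 : residue (MvPowerSeries (Fin 2) k ⧸ J) (Ideal.Quotient.mk J (f - C (constantCoeff f))) = 0 := by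
        rw [residue_eq_zero_iff, mem_maximalIdeal, mem_nonunits_iff]
        intro hu
        have hl : IsLocalHom (Ideal.Quotient.mk J) := IsLocalHom.of_surjective _ Ideal.Quotient.mk_surjective
        have h3 := hl.map_nonunit _ hu
        rw [MvPowerSeries.isUnit_iff_constantCoeff, map_sub, constantCoeff_C, sub_self] at h3
        exact not_isUnit_zero h3
      rw [map_sub, map_sub, sub_eq_zero] at h2
      rw [h2]
      rfl
    rw [h1]
    exact isAlgebraic_algebraMap _
  have hnil : ¬ IsNilpotent (Ideal.Quotient.mk J (X 1)) := by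
    rintro ⟨n, hn⟩
    rw [← map_pow, Ideal.Quotient.eq_zero_iff_mem, Ideal.mem_span_singleton] at hn
    exact hpow n hn
  obtain ⟨γ, hγ, -⟩ := Groth.Agent.Ega4B.Arc.exists_arc k (MvPowerSeries (Fin 2) k ⧸ J) halg k
    (Ideal.Quotient.mk J (X 1)) hnil
  refine ⟨γ.comp (Ideal.Quotient.mkₐ k J), ?_, hγ⟩
  rw [AlgHom.comp_apply, Ideal.Quotient.mkₐ_eq_mk, Ideal.Quotient.eq_zero_iff_mem.2 (Ideal.mem_span_singleton_self g),
    map_zero]

variable {L : Type v} [Field L] [Algebra k L] {ι : Type w}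

theorem newton [IsAlgClosed k] {u : L} (hu : Transcendental k u) (φ : ι → MvPowerSeries (Fin 2) k) (a : ι → k) (α : ℕ)
    (ha : LeadAt (fun l => pz k (φ l)) α a)
    (hprim : ∃ n, (X 1 : MvPowerSeries (Fin 2) k) ^ n ∈ Ideal.span (Set.range φ)) (δ : ℕ)
    (hδ : ∀ q, Lk u φ a q → δ ≤ q) (x : ℕ × ℕ) (hx : x ∈ supp φ) : α * δ ≤ α * x.1 + δ * x.2 := by
  classical
  by_contra hcon
  rw [not_le] at hcon
  have hax : ∀ z ∈ supp φ, z.2 < α → 1 ≤ z.1 := by
    intro z hz hzα
    by_contra h
    apply hz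
    funext l
    have h1 := ha.2.2 z.2 hzα l
    rw [coeff_pz] at h1
    have h2 : z = (0, z.2) := Prod.ext (by simp only; omega) rfl
    rw [h2]
    exact h1
  have hx2 : ∀ z : ℕ × ℕ, α * z.1 + δ * z.2 < α * δ → z.2 < α ∧ z.1 < δ := by
    intro z hz
    constructor
    · by_contra h
      have : δ * α ≤ δ * z.2 := Nat.mul_le_mul_left _ (by omega)
      nlinarith
    · by_contra h
      have : α * δ ≤ α * z.1 := Nat.mul_le_mul_left _ (by omega)
      omega
  -- the finite set of points below the line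
  let S : Finset (ℕ × ℕ) := (Finset.range δ ×ˢ Finset.range α).filter
    fun z => z ∈ supp φ ∧ α * z.1 + δ * z.2 < α * δ
  have hS : ∀ z, z ∈ S ↔ z ∈ supp φ ∧ α * z.1 + δ * z.2 < α * δ := by
    intro z
    rw [Finset.mem_filter, Finset.mem_product, Finset.mem_range, Finset.mem_range]
    exact ⟨fun h => h.2, fun h => ⟨⟨(hx2 z h.2).2, (hx2 z h.2).1⟩, h⟩⟩
  have hSne : S.Nonempty := ⟨x, (hS x).2 ⟨hx, hcon⟩⟩
  obtain ⟨y, hyS, hmax⟩ := Finset.exists_max_image S (fun z => ((α : ℚ) - z.2) / z.1) hSne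
  obtain ⟨hy, hyl⟩ := (hS y).1 hyS
  obtain ⟨hyα, hyδ⟩ := hx2 y hyl
  have hy1 : 1 ≤ y.1 := hax y hy hyα
  obtain ⟨A, hA⟩ : ∃ A, α = y.2 + A := ⟨α - y.2, by omega⟩
  have hA0 : 0 < A := by omega
  have hB0 : 0 < y.1 := hy1
  have hAB : α * y.1 < δ * A := by
    have : α * δ = δ * y.2 + δ * A := by rw [hA]; ring
    omega
  have hsup : ∀ z ∈ supp φ, y.1 * α ≤ A * z.1 + y.1 * z.2 := by
    intro z hz
    rcases le_or_gt α z.2 with h | h
    · have : y.1 * α ≤ y.1 * z.2 := Nat.mul_le_mul_left _ h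
      omega
    · have hz1 := hax z hz h
      by_cases hzl : α * z.1 + δ * z.2 < α * δ
      · have h1 := hmax z ((hS z).2 ⟨hz, hzl⟩)
        have hz1' : (0 : ℚ) < z.1 := by exact_mod_cast hz1
        have hy1' : (0 : ℚ) < y.1 := by exact_mod_cast hy1
        rw [div_le_div_iff₀ hz1' hy1'] at h1
        have h2 : (α : ℚ) = y.2 + A := by exact_mod_cast hA
        have h3 : ((y.1 * α : ℕ) : ℚ) ≤ ((A * z.1 + y.1 * z.2 : ℕ) : ℚ) := by
          push_cast
          nlinarith
        exact_mod_cast h3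
      · rw [not_lt] at hzl
        -- δ (α - z.2) ≤ α z.1
        obtain ⟨r, hr⟩ : ∃ r, α = z.2 + r := ⟨α - z.2, by omega⟩
        have h1 : δ * r ≤ α * z.1 := by
          have : α * δ = δ * z.2 + δ * r := by
            nth_rewrite 1 [hr]
            ring
          omega
        have h2 : y.1 * α = y.1 * z.2 + y.1 * r := by
          nth_rewrite 1 [hr]
          ring
        have h3 : y.1 * r ≤ A * z.1 := by
          by_contra hc
          rw [not_le] at hc
          have hδ0 : 0 < δ := by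
            rcases Nat.eq_zero_or_pos δ with h | h
            · rw [h] at hAB
              omega
            · exact h
          have h4 : δ * (A * z.1) < δ * (y.1 * r) := Nat.mul_lt_mul_of_pos_left hc hδ0
          have h5 : y.1 * (δ * r) ≤ y.1 * (α * z.1) := Nat.mul_le_mul_left _ h1
          have h6 : (α * y.1) * z.1 ≤ (δ * A) * z.1 := Nat.mul_le_mul_right _ hAB.le
          nlinarith
        omega
  have hδ1 : 1 ≤ δ := by omega
  have hline : ∀ z : ℕ × ℕ, A * z.1 + y.1 * z.2 = y.1 * α → z.1 ≤ δ - 1 := by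
    intro z hz
    have h1 : A * z.1 < A * δ := by
      have : A * z.1 ≤ y.1 * α := by omega
      nlinarith
    have := Nat.lt_of_mul_lt_mul_left h1
    omega
  have h0mem : (0, α) ∈ supp φ := by
    intro h
    apply ha.1
    funext l
    rw [← ha.2.1 l, coeff_pz]
    exact congrFun h l
  have hcv0 : cv φ (0, α) = a := by
    funext l
    rw [← ha.2.1 l, coeff_pz]
    rfl
  have hyline : A * y.1 + y.1 * y.2 = y.1 * α := by
    rw [hA]
    ring
  by_cases hall : ∀ z ∈ supp φ, A * z.1 + y.1 * z.2 = y.1 * α → Prp a (cv φ z)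
  · obtain ⟨H, hH0, hH⟩ := exists_H ha.1 hA0 hB0 hall ⟨(0, α), h0mem, by simp⟩
    obtain ⟨l₀, hl₀⟩ : ∃ l, a l ≠ 0 := by
      by_contra hcon
      push Not at hcon
      exact ha.1 (funext hcon)
    have hdeg : H.natDegree ≤ δ - 1 := by
      have h1 := natDegree_lead_le (φ l₀) (A := A) (B := y.1) (n := y.1 * α) (d := δ - 1) (fun i j hij hi => by
        have := hline (i, j) hij
        simp only at this
        omega)
      rwa [hH, Polynomial.natDegree_C_mul hl₀] at h1
    have hHy : H.coeff y.1 ≠ 0 := by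
      intro h
      apply hy
      funext l
      have h1 := coeff_lead (φ l) hA0 hB0 hyline
      rw [hH, Polynomial.coeff_C_mul, h, mul_zero] at h1
      exact h1.symm
    have hHdeg : H.degree ≠ 0 := by
      intro h
      have h1 := Polynomial.natDegree_eq_zero_iff_degree_le_zero.2 h.le
      have h2 := Polynomial.le_natDegree_of_ne_zero hHy
      omega
    obtain ⟨c, hc⟩ := IsAlgClosed.exists_root H hHdeg
    obtain ⟨φ', hφ', hcf⟩ := exists_transform c hA0 hB0 hsup
    obtain ⟨μ, a', hlead, haa', hμ, hμ1, hmem⟩ := exists_exc ha.1 c H hH0 hH φ' hcf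
    have hμ1 := hμ1 hc
    have hsw : ∀ l i, cf (φ' l) (i, 0) = PowerSeries.coeff i (pz k (sw k (φ' l))) := by
      intro l i
      rw [coeff_pz, cf_sw]
    have ha'0 : a' l₀ ≠ 0 := by
      obtain ⟨d, hd, rfl⟩ := haa'
      exact mul_ne_zero hd hl₀
    obtain ⟨γ, hγ0, hγ1⟩ := exists_arc_on (φ' l₀) (by rw [← cf_zero, hsw, hlead.2.2 0 (by omega) l₀])
      ⟨μ, by rw [hsw]; exact (hlead.2.1 l₀).symm ▸ ha'0⟩
    -- the tuple does not vanish on the arc
    obtain ⟨l₁, hl₁⟩ : ∃ l, γ (φ' l) ≠ 0 := by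
      by_contra hcon2
      push Not at hcon2
      obtain ⟨n, hn⟩ := hprim
      have h1 : Ideal.span (Set.range φ) ≤ Ideal.comap (γ.comp (bl k c hA0 hB0)).toRingHom ⊥ := by
        rw [Ideal.span_le]
        rintro _ ⟨l, rfl⟩
        change γ (bl k c hA0 hB0 (φ l)) = 0
        rw [hφ' l, map_mul, hcon2 l, zero_mul]
      have h2 : γ (bl k c hA0 hB0 (X 1 ^ n)) = 0 := h1 hn
      rw [map_pow, bl_X1, map_pow, map_pow] at h2
      exact pow_ne_zero n (pow_ne_zero y.1 hγ1) h2
    obtain ⟨w, b, hb⟩ := exists_leadAt (fun l => γ (φ' l)) hl₁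
    have hab : ¬ Prp a' b := by
      rintro ⟨d, hd, rfl⟩
      have h1 := hb.2.1 l₀
      simp only [hγ0, map_zero] at h1
      exact mul_ne_zero hd ha'0 h1.symm
    obtain ⟨q, hq, hlk⟩ := claimL hu w (fun l => sw k (φ' l)) a' b (γ.comp (sw k))
      (by simp only [AlgHom.comp_apply, sw_sw]; exact hb) hlead.isLead hab (0, μ) hmem
    have h1 := hδ q (by
      refine Lk.prp ?_ haa'.symm
      refine Lk.comp (bl k c hA0 hB0) (bl_injective _ _ _) (constantCoeff_bl _ _ _) ?_
      refine Lk.of_mul (φ' := φ') (X 1 ^ (y.1 * α)) (pow_ne_zero _ X1_ne_zero) (fun l => by rw [hφ' l, mul_comm]) ?_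
      exact Lk.comp (sw k) sw_injective constantCoeff_sw hlk)
    simp only at hq
    omega
  · push Not at hall
    obtain ⟨z, hz, hzl, hza⟩ := hall
    have h1 := hδ (δ - 1) (lk_of_weight hu φ a hA0 hB0 hsup (0, α) (by simp) (by rw [hcv0]; exact Prp.refl a)
      (fun z hz hzl => ⟨Nat.zero_le _, by have := hline z hzl; simp only; omega⟩) z hz hzl hza)
    omega

end K329.Newton
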