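import Groth.Agent.Curves.K329.Core1
import Groth.Agent.Curves.K329.Core5
import Groth.Agent.Curves.K40.ProdSurf
import Groth.Agent.Surf.K464.FibCurve
import Groth.Agent.Surf.K458.Hodge

/-!
# Intersection numbers on a product of two curves
-/

set_option autoImplicit false
universe u

open CategoryTheory CategoryTheory.Limits AlgebraicGeometry TopologicalSpace IsLocalRing

namespace K329.Num510

open Groth.Agent Groth.Agent.Grpsch.PicGrp Groth.Agent.Fga.PicMon K464.Base K464.Curves K464.PtCurve K464.FibCurve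
open K464.DegCurve K458.Ram K458.Ip K329.DotLen Groth.Agent.Dix.IdealModCartier Groth.Agent.Divis.EffCartier

local notation "Sp" k:max => Spec (CommRingCat.of k)

section hodge

variable (k : Type u) [Field k] {X : Scheme.{u}} [X.Over (Sp k)] [IsProper (X ↘ (Sp k))] [IsIntegral X]
  (hd : topologicalKrullDim X ≤ (2 : ℕ))

include hd in
/-- Hodge inequality for an effective divisor and an arbitrary class. -/
theorem hodge_dot {D : X.IdealSheafData} (hD : BlowUp.IsEffCartierIdeal D) {N : X.Modules} (hN : PicF.IsInvertible N)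
    (hpos : 0 < dot k X (ic D hD) (ic D hD)) :
    dot k X (ic D hD) (ic D hD) * dot k X (mk N hN) (mk N hN) ≤ dot k X (ic D hD) (mk N hN) ^ 2 := by
  obtain ⟨M, hM, ⟨e⟩⟩ := Grpsch.PicGrp.exists_inverse (isInvertible_idealMod hD)
  obtain ⟨N', hN', ⟨f⟩⟩ := Grpsch.PicGrp.exists_inverse hN
  have e' : CohB1.tensorMod M (ClSub.idealMod D) ≅ Coh.structureModule X := (Ega2.Tens.swap _ _).trans e
  have f' : CohB1.tensorMod N' N ≅ Coh.structureModule X := (Ega2.Tens.swap _ _).trans f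
  have hs : HasSec M := K458.Hodge.hasSec_inverse hM (by rw [← mc_tensor, ← mc_one]; exact mc_eq e')
  have hs' : Nontrivial (Coh.HH X M 0) := hs
  have hfin : Module.Finite k (Coh.HH X M 0) := VarietyA.CurveFin.finite_HH k X hM 0
  obtain ⟨s, hs⟩ := Fga.HodgeSec.exists_section k (L := M) Module.finrank_pos
  have h1 := Fga.HodgeIneq.hodge_ineq k X hd M (ClSub.idealMod D) N' N hM (isInvertible_idealMod hD) hN'
    hN ⟨e'⟩ ⟨f'⟩ s hs
  rw [intNum_eq_dot k X hd (isInvertible_idealMod hD) (isInvertible_idealMod hD), intNum_eq_dot k X hd hN hN,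
    intNum_eq_dot k X hd (isInvertible_idealMod hD) hN] at h1
  exact h1 hpos

theorem arith (e d h m : ℤ) (he : 0 < e) (hd : 0 ≤ d) (hh : 1 ≤ h)
    (H : ∀ x y : ℕ, 0 < x → 0 < y → 2 * x * y * h * m ≤ (y * e + x * d) ^ 2) : m ≤ 2 * d * e := by
  by_cases hm : m ≤ 0
  · exact hm.trans (by positivity)
  push Not at hm
  rcases hd.eq_or_lt with rfl | hd'
  · exfalso
    have h1 := H (e ^ 2).toNat 1 (by
      have : 0 < e ^ 2 := by positivity
      omega) one_pos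
    have h2 : (((e ^ 2).toNat : ℕ) : ℤ) = e ^ 2 := Int.toNat_of_nonneg (by positivity)
    rw [h2] at h1
    push_cast at h1
    have h3 : 1 ≤ h * m := by
      have := mul_pos (by omega : 0 < h) hm
      omega
    have h4 : 0 < e ^ 2 := by positivity
    nlinarith
  · have h1 := H e.toNat d.toNat (by omega) (by omega)
    have h2 : ((e.toNat : ℕ) : ℤ) = e := Int.toNat_of_nonneg he.le
    have h3 : ((d.toNat : ℕ) : ℤ) = d := Int.toNat_of_nonneg hd'.le
    rw [h2, h3] at h1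
    have h4 : 0 < d * e := mul_pos hd' he
    have h5 : (d * e) * (h * m) ≤ (d * e) * (2 * d * e) := by nlinarith
    have h6 := le_of_mul_le_mul_left h5 h4
    have h7 : m ≤ h * m := by nlinarith
    exact h7.trans h6

include hd in
theorem numeric {Θ Γ : X.IdealSheafData} (hΘ : BlowUp.IsEffCartierIdeal Θ) (hΓ : BlowUp.IsEffCartierIdeal Γ)
    {M : X.Modules} (hM : PicF.IsInvertible M) (h1 : dot k X (ic Θ hΘ) (ic Θ hΘ) = 0)
    (h2 : dot k X (ic Γ hΓ) (ic Γ hΓ) = 0) (h3 : 1 ≤ dot k X (ic Θ hΘ) (ic Γ hΓ)) (e d : ℤ)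
    (he : dot k X (ic Θ hΘ) (mk M hM) = -e) (hd' : dot k X (ic Γ hΓ) (mk M hM) = -d) (hpos : 0 < e) (hd0 : 0 ≤ d) :
    dot k X (mk M hM) (mk M hM) ≤ 2 * d * e := by
  refine arith e d (dot k X (ic Θ hΘ) (ic Γ hΓ)) _ hpos hd0 h3 fun x y hx hy => ?_
  have hD := Divis.EffCartier.isEff_mul (isEff_pow hΘ y) (isEff_pow hΓ x)
  have h4 : ic (Θ ^ y * Γ ^ x) hD = ic Θ hΘ ^ y * ic Γ hΓ ^ x := by
    rw [ic_mul (isEff_pow hΘ y) (isEff_pow hΓ x), ic_pow, ic_pow]
  have h5 : dot k X (ic (Θ ^ y * Γ ^ x) hD) (ic (Θ ^ y * Γ ^ x) hD) =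
      2 * x * y * dot k X (ic Θ hΘ) (ic Γ hΓ) := by
    rw [h4, dot_mul_left k X hd, dot_mul_right k X hd, dot_mul_right k X hd]
    simp only [dot_pow_left k X hd, dot_pow_right k X hd]
    rw [h1, h2, dot_comm k X (ic Γ hΓ) (ic Θ hΘ)]
    ring
  have h6 : dot k X (ic (Θ ^ y * Γ ^ x) hD) (mk M hM) = -(y * e + x * d) := by
    rw [h4, dot_mul_left k X hd, dot_pow_left k X hd, dot_pow_left k X hd, he, hd']
    ring
  have h7 := hodge_dot k hd hD hM (by
    rw [h5]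
    have : (0 : ℤ) < x := by exact_mod_cast hx
    have : (0 : ℤ) < y := by exact_mod_cast hy
    positivity)
  rw [h5, h6] at h7
  linarith [h7, sq_nonneg (((y : ℤ) * e + x * d)), neg_sq ((y : ℤ) * e + x * d)]

end hodge

section prod

variable {k : Type u} [Field k] [IsAlgClosed k] {S C P : Scheme.{u}} [S.Over (Sp k)] [C.Over (Sp k)] [P.Over (Sp k)]
  [IsIntegral S] [IsIntegral C] [IsIntegral P] [Smooth (S ↘ (Sp k))] [Smooth (C ↘ (Sp k))] [Smooth (P ↘ (Sp k))]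
  [IsProper (S ↘ (Sp k))] [IsProper (C ↘ (Sp k))] [IsProper (P ↘ (Sp k))]
  (hdim : topologicalKrullDim S = 2) (hC : topologicalKrullDim C = 1) (hP : topologicalKrullDim P = 1)
  (f₁ : S ⟶ C) (f₂ : S ⟶ P) (hf₁ : f₁ ≫ (C ↘ (Sp k)) = S ↘ (Sp k)) (hf₂ : f₂ ≫ (P ↘ (Sp k)) = S ↘ (Sp k))
  [IsDominant f₁] [IsDominant f₂] [Flat f₁]
  (hcl : ∀ x : S, IsClosed ({f₁ x} : Set C) → IsClosed ({f₂ x} : Set P) → IsClosed ({x} : Set S))
  (hmax : ∀ x : S, IsClosed ({x} : Set S) → ∃ z t, maximalIdeal (S.presheaf.stalk x) = Ideal.span {z, t})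
  (hsurj : ∀ (c : C) (p : P), IsClosed ({c} : Set C) → IsClosed ({p} : Set P) → ∃ x : S, f₁ x = c ∧ f₂ x = p)

include hdim hC hP hf₁ hf₂ hcl hmax hsurj in
theorem main {M : S.Modules} (hM : PicF.IsInvertible M) {c₀ : P} (hc₀ : IsClosed ({c₀} : Set P)) :
    (∀ (b : C) (hb : IsClosed ({b} : Set C)), ∃ hE : BlowUp.IsEffCartierIdeal ((pt hb).comap f₁),
      dot k S (ic _ hE) (mk M hM) = - fd f₁ M) ∧
    (0 < fd f₁ M → 0 ≤ degOn k S ((pt hc₀).comap f₂) (mk M hM) →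
      dot k S (mk M hM) (mk M hM) ≤ 2 * degOn k S ((pt hc₀).comap f₂) (mk M hM) * fd f₁ M) := by
  have hregC : ∀ b : C, IsRegularLocalRing (C.presheaf.stalk b) := fun b => S1535.result k C b
  have hregP : ∀ b : P, IsRegularLocalRing (P.presheaf.stalk b) := fun b => S1535.result k P b
  have hEC : ∀ (b : C) (hb : IsClosed ({b} : Set C)), BlowUp.IsEffCartierIdeal (pt hb) := fun b hb =>
    isEff_pt k (C ↘ (Sp k)) hC hregC hb
  have hEP : ∀ (b : P) (hb : IsClosed ({b} : Set P)), BlowUp.IsEffCartierIdeal (pt hb) := fun b hb =>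
    isEff_pt k (P ↘ (Sp k)) hP hregP hb
  have h1 : ∀ (b : C) (hb : IsClosed ({b} : Set C)), ∃ hE : BlowUp.IsEffCartierIdeal ((pt hb).comap f₁),
      dot k S (ic _ hE) (mk M hM) = - fd f₁ M := by
    intro b hb
    refine ⟨isEff_fibre f₁ hC hb (hEC b hb), ?_⟩
    rw [← pull_ic f₁ (hEC b hb) (isEff_fibre f₁ hC hb (hEC b hb))]
    exact dot_pull_pt k f₁ hf₁ hdim.le hC hb (hEC b hb) hM
  refine ⟨h1, fun he hd => ?_⟩
  have hcC : CompactSpace C := QuasiCompact.compactSpace_of_compactSpace (C ↘ (Sp k))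
  obtain ⟨b, -, hb⟩ := (isClosed_univ (X := C)).exists_closed_singleton Set.univ_nonempty
  obtain ⟨hΘ, h2⟩ := h1 b hb
  have hΓ := isEff_fibre f₂ hP hc₀ (hEP c₀ hc₀)
  have e1 : ic _ hΘ = pull f₁ (ic (pt hb) (hEC b hb)) := (pull_ic f₁ (hEC b hb) hΘ).symm
  have e2 : ic _ hΓ = pull f₂ (ic (pt hc₀) (hEP c₀ hc₀)) := (pull_ic f₂ (hEP c₀ hc₀) hΓ).symm
  have hclΘ : ∀ x : S, x ∈ ((pt hb).comap f₁).support → x ∈ ((pt hc₀).comap f₂).support →
      IsClosed ({x} : Set S) := by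
    intro x hx hx'
    have hx1 := (Core2.mem_support_fib f₁ hb x).1 hx
    have hx2 := (Core2.mem_support_fib f₂ hc₀ x).1 hx'
    exact hcl x (by rw [hx1]; exact hb) (by rw [hx2]; exact hc₀)
  refine numeric k hdim.le hΘ hΓ hM ?_ ?_ ?_ _ _ h2 ?_ he hd
  · rw [e1]; exact dot_pull_pull k f₁ hf₁ hdim.le hC hregC _ _
  · rw [e2]; exact dot_pull_pull k f₂ hf₂ hdim.le hP hregP _ _
  · rw [dot_eq_finsum k hdim hΘ hΓ hclΘ]
    obtain ⟨x, hx1, hx2⟩ := hsurj b c₀ hb hc₀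
    have hx1' := (Core2.mem_support_fib f₁ hb x).2 hx1
    have hx2' := (Core2.mem_support_fib f₂ hc₀ x).2 hx2
    have hN : IsLocallyNoetherian S := LocallyOfFiniteType.isLocallyNoetherian (S ↘ (Sp k))
    have hcp : CompactSpace S := QuasiCompact.compactSpace_of_compactSpace (S ↘ (Sp k))
    have hNS : IsNoetherian S := {}
    have h3 := Core1.len_ne_zero (S ↘ (Sp k)) hclΘ hx1' hx2' (hmax x (hclΘ x hx1' hx2'))
    have h4 := single_le_finsum x (Core1.finite_support_len hclΘ) (fun _ => Nat.zero_le _)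
    exact_mod_cast (Nat.one_le_iff_ne_zero.2 h3).trans h4
  · rw [dot_ic_eq]

end prod

theorem surjective_struct {P : Scheme.{u}} {k : Type u} [Field k] (p : P ⟶ Sp k) [Nonempty P] : Surjective p := by
  refine ⟨fun y => ?_⟩
  obtain ⟨w⟩ := ‹Nonempty P›
  exact ⟨w, Subsingleton.elim _ _⟩

theorem numbers (k : Type u) [Field k] [IsAlgClosed k] : K329.Plan510.Numbers k := by
  intro C P _ _ _ _ _ _ _ _ hC hP t ht
  obtain ⟨hint, hdim, hθ, hmx⟩ := K40.ProdSurf.prodSurf k C P (C ↘ (Sp k)) (P ↘ (Sp k)) hC hP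
  letI : (pullback (C ↘ (Sp k)) (P ↘ (Sp k))).Over (Sp k) :=
    ⟨pullback.fst (C ↘ (Sp k)) (P ↘ (Sp k)) ≫ (C ↘ (Sp k))⟩
  intro M hM
  have hsm : Smooth (pullback (C ↘ (Sp k)) (P ↘ (Sp k)) ↘ (Sp k)) :=
    inferInstanceAs (Smooth (pullback.fst (C ↘ (Sp k)) (P ↘ (Sp k)) ≫ (C ↘ (Sp k))))
  have hpr : IsProper (pullback (C ↘ (Sp k)) (P ↘ (Sp k)) ↘ (Sp k)) :=
    inferInstanceAs (IsProper (pullback.fst (C ↘ (Sp k)) (P ↘ (Sp k)) ≫ (C ↘ (Sp k))))
  have hsC := surjective_struct (C ↘ (Sp k))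
  have hsP := surjective_struct (P ↘ (Sp k))
  have hs₁ : Surjective (pullback.fst (C ↘ (Sp k)) (P ↘ (Sp k))) := inferInstance
  have hs₂ : Surjective (pullback.snd (C ↘ (Sp k)) (P ↘ (Sp k))) := inferInstance
  have hf₂ : pullback.snd (C ↘ (Sp k)) (P ↘ (Sp k)) ≫ (P ↘ (Sp k)) =
      pullback (C ↘ (Sp k)) (P ↘ (Sp k)) ↘ (Sp k) := pullback.condition.symm
  have hcl₀ : IsClosedImmersion t := isClosedImmersion_of_comp_eq_id _ _ ht
  have hc₀ : IsClosed ({t (closedPoint k)} : Set P) := by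
    have h2 : ({t (closedPoint k)} : Set P) = Set.range t := by
      ext x
      constructor
      · rintro rfl; exact ⟨_, rfl⟩
      · rintro ⟨y, rfl⟩
        rw [Set.mem_singleton_iff]
        congr 1
        exact Subsingleton.elim _ _
    rw [h2]
    exact t.isClosedEmbedding.isClosed_range
  obtain ⟨h1, h2⟩ := main (S := pullback (C ↘ (Sp k)) (P ↘ (Sp k))) hdim hC hP
    (pullback.fst (C ↘ (Sp k)) (P ↘ (Sp k))) (pullback.snd (C ↘ (Sp k)) (P ↘ (Sp k))) rfl hf₂ (by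
      intro x hx1 hx2
      by_contra hcon
      have h3 := Core1.ringKrullDim_le_one (pullback (C ↘ (Sp k)) (P ↘ (Sp k)) ↘ (Sp k)) hdim hcon
      obtain ⟨θ, h4, h5, h6, h7⟩ := hθ _ hx1
      obtain ⟨h8, -⟩ := h7 x rfl
      have h9 : θ = x := by
        refine TopSurf.eq_of_specializes h8 ?_ h3
        rintro rfl
        have h10 : IsField ((pullback (C ↘ (Sp k)) (P ↘ (Sp k))).presheaf.stalk
          (genericPoint ↥(pullback (C ↘ (Sp k)) (P ↘ (Sp k))))) :=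
          Field.toIsField (pullback (C ↘ (Sp k)) (P ↘ (Sp k))).functionField
        rw [ringKrullDim_eq_zero_of_isField h10] at h6
        exact absurd h6 (by decide)
      rw [← h9, h5] at hx2
      exact (ne_generic hP hx2) rfl) (by
      intro x hx
      have hx1 : IsClosed ({(pullback.fst (C ↘ (Sp k)) (P ↘ (Sp k))) x} : Set C) := by
        have h1 := (pullback.fst (C ↘ (Sp k)) (P ↘ (Sp k))).isClosedMap _ hx
        rwa [Set.image_singleton] at h1
      have hx2 : IsClosed ({(pullback.snd (C ↘ (Sp k)) (P ↘ (Sp k))) x} : Set P) := by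
        have h1 := (pullback.snd (C ↘ (Sp k)) (P ↘ (Sp k))).isClosedMap _ hx
        rwa [Set.image_singleton] at h1
      obtain ⟨z, hz⟩ := Core5.exists_uniformizer (C ↘ (Sp k)) hC hx1
      obtain ⟨w, hw⟩ := Core5.exists_uniformizer (P ↘ (Sp k)) hP hx2
      exact ⟨_, _, hmx x hx z w hz hw⟩) (by
      intro c p hc hp
      let τ := pointOfClosedPoint (C ↘ (Sp k)) c hc
      let ρ := pointOfClosedPoint (P ↘ (Sp k)) p hp
      have e1 : τ ≫ (C ↘ (Sp k)) = 𝟙 _ := pointOfClosedPoint_comp _ _ _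
      have e2 : ρ ≫ (P ↘ (Sp k)) = 𝟙 _ := pointOfClosedPoint_comp _ _ _
      refine ⟨pullback.lift τ ρ (e1.trans e2.symm) (closedPoint k), ?_, ?_⟩
      · rw [← Scheme.Hom.comp_apply, pullback.lift_fst]
        exact pointOfClosedPoint_apply _ _ _ _
      · rw [← Scheme.Hom.comp_apply, pullback.lift_snd]
        exact pointOfClosedPoint_apply _ _ _ _) hM hc₀
  have hdeg : degOn k (pullback (C ↘ (Sp k)) (P ↘ (Sp k))) ((pt hc₀).comap (pullback.snd (C ↘ (Sp k)) (P ↘ (Sp k))))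
      (mk M hM) = Curv2.deg k C ((Scheme.Modules.pullback
            (pullback.lift (𝟙 C) ((C ↘ (Sp k)) ≫ t) (by simp [ht]))).obj M) 1 := by
    obtain ⟨τ, -, h3, ⟨q, hq⟩, h4⟩ := exists_point k hc₀
    have h5 : τ = t := by
      apply ext_of_apply_closedPoint_eq (P ↘ (Sp k)) h3 ht
      rw [← hq]
      congr 1
      exact Subsingleton.elim _ _
    rw [h5] at h4
    obtain ⟨q', hq'⟩ := exists_isPullback t (pt hc₀) h4 (pullback.snd (C ↘ (Sp k)) (P ↘ (Sp k)))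
    have h6 : IsPullback (pullback.lift (𝟙 C) ((C ↘ (Sp k)) ≫ t) (by simp [ht])) (C ↘ (Sp k))
        (pullback.snd (C ↘ (Sp k)) (P ↘ (Sp k))) t := by
      refine IsPullback.of_right (h₁₂ := pullback.fst (C ↘ (Sp k)) (P ↘ (Sp k))) (v₁₃ := (C ↘ (Sp k)))
        (h₂₂ := (P ↘ (Sp k))) ?_ (pullback.lift_snd _ _ _) (IsPullback.of_hasPullback _ _)
      rw [pullback.lift_fst, ht]
      exact IsPullback.of_horiz_isIso ⟨by simp⟩
    let _ := overC k (pullback (C ↘ (Sp k)) (P ↘ (Sp k))) ((pt hc₀).comap (pullback.snd (C ↘ (Sp k)) (P ↘ (Sp k))))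
    rw [degOn_eq_deg]
    refine (CurvesC.DegIso.deg_restrict k _ _ ?_ rfl (IsPullback.isoIsPullback _ _ h6 hq')
      (IsPullback.isoIsPullback_hom_fst _ _ _ _) M 1).symm
    change pullback.lift _ _ _ ≫ pullback.fst (C ↘ (Sp k)) (P ↘ (Sp k)) ≫ (C ↘ (Sp k)) = _
    rw [pullback.lift_fst_assoc, Category.id_comp]
  rw [hdeg] at h2
  exact ⟨_, h1, h2⟩

end K329.Num510
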