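import Groth.Agent.Curves.K329.TwoArcs
import Mathlib.RingTheory.MvPowerSeries.Order
import Mathlib.RingTheory.MvPowerSeries.NoZeroDivisors
import Mathlib.RingTheory.Localization.Integer

/-!
# Primitive tuples of power series

`exists_primitive`: every nonzero tuple of power series is a multiple of a tuple without common non-invertible
factor. `ker_pz`, `ker_pzt`, `ker_pt`: the kernels of the restrictions to `z = 0`, `z = t`, `t = 0` are principal.
-/

set_option autoImplicit false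
universe u v w

namespace K329.Prim

open MvPowerSeries K329.SubstWt K329.TwoArcs

variable {k : Type u} [Field k] {ι : Type w}

/-- Dividing out common factors. -/
theorem exists_primitive (ψ : ι → MvPowerSeries (Fin 2) k) (i : ι) (hi : ψ i ≠ 0) :
    ∃ (w : MvPowerSeries (Fin 2) k) (φ : ι → MvPowerSeries (Fin 2) k), (∀ l, ψ l = w * φ l) ∧
      ∀ π : MvPowerSeries (Fin 2) k, constantCoeff π = 0 → ¬ ∀ l, π ∣ φ l := by
  induction hn : (ψ i).order.toNat using Nat.strong_induction_on generalizing ψ with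
  | _ n ih =>
    by_cases h : ∀ π : MvPowerSeries (Fin 2) k, constantCoeff π = 0 → ¬ ∀ l, π ∣ ψ l
    · exact ⟨1, ψ, fun l => (one_mul _).symm, h⟩
    · push Not at h
      obtain ⟨π, hπ, hdvd⟩ := h
      choose χ hχ using hdvd
      have h0 : χ i ≠ 0 := fun h0 => hi (by rw [hχ i, h0, mul_zero])
      have h1 : (χ i).order.toNat < n := by
        have h2 : π.order + (χ i).order ≤ (ψ i).order := by rw [hχ i]; exact le_order_mul
        have h3 : 1 ≤ π.order := one_le_order_iff_constCoeff_eq_zero.2 hπ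
        have h4 : ((ψ i).order.toNat : ℕ∞) = (ψ i).order := ne_zero_iff_order_finite.1 hi
        have h5 : ((χ i).order.toNat : ℕ∞) = (χ i).order := ne_zero_iff_order_finite.1 h0
        rw [hn] at h4
        have h6 : ((χ i).order.toNat + 1 : ℕ∞) ≤ n := by
          rw [h5, h4, add_comm]
          exact (add_le_add_left h3 _).trans h2
        exact_mod_cast h6
      obtain ⟨w, φ, hφ, hp⟩ := ih _ h1 χ h0 rfl
      exact ⟨π * w, φ, fun l => by rw [hχ l, hφ l, mul_assoc], hp⟩

lemma dvd_of_pz_eq_zero {f : MvPowerSeries (Fin 2) k} (hf : pz k f = 0) : X 0 ∣ f := by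
  rw [X_dvd_iff]
  intro m hm
  have h := coeff_pz f (m 1)
  rw [hf, map_zero, cf] at h
  rw [h, ← idx_surj m, hm]
  rfl

lemma dvd_of_pt_eq_zero {f : MvPowerSeries (Fin 2) k} (hf : pt k f = 0) : X 1 ∣ f := by
  rw [X_dvd_iff]
  intro m hm
  have h := coeff_pt f (m 0)
  rw [hf, map_zero, cf] at h
  rw [h, ← idx_surj m, hm]
  rfl

lemma dvd_of_pzt_eq_zero {f : MvPowerSeries (Fin 2) k} (hf : pzt k f = 0) : (X 0 - X 1) ∣ f := by
  rw [← pz_shear] at hf
  obtain ⟨g, hg⟩ := dvd_of_pz_eq_zero hf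
  refine ⟨shear' k g, ?_⟩
  have h := congrArg (shear' k) hg
  rw [shear'_shear, map_mul] at h
  rw [h]
  congr 1
  rw [shear', substAlgHom_X (hasSubst_tsh' k)]
  rfl

lemma pz_X0 : pz k (X 0) = 0 := by
  rw [pz, substAlgHom_X (hasSubst_tz k)]
  rfl

lemma pz_X1 : pz k (X 1) = PowerSeries.X := by
  rw [pz, substAlgHom_X (hasSubst_tz k)]
  rfl

lemma pzt_X0 : pzt k (X 0) = PowerSeries.X := by
  rw [pzt, substAlgHom_X (hasSubst_tzt k)]
  rfl

lemma pzt_X1 : pzt k (X 1) = PowerSeries.X := by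
  rw [pzt, substAlgHom_X (hasSubst_tzt k)]
  rfl

/-- An arc with principal kernel. -/
def IsArc (ρ : MvPowerSeries (Fin 2) k →ₐ[k] PowerSeries k) : Prop :=
  ∃ π : MvPowerSeries (Fin 2) k, constantCoeff π = 0 ∧ ρ π = 0 ∧ ∀ f, ρ f = 0 → π ∣ f

lemma isArc_pz : IsArc (pz k) := ⟨X 0, constantCoeff_X _, pz_X0, fun _ => dvd_of_pz_eq_zero⟩

lemma isArc_pzt : IsArc (pzt k) :=
  ⟨X 0 - X 1, by simp, by rw [map_sub, pzt_X0, pzt_X1, sub_self], fun _ => dvd_of_pzt_eq_zero⟩

/-- A tuple without common factor does not vanish along an arc. -/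
lemma exists_ne_zero_of_primitive {ρ : MvPowerSeries (Fin 2) k →ₐ[k] PowerSeries k} (hρ : IsArc ρ)
    {φ : ι → MvPowerSeries (Fin 2) k}
    (hφ : ∀ π : MvPowerSeries (Fin 2) k, constantCoeff π = 0 → ¬ ∀ l, π ∣ φ l) : ∃ l, ρ (φ l) ≠ 0 := by
  obtain ⟨π, h1, -, h2⟩ := hρ
  by_contra hcon
  push Not at hcon
  exact hφ π h1 fun l => h2 _ (hcon l)

lemma exists_pt_ne_zero_of_primitive {φ : ι → MvPowerSeries (Fin 2) k}
    (hφ : ∀ π : MvPowerSeries (Fin 2) k, constantCoeff π = 0 → ¬ ∀ l, π ∣ φ l) : ∃ l, pt k (φ l) ≠ 0 := by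
  by_contra hcon
  push Not at hcon
  exact hφ (X 1) (constantCoeff_X _) fun l => dvd_of_pt_eq_zero (hcon l)

/-- Coordinates over the fraction field can be chosen to be power series without common factor. -/
theorem exists_primitive_of_fraction [Finite ι] {K : Type v} [Field K] [Algebra (MvPowerSeries (Fin 2) k) K]
    [IsFractionRing (MvPowerSeries (Fin 2) k) K] (b : ι → K) (i : ι) (hi : b i ≠ 0) :
    ∃ (v : K) (φ : ι → MvPowerSeries (Fin 2) k), v ≠ 0 ∧
      (∀ l, algebraMap (MvPowerSeries (Fin 2) k) K (φ l) = v * b l) ∧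
      ∀ π : MvPowerSeries (Fin 2) k, constantCoeff π = 0 → ¬ ∀ l, π ∣ φ l := by
  obtain ⟨⟨s, hs⟩, hb⟩ := IsLocalization.exist_integer_multiples_of_finite
    (nonZeroDivisors (MvPowerSeries (Fin 2) k)) b
  choose ψ hψ using hb
  have hs0 : s ≠ 0 := nonZeroDivisors.ne_zero hs
  have hinj : Function.Injective (algebraMap (MvPowerSeries (Fin 2) k) K) := IsFractionRing.injective _ K
  have hs1 : algebraMap (MvPowerSeries (Fin 2) k) K s ≠ 0 := fun h => hs0 (hinj (by rw [h, map_zero]))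
  have hψ' : ∀ l, algebraMap (MvPowerSeries (Fin 2) k) K (ψ l) = algebraMap _ K s * b l := by
    intro l
    rw [hψ l]
    exact Algebra.smul_def _ _
  have hi' : ψ i ≠ 0 := by
    intro h0
    have h1 := hψ' i
    rw [h0, map_zero] at h1
    exact mul_ne_zero hs1 hi h1.symm
  obtain ⟨w, φ, hw, hp⟩ := exists_primitive ψ i hi'
  have hw0 : w ≠ 0 := by
    rintro rfl
    exact hi' (by rw [hw i, zero_mul])
  have hw1 : algebraMap (MvPowerSeries (Fin 2) k) K w ≠ 0 := fun h => hw0 (hinj (by rw [h, map_zero]))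
  refine ⟨algebraMap _ K s / algebraMap _ K w, φ, div_ne_zero hs1 hw1, fun l => ?_, hp⟩
  have h1 := hψ' l
  rw [hw l, map_mul] at h1
  field_simp
  linear_combination h1

/-- Reduced fractions with respect to an arc. -/
theorem exists_reduced {K : Type v} [Field K] [Algebra (MvPowerSeries (Fin 2) k) K]
    [IsFractionRing (MvPowerSeries (Fin 2) k) K] (v : K) :
    ∃ p q : MvPowerSeries (Fin 2) k, algebraMap _ K q * v = algebraMap _ K p ∧
      (∀ π : MvPowerSeries (Fin 2) k, constantCoeff π = 0 → ¬ (π ∣ p ∧ π ∣ q)) := by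
  obtain ⟨w, φ, hw, hφ, hp⟩ := exists_primitive_of_fraction (k := k) (![1, v] : Fin 2 → K) 0 one_ne_zero
  refine ⟨φ 1, φ 0, ?_, fun π hπ h => hp π hπ fun l => ?_⟩
  · rw [hφ 0, hφ 1]
    simp
  · fin_cases l
    · exact h.2
    · exact h.1

end K329.Prim
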