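import Groth.Agent.Curves.K329.Link

/-!
# Two arcs with different limits

`arcs`: the arcs `z = 0` (`pz`), `t = 0` (`pt`) and the shear `z ↦ z + t` (`shear`). `lk_of_two_arcs`: if a tuple of
power series has different limits along `z = 0` and `z = t`, then it has a nonconstant weighted limit through the first
of them.
-/

set_option autoImplicit false
universe u v w

namespace K329.TwoArcs

open MvPowerSeries K329.SubstWt K329.Walk K329.Link

variable (k : Type u) [Field k]

noncomputable section

def tz : Fin 2 → MvPowerSeries Unit k := ![0, PowerSeries.X]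
def tt : Fin 2 → MvPowerSeries Unit k := ![PowerSeries.X, 0]
def tzt : Fin 2 → MvPowerSeries Unit k := ![PowerSeries.X, PowerSeries.X]
def tsh : Fin 2 → MvPowerSeries (Fin 2) k := ![X 0 + X 1, X 1]
def tsh' : Fin 2 → MvPowerSeries (Fin 2) k := ![X 0 - X 1, X 1]

lemma hasSubst_tz : HasSubst (tz k) := by
  apply hasSubst_of_constantCoeff_zero
  intro s
  fin_cases s
  · exact map_zero (PowerSeries.constantCoeff (R := k))
  · exact PowerSeries.constantCoeff_X

lemma hasSubst_tt : HasSubst (tt k) := by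
  apply hasSubst_of_constantCoeff_zero
  intro s
  fin_cases s
  · exact PowerSeries.constantCoeff_X
  · exact map_zero (PowerSeries.constantCoeff (R := k))

lemma hasSubst_tzt : HasSubst (tzt k) := by
  apply hasSubst_of_constantCoeff_zero
  intro s
  fin_cases s
  · exact PowerSeries.constantCoeff_X
  · exact PowerSeries.constantCoeff_X

lemma hasSubst_tsh : HasSubst (tsh k) := by
  apply hasSubst_of_constantCoeff_zero
  intro s
  fin_cases s
  · change constantCoeff (X 0 + X 1 : MvPowerSeries (Fin 2) k) = 0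
    simp
  · change constantCoeff (X 1 : MvPowerSeries (Fin 2) k) = 0
    simp

lemma hasSubst_tsh' : HasSubst (tsh' k) := by
  apply hasSubst_of_constantCoeff_zero
  intro s
  fin_cases s
  · change constantCoeff (X 0 - X 1 : MvPowerSeries (Fin 2) k) = 0
    simp
  · change constantCoeff (X 1 : MvPowerSeries (Fin 2) k) = 0
    simp

/-- restriction to `z = 0` -/
def pz : MvPowerSeries (Fin 2) k →ₐ[k] PowerSeries k := substAlgHom (R := k) (hasSubst_tz k)
/-- restriction to `t = 0` -/
def pt : MvPowerSeries (Fin 2) k →ₐ[k] PowerSeries k := substAlgHom (R := k) (hasSubst_tt k)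
/-- restriction to `z = t` -/
def pzt : MvPowerSeries (Fin 2) k →ₐ[k] PowerSeries k := substAlgHom (R := k) (hasSubst_tzt k)
/-- the shear -/
def shear : MvPowerSeries (Fin 2) k →ₐ[k] MvPowerSeries (Fin 2) k := substAlgHom (R := k) (hasSubst_tsh k)
/-- the inverse shear -/
def shear' : MvPowerSeries (Fin 2) k →ₐ[k] MvPowerSeries (Fin 2) k := substAlgHom (R := k) (hasSubst_tsh' k)

variable {k}

lemma idx_zz : idx (0, 0) = 0 := by
  ext i
  fin_cases i <;> rfl

lemma coeff_pz (φ : MvPowerSeries (Fin 2) k) (j : ℕ) : PowerSeries.coeff j (pz k φ) = cf φ (0, j) := by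
  have h1 : PowerSeries.coeff j (pz k φ) = coeff (Finsupp.single () j) (subst (tz k) φ) := by
    rw [pz, substAlgHom_apply]; rfl
  rw [h1, coeff_subst (hasSubst_tz k)]
  rw [finsum_eq_single _ (idx (0, j))]
  · rw [Finsupp.prod_fintype _ _ (fun _ => pow_zero _), Fin.prod_univ_two]
    change coeff (idx (0, j)) φ • PowerSeries.coeff j ((0 : PowerSeries k) ^ 0 * PowerSeries.X ^ j) = _
    rw [pow_zero, one_mul, PowerSeries.coeff_X_pow_self, smul_eq_mul, mul_one]
  · intro d hd
    rw [Finsupp.prod_fintype _ _ (fun _ => pow_zero _), Fin.prod_univ_two]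
    change coeff d φ • PowerSeries.coeff j ((0 : PowerSeries k) ^ (d 0) * PowerSeries.X ^ (d 1)) = _
    rcases Nat.eq_zero_or_pos (d 0) with h0 | h0
    · rw [h0, pow_zero, one_mul, PowerSeries.coeff_X_pow, if_neg, smul_zero]
      intro hj
      apply hd
      rw [← idx_surj d, h0, hj]
    · rw [zero_pow h0.ne', zero_mul, map_zero, smul_zero]

lemma coeff_pt (φ : MvPowerSeries (Fin 2) k) (i : ℕ) : PowerSeries.coeff i (pt k φ) = cf φ (i, 0) := by
  have h1 : PowerSeries.coeff i (pt k φ) = coeff (Finsupp.single () i) (subst (tt k) φ) := by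
    rw [pt, substAlgHom_apply]; rfl
  rw [h1, coeff_subst (hasSubst_tt k)]
  rw [finsum_eq_single _ (idx (i, 0))]
  · rw [Finsupp.prod_fintype _ _ (fun _ => pow_zero _), Fin.prod_univ_two]
    change coeff (idx (i, 0)) φ • PowerSeries.coeff i (PowerSeries.X ^ i * (0 : PowerSeries k) ^ 0) = _
    rw [pow_zero, mul_one, PowerSeries.coeff_X_pow_self, smul_eq_mul, mul_one]
  · intro d hd
    rw [Finsupp.prod_fintype _ _ (fun _ => pow_zero _), Fin.prod_univ_two]
    change coeff d φ • PowerSeries.coeff i (PowerSeries.X ^ (d 0) * (0 : PowerSeries k) ^ (d 1)) = _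
    rcases Nat.eq_zero_or_pos (d 1) with h0 | h0
    · rw [h0, pow_zero, mul_one, PowerSeries.coeff_X_pow, if_neg, smul_zero]
      intro hj
      apply hd
      rw [← idx_surj d, h0, hj]
    · rw [zero_pow h0.ne', mul_zero, map_zero, smul_zero]

/-- composition of substitutions, as algebra homomorphisms -/
lemma comp_eq {σ τ ρ : Type} {a : σ → MvPowerSeries τ k} (ha : HasSubst a) {b : τ → MvPowerSeries ρ k}
    (hb : HasSubst b) {c : σ → MvPowerSeries ρ k} (hc : HasSubst c) (h : ∀ s, subst b (a s) = c s)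
    (f : MvPowerSeries σ k) :
    substAlgHom (R := k) hb (substAlgHom (R := k) ha f) = substAlgHom (R := k) hc f := by
  rw [substAlgHom_apply, substAlgHom_apply, substAlgHom_apply, subst_comp_subst_apply ha hb]
  congr 1
  funext s
  exact h s

lemma pz_shear (φ : MvPowerSeries (Fin 2) k) : pz k (shear k φ) = pzt k φ := by
  refine comp_eq (hasSubst_tsh k) (hasSubst_tz k) (hasSubst_tzt k) (fun s => ?_) φ
  fin_cases s
  · change subst (tz k) (X 0 + X 1 : MvPowerSeries (Fin 2) k) = PowerSeries.X
    rw [subst_add (hasSubst_tz k), subst_X (hasSubst_tz k), subst_X (hasSubst_tz k)]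
    exact zero_add _
  · change subst (tz k) (X 1 : MvPowerSeries (Fin 2) k) = PowerSeries.X
    rw [subst_X (hasSubst_tz k)]
    rfl

lemma pt_shear (φ : MvPowerSeries (Fin 2) k) : pt k (shear k φ) = pt k φ := by
  refine comp_eq (hasSubst_tsh k) (hasSubst_tt k) (hasSubst_tt k) (fun s => ?_) φ
  fin_cases s
  · change subst (tt k) (X 0 + X 1 : MvPowerSeries (Fin 2) k) = PowerSeries.X
    rw [subst_add (hasSubst_tt k), subst_X (hasSubst_tt k), subst_X (hasSubst_tt k)]
    exact add_zero _
  · change subst (tt k) (X 1 : MvPowerSeries (Fin 2) k) = 0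
    rw [subst_X (hasSubst_tt k)]
    rfl

lemma shear'_shear (φ : MvPowerSeries (Fin 2) k) : shear' k (shear k φ) = φ := by
  have h := comp_eq (hasSubst_tsh k) (hasSubst_tsh' k) (HasSubst.X (σ := Fin 2) (S := k)) (fun s => ?_) φ
  · rw [shear, shear', h, substAlgHom_apply, subst_self]
    rfl
  · fin_cases s
    · change subst (tsh' k) (X 0 + X 1 : MvPowerSeries (Fin 2) k) = X 0
      rw [subst_add (hasSubst_tsh' k), subst_X (hasSubst_tsh' k), subst_X (hasSubst_tsh' k)]
      change (X 0 - X 1 + X 1 : MvPowerSeries (Fin 2) k) = X 0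
      ring
    · change subst (tsh' k) (X 1 : MvPowerSeries (Fin 2) k) = X 1
      rw [subst_X (hasSubst_tsh' k)]
      rfl

lemma shear_injective : Function.Injective (shear k) :=
  Function.LeftInverse.injective shear'_shear

lemma constantCoeff_pz (φ : MvPowerSeries (Fin 2) k) : PowerSeries.constantCoeff (pz k φ) = constantCoeff φ := by
  rw [← PowerSeries.coeff_zero_eq_constantCoeff_apply, coeff_pz, cf, idx_zz]
  rfl

lemma constantCoeff_shear (φ : MvPowerSeries (Fin 2) k) : constantCoeff (shear k φ) = constantCoeff φ := by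
  rw [← constantCoeff_pz (shear k φ), ← PowerSeries.coeff_zero_eq_constantCoeff_apply, coeff_pz]
  have h1 := coeff_pt (shear k φ) 0
  have h2 := coeff_pt φ 0
  rw [pt_shear] at h1
  rw [← h1, h2, cf, idx_zz]
  rfl

variable {L : Type v} [Field L] [Algebra k L] {ι : Type w}

/-- The leading vector of a tuple of power series in one variable. -/
def IsLead (f : ι → PowerSeries k) (a : ι → k) : Prop :=
  ∃ p, a ≠ 0 ∧ (∀ l, PowerSeries.coeff p (f l) = a l) ∧ ∀ j < p, ∀ l, PowerSeries.coeff j (f l) = 0

lemma exists_isLead (f : ι → PowerSeries k) (l : ι) (hl : f l ≠ 0) : ∃ a, IsLead f a := by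
  classical
  have h : ∃ p, ∃ l, PowerSeries.coeff p (f l) ≠ 0 := by
    by_contra hcon
    push Not at hcon
    exact hl (PowerSeries.ext fun n => by rw [hcon n l, map_zero])
  refine ⟨fun l => PowerSeries.coeff (Nat.find h) (f l), Nat.find h, ?_, fun l => rfl, ?_⟩
  · intro h0
    obtain ⟨l, hl⟩ := Nat.find_spec h
    exact hl (congrFun h0 l)
  · intro j hj l
    have := Nat.find_min h hj
    push Not at this
    exact this l

/-- Two arcs `z = 0` and `z = t` with different limits. -/
theorem lk_of_two_arcs {u : L} (hu : Transcendental k u) (φ : ι → MvPowerSeries (Fin 2) k) {a a' : ι → k}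
    (ha : IsLead (fun l => pz k (φ l)) a) (ha' : IsLead (fun l => pzt k (φ l)) a')
    (ht : ∃ l, pt k (φ l) ≠ 0) (haa' : ¬ Prp a a') : ∃ q, Lk u φ a q := by
  obtain ⟨l₀, hl₀⟩ := ht
  obtain ⟨b, q, hb, hq, hq'⟩ := exists_isLead (fun l => pt k (φ l)) l₀ hl₀
  obtain ⟨p, ha0, hp, hp'⟩ := ha
  obtain ⟨p', ha'0, hp1, hp1'⟩ := ha'
  have e1 : cv φ (0, p) = a := funext fun l => by rw [← hp l]; exact (coeff_pz _ _).symm
  have e2 : ∀ j < p, cv φ (0, j) = 0 := fun j hj => funext fun l => by
    rw [Pi.zero_apply, ← hp' j hj l]; exact (coeff_pz _ _).symm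
  have e3 : cv φ (q, 0) = b := funext fun l => by rw [← hq l]; exact (coeff_pt _ _).symm
  have e4 : ∀ i < q, cv φ (i, 0) = 0 := fun i hi => funext fun l => by
    rw [Pi.zero_apply, ← hq' i hi l]; exact (coeff_pt _ _).symm
  let ψ : ι → MvPowerSeries (Fin 2) k := fun l => shear k (φ l)
  have f1 : cv ψ (0, p') = a' := funext fun l => by
    rw [← hp1 l]
    change cf (shear k (φ l)) (0, p') = PowerSeries.coeff p' (pzt k (φ l))
    rw [← pz_shear]; exact (coeff_pz _ _).symm
  have f2 : ∀ j < p', cv ψ (0, j) = 0 := fun j hj => funext fun l => by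
    rw [Pi.zero_apply, ← hp1' j hj l]
    change cf (shear k (φ l)) (0, j) = PowerSeries.coeff j (pzt k (φ l))
    rw [← pz_shear]; exact (coeff_pz _ _).symm
  have f3 : cv ψ (q, 0) = b := funext fun l => by
    rw [← hq l]
    refine (coeff_pt _ _).symm.trans ?_
    rw [pt_shear]
  have f4 : ∀ i < q, cv ψ (i, 0) = 0 := fun i hi => funext fun l => by
    rw [Pi.zero_apply, ← hq' i hi l]
    refine (coeff_pt _ _).symm.trans ?_
    rw [pt_shear]
  by_cases hab : Prp a b
  · have hab' : ¬ Prp a' b := fun h => haa' (hab.trans h.symm)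
    have h1 := lk_right hu ψ ha'0 hb f1 f2 f3 f4 hab'
    exact ⟨q, (h1.comp (shear k) shear_injective constantCoeff_shear).prp hab.symm⟩
  · exact ⟨q, lk_left hu φ ha0 hb e1 e2 e3 e4 hab⟩

end

end K329.TwoArcs
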