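import Groth.Agent.Curves.K329.ArcLim
import Groth.Agent.Curves.K329.Homotopy
import Groth.Agent.Curves.K329.ArcThrough
import Mathlib.AlgebraicGeometry.Morphisms.Smooth

/-!
# Two points over the same point of a smooth scheme

`two_points`: `p : Γ ⟶ X` birational with `X` smooth over an algebraically closed field, `q : Γ ⟶ Y` with `Y`
projective, `y₁`, `y₂` two closed points with `p y₁ = p y₂` and `q y₁ ≠ q y₂`: there is a rational curve through
`q y₁`, contracted by every `f : Y ⟶ X` with `q ≫ f = p`.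
-/

set_option autoImplicit false
universe u

open CategoryTheory AlgebraicGeometry IsLocalRing

namespace K329.TwoPts

open CohB1 K329.Pt K329.P1Gen K329.TwoArcs K329.Limit K329.ArcLim K329.Homotopy K329.ArcThrough

variable {k : Type u} [Field k] [IsAlgClosed k] {N : ℕ}

omit [IsAlgClosed k] in
lemma range_const {Z Z' : Scheme.{u}} {t : Z' ⟶ Spec (CommRingCat.of k)} (r : Z' ⟶ Z)
    (s : Spec (CommRingCat.of k) ⟶ Z) (h : r = t ≫ s) : ∃ x : Z, Set.range r.base ⊆ {x} := by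
  refine ⟨s (closedPoint k), ?_⟩
  rintro _ ⟨z, rfl⟩
  rw [Set.mem_singleton_iff]
  have h1 : t z = closedPoint k := Subsingleton.elim (α := PrimeSpectrum k) _ _
  rw [← h1, ← Scheme.Hom.comp_apply, ← h]

theorem two_points {X Γ Y : Scheme.{u}} (pX : X ⟶ Spec (CommRingCat.of k)) [Smooth pX] [IsSeparated pX]
    [IsIntegral Γ] (p : Γ ⟶ X) [LocallyOfFiniteType p] (V : X.Opens)
    (hV : (p ⁻¹ᵁ V : Set Γ).Nonempty) [IsIso (p ∣_ V)] (pY : Y ⟶ Spec (CommRingCat.of k)) [IsProper pY]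
    (ι : Y ⟶ ProjSpace N k) [Mono ι] (hι : ι ≫ ProjSpace.toSpec N k = pY) (q : Γ ⟶ Y) (hq : q ≫ pY = p ≫ pX)
    (y₁ y₂ : Γ) (hy₁ : IsClosed ({y₁} : Set Γ)) (hy₂ : IsClosed ({y₂} : Set Γ)) (hx : p y₁ = p y₂)
    (hne : q y₁ ≠ q y₂) :
    ∃ r : ProjSpace 1 k ⟶ Y, r ≫ pY = ProjSpace.toSpec 1 k ∧ (¬ ∃ y : Y, Set.range r.base ⊆ {y}) ∧
      q y₁ ∈ Set.range r.base ∧
      ∀ f : Y ⟶ X, f ≫ pX = pY → q ≫ f = p → ∃ x : X, Set.range (r ≫ f).base ⊆ {x} := by
  obtain ⟨β₁, hβ₁, hβ₁c, hβ₁V⟩ := exists_arc_through k (p ≫ pX) y₁ hy₁ (p ⁻¹ᵁ V) hV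
  obtain ⟨β₂, hβ₂, hβ₂c, hβ₂V⟩ := exists_arc_through k (p ≫ pX) y₂ hy₂ (p ⁻¹ᵁ V) hV
  obtain ⟨W, hW, hxW, -⟩ := exists_isAffineOpen_mem_and_subset (X := X) (x := p y₁) (U := ⊤) trivial
  let A : Type u := Γ(X, W)
  let w : Spec (CommRingCat.of A) ⟶ X := hW.fromSpec
  let s : k →+* A := (Spec.preimage (w ≫ pX) : CommRingCat.of k ⟶ CommRingCat.of A).hom
  have hs : Spec.map (CommRingCat.ofHom s) = w ≫ pX := Spec.map_preimage (w ≫ pX)
  let : Algebra k A := s.toAlgebra
  have hsmooth : Algebra.FormallySmooth k A := by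
    have h1 : Smooth (Spec.map (CommRingCat.ofHom s)) := by
      rw [hs]
      infer_instance
    have h2 : s.Smooth := (HasRingHomProperty.Spec_iff (P := @Smooth)).1 h1
    exact h2.1
  -- lifts of the arcs to the affine chart
  have key : ∀ (β : Spec (CommRingCat.of (PowerSeries k)) ⟶ Γ),
      β ≫ p ≫ pX = Spec.map (CommRingCat.ofHom (algebraMap k (PowerSeries k))) →
      p (β (closedPoint (PowerSeries k))) = p y₁ →
      ∃ a : A →ₐ[k] PowerSeries k, Spec.map (CommRingCat.ofHom (a : A →+* PowerSeries k)) ≫ w = β ≫ p := by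
    intro β hβ hβc
    have hr : Set.range (β ≫ p) ⊆ Set.range w := by
      rintro _ ⟨z, rfl⟩
      have h1 : z ⤳ closedPoint (PowerSeries k) := IsLocalRing.specializes_closedPoint z
      refine (h1.map (β ≫ p).continuous).mem_open (IsOpenImmersion.isOpen_range _) ?_
      rw [Scheme.Hom.comp_apply, hβc]
      have h2 : Set.range w = (W : Set X) := hW.range_fromSpec
      rw [h2]
      exact hxW
    let l := IsOpenImmersion.lift w (β ≫ p) hr
    have hl : l ≫ w = β ≫ p := IsOpenImmersion.lift_fac _ _ _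
    let a : A →+* PowerSeries k := (Spec.preimage l : CommRingCat.of A ⟶ CommRingCat.of (PowerSeries k)).hom
    have ha : Spec.map (CommRingCat.ofHom a) = l := Spec.map_preimage l
    have hc : a.comp s = algebraMap k (PowerSeries k) := by
      have h1 : Spec.map (CommRingCat.ofHom (a.comp s)) =
          Spec.map (CommRingCat.ofHom (algebraMap k (PowerSeries k))) := by
        rw [CommRingCat.ofHom_comp, Spec.map_comp, ha, hs, ← Category.assoc, hl, Category.assoc, hβ]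
      have h2 := Spec.map_injective h1
      exact congrArg CommRingCat.Hom.hom h2
    refine ⟨{ a with commutes' := fun r => DFunLike.congr_fun hc r }, ?_⟩
    rw [← hl, ← ha]
    rfl
  obtain ⟨a₁, ha₁⟩ := key β₁ hβ₁ (by rw [hβ₁c])
  obtain ⟨a₂, ha₂⟩ := key β₂ hβ₂ (by rw [hβ₂c, hx])
  have hcl : Spec.map (CommRingCat.ofHom (cc k k : PowerSeries k →+* k)) (closedPoint k) =
      closedPoint (PowerSeries k) := by
    have hloc : IsLocalHom (cc k k : PowerSeries k →+* k) := by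
      refine ⟨fun b hb => ?_⟩
      exact PowerSeries.isUnit_iff_constantCoeff.2 hb
    exact IsLocalRing.comap_closedPoint (cc k k : PowerSeries k →+* k)
  have hcc : ∀ x, PowerSeries.constantCoeff (a₁ x) = PowerSeries.constantCoeff (a₂ x) := by
    let m₁ : Spec (CommRingCat.of k) ⟶ Spec (CommRingCat.of A) :=
      Spec.map (CommRingCat.ofHom ((cc k k).comp a₁ : A →+* k))
    let m₂ : Spec (CommRingCat.of k) ⟶ Spec (CommRingCat.of A) :=
      Spec.map (CommRingCat.ofHom ((cc k k).comp a₂ : A →+* k))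
    have hm : ∀ a : A →ₐ[k] PowerSeries k, Spec.map (CommRingCat.ofHom ((cc k k).comp a : A →+* k)) ≫
        Spec.map (CommRingCat.ofHom s) = 𝟙 _ := by
      intro a
      rw [← Spec.map_comp, ← Spec.map_id]
      congr 1
      refine CommRingCat.hom_ext (RingHom.ext fun x => ?_)
      exact ((cc k k).comp a).commutes x
    have hw : ∀ a : A →ₐ[k] PowerSeries k, Spec.map (CommRingCat.ofHom ((cc k k).comp a : A →+* k)) =
        Spec.map (CommRingCat.ofHom (cc k k : PowerSeries k →+* k)) ≫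
          Spec.map (CommRingCat.ofHom (a : A →+* PowerSeries k)) := by
      intro a
      rw [← Spec.map_comp]
      rfl
    have hm12 : m₁ (closedPoint k) = m₂ (closedPoint k) := by
      apply w.isOpenEmbedding.injective
      have hw₁ : m₁ ≫ w = Spec.map (CommRingCat.ofHom (cc k k : PowerSeries k →+* k)) ≫ β₁ ≫ p := by
        rw [← ha₁, ← Category.assoc, ← hw a₁]
      have hw₂ : m₂ ≫ w = Spec.map (CommRingCat.ofHom (cc k k : PowerSeries k →+* k)) ≫ β₂ ≫ p := by
        rw [← ha₂, ← Category.assoc, ← hw a₂]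
      have hz : ∀ β : Spec (CommRingCat.of (PowerSeries k)) ⟶ Γ,
          (Spec.map (CommRingCat.ofHom (cc k k : PowerSeries k →+* k)) ≫ β ≫ p) (closedPoint k) =
            p (β (closedPoint (PowerSeries k))) := by
        intro β
        rw [Scheme.Hom.comp_apply, hcl, Scheme.Hom.comp_apply]
      rw [← Scheme.Hom.comp_apply, ← Scheme.Hom.comp_apply, hw₁, hw₂]
      refine (hz β₁).trans ?_
      rw [hβ₁c, hx, ← hβ₂c]
      exact (hz β₂).symm
    have h1 : m₁ = Spec.map (CommRingCat.ofHom (algebraMap k k)) ≫ m₂ := by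
      refine eq_of_apply_eq (Spec.map (CommRingCat.ofHom s)) m₂ (hm a₂) m₁ ?_ hm12
      rw [hm a₁]
      exact (Spec.map_id _).symm
    have h2 : m₁ = m₂ := by
      rw [h1]
      have : Spec.map (CommRingCat.ofHom (algebraMap k k)) = 𝟙 _ := Spec.map_id _
      rw [this, Category.id_comp]
    have h3 := congrArg CommRingCat.Hom.hom (Spec.map_injective h2)
    exact fun x => DFunLike.congr_fun h3 x
  obtain ⟨θ₀, hθ₁, hθ₂⟩ := exists_homotopy a₁ a₂ hcc
  let θ : Spec (CommRingCat.of (MvPowerSeries (Fin 2) k)) ⟶ X :=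
    Spec.map (CommRingCat.ofHom (θ₀ : A →+* MvPowerSeries (Fin 2) k)) ≫ w
  have hθ : θ ≫ pX = Spec.map (CommRingCat.ofHom (algebraMap k (MvPowerSeries (Fin 2) k))) := by
    rw [Category.assoc, ← hs, ← Spec.map_comp]
    congr 1
    refine CommRingCat.hom_ext (RingHom.ext fun x => ?_)
    exact θ₀.commutes x
  have hp : (p ∣_ V) ≫ V.ι = (p ⁻¹ᵁ V).ι ≫ p := morphismRestrict_ι p V
  let g : (V : Scheme.{u}) ⟶ Y := inv (p ∣_ V) ≫ (p ⁻¹ᵁ V).ι ≫ q
  have hg : g ≫ pY = V.ι ≫ pX := by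
    rw [Category.assoc, Category.assoc, hq, IsIso.inv_comp_eq, ← Category.assoc, ← Category.assoc, hp]
  let l₁ := IsOpenImmersion.lift (p ⁻¹ᵁ V).ι
    (Spec.map (CommRingCat.ofHom (toL k : PowerSeries k →+* LaurentSeries k)) ≫ β₁) hβ₁V
  have hl₁ : l₁ ≫ (p ⁻¹ᵁ V).ι = Spec.map (CommRingCat.ofHom (toL k : PowerSeries k →+* LaurentSeries k)) ≫ β₁ :=
    IsOpenImmersion.lift_fac _ _ _
  let l₂ := IsOpenImmersion.lift (p ⁻¹ᵁ V).ι
    (Spec.map (CommRingCat.ofHom (toL k : PowerSeries k →+* LaurentSeries k)) ≫ β₂) hβ₂V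
  have hl₂ : l₂ ≫ (p ⁻¹ᵁ V).ι = Spec.map (CommRingCat.ofHom (toL k : PowerSeries k →+* LaurentSeries k)) ≫ β₂ :=
    IsOpenImmersion.lift_fac _ _ _
  have e₁ : Spec.map (CommRingCat.ofHom (pz k : MvPowerSeries (Fin 2) k →+* PowerSeries k)) ≫
      Spec.map (CommRingCat.ofHom (θ₀ : A →+* MvPowerSeries (Fin 2) k)) =
      Spec.map (CommRingCat.ofHom (a₁ : A →+* PowerSeries k)) := by
    rw [← Spec.map_comp]
    congr 1
    exact CommRingCat.hom_ext (RingHom.ext fun x => hθ₁ x)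
  have e₂ : Spec.map (CommRingCat.ofHom (pzt k : MvPowerSeries (Fin 2) k →+* PowerSeries k)) ≫
      Spec.map (CommRingCat.ofHom (θ₀ : A →+* MvPowerSeries (Fin 2) k)) =
      Spec.map (CommRingCat.ofHom (a₂ : A →+* PowerSeries k)) := by
    rw [← Spec.map_comp]
    congr 1
    exact CommRingCat.hom_ext (RingHom.ext fun x => hθ₂ x)
  obtain ⟨r, hr1, hr2, hr3, hr4⟩ := rc pX pY ι hι θ hθ V g hg (toL k) (toL_injective k)
    (l₁ ≫ (p ∣_ V)) (l₂ ≫ (p ∣_ V))
    (by
      rw [Category.assoc, hp, ← Category.assoc, hl₁, Category.assoc, ← ha₁, ← e₁, Category.assoc])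
    (by
      rw [Category.assoc, hp, ← Category.assoc, hl₂, Category.assoc, ← ha₂, ← e₂, Category.assoc])
    (β₁ ≫ q) (β₂ ≫ q) (by rw [Category.assoc, hq, hβ₁]) (by rw [Category.assoc, hq, hβ₂])
    (by
      rw [Category.assoc, IsIso.hom_inv_id_assoc, ← Category.assoc, ← Category.assoc, hl₁])
    (by
      rw [Category.assoc, IsIso.hom_inv_id_assoc, ← Category.assoc, ← Category.assoc, hl₂])
    (by
      rw [Scheme.Hom.comp_apply, Scheme.Hom.comp_apply, hβ₁c, hβ₂c]
      exact hne)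
  refine ⟨r, hr1, hr2, ?_, ?_⟩
  · rw [Scheme.Hom.comp_apply, hβ₁c] at hr3
    exact hr3
  · intro f hf hqf
    have h1 := hr4 f hf (by
      rw [Category.assoc, Category.assoc, hqf, ← hp, IsIso.inv_hom_id_assoc])
    exact range_const _ _ h1

end K329.TwoPts
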