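import Mathlib.Logic.Relation
import Mathlib.Data.Nat.Factorial.Basic
import Mathlib.Tactic.Linarith
import Mathlib.Tactic.Zify
import Mathlib.Tactic.Ring
import Mathlib.Tactic.Push

/-!
# Walking along the Newton polygon

`Edge S x y`: `x` and `y` are the leftmost and the rightmost point of `S ⊆ ℕ × ℕ` on a supporting line with positive
normal vector. `walk`: from the leftmost vertex one reaches the lowest vertex along edges.
-/

set_option autoImplicit false

namespace K329.Walk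

/-- `x` and `y` are the leftmost and rightmost points of `S` on a supporting line with normal vector `(α, β)`. -/
def EdgeAt (S : Set (ℕ × ℕ)) (α β : ℕ) (x y : ℕ × ℕ) : Prop :=
  x ∈ S ∧ y ∈ S ∧ 0 < α ∧ 0 < β ∧ α * y.1 + β * y.2 = α * x.1 + β * x.2 ∧
    (∀ z ∈ S, α * x.1 + β * x.2 ≤ α * z.1 + β * z.2) ∧
    (∀ z ∈ S, α * z.1 + β * z.2 = α * x.1 + β * x.2 → x.1 ≤ z.1 ∧ z.1 ≤ y.1)

/-- Some edge from `x` to `y`. -/
def Edge (S : Set (ℕ × ℕ)) (x y : ℕ × ℕ) : Prop := ∃ α β, EdgeAt S α β x y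

theorem Edge.fst_le {S : Set (ℕ × ℕ)} {x y : ℕ × ℕ} (h : Edge S x y) : x.1 ≤ y.1 := by
  obtain ⟨α, β, hx, -, -, -, -, -, h⟩ := h
  exact (h x hx rfl).2

theorem fst_le_of_reflTransGen {S : Set (ℕ × ℕ)} {x y : ℕ × ℕ} (h : Relation.ReflTransGen (Edge S) x y) :
    x.1 ≤ y.1 := by
  induction h with
  | refl => exact le_rfl
  | tail _ h ih => exact ih.trans h.fst_le

/-- One step of the walk. -/
theorem step (S : Set (ℕ × ℕ)) (q i0 j0 α β : ℕ) (hq : (q, 0) ∈ S) (h0 : (i0, j0) ∈ S) (hj0 : 0 < j0)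
    (hα : 0 < α) (hβ : 0 < β)
    (hsup : ∀ z ∈ S, α * i0 + β * j0 ≤ α * z.1 + β * z.2)
    (hright : ∀ z ∈ S, α * z.1 + β * z.2 = α * i0 + β * j0 → z.1 ≤ i0) :
    ∃ i1 j1 α' β' : ℕ, j1 < j0 ∧ (i1, j1) ∈ S ∧ EdgeAt S α' β' (i0, j0) (i1, j1) := by
  classical
  have hlt : ∀ z ∈ S, z.2 < j0 → i0 < z.1 := by
    intro z hz hz2
    by_contra hcon
    push Not at hcon
    have h1 := hsup z hz
    have h2 : α * z.1 ≤ α * i0 := Nat.mul_le_mul_left _ hcon
    have h3 : β * z.2 < β * j0 := Nat.mul_lt_mul_of_pos_left hz2 hβ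
    omega
  let D := j0.factorial
  have hD : 0 < D := Nat.factorial_pos _
  have hdvd : ∀ z : ℕ × ℕ, z.2 < j0 → (D / (j0 - z.2)) * (j0 - z.2) = D := fun z hz =>
    Nat.div_mul_cancel (Nat.dvd_factorial (by omega) (by omega))
  let m : ℕ × ℕ → ℕ := fun z => (z.1 - i0) * (D / (j0 - z.2))
  let T : Set (ℕ × ℕ) := {z | z ∈ S ∧ z.2 < j0}
  have hT : T.Nonempty := ⟨(q, 0), hq, hj0⟩
  let w : ℕ × ℕ → ℕ := fun z => m z * (j0 + 1) + z.2
  obtain ⟨z1, hz1T, hmin⟩ : ∃ z1 ∈ T, ∀ z ∈ T, w z1 ≤ w z := by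
    have hne : ∃ n, ∃ z ∈ T, w z = n := ⟨w hT.some, hT.some, hT.some_mem, rfl⟩
    obtain ⟨z1, hz1, he⟩ := Nat.find_spec hne
    exact ⟨z1, hz1, fun z hz => he ▸ Nat.find_min' hne ⟨z, hz, rfl⟩⟩
  have hz1S := hz1T.1
  have hz1j : z1.2 < j0 := hz1T.2
  have hz1i := hlt z1 hz1S hz1j
  have hm : ∀ z ∈ T, m z1 ≤ m z ∧ (m z = m z1 → z1.2 ≤ z.2) := by
    intro z hz
    have h1 : m z1 * (j0 + 1) + z1.2 ≤ m z * (j0 + 1) + z.2 := hmin z hz
    have h2 : z.2 < j0 := hz.2
    constructor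
    · by_contra hcon
      push Not at hcon
      have h3 : (m z + 1) * (j0 + 1) ≤ m z1 * (j0 + 1) := Nat.mul_le_mul_right _ hcon
      have h4 : (m z + 1) * (j0 + 1) = m z * (j0 + 1) + (j0 + 1) := by ring
      omega
    · intro he
      rw [he] at h1
      omega
  -- convert to cross-multiplied inequalities
  have hcross : ∀ z ∈ T, (z1.1 - i0) * (j0 - z.2) ≤ (z.1 - i0) * (j0 - z1.2) ∧
      ((z.1 - i0) * (j0 - z1.2) = (z1.1 - i0) * (j0 - z.2) → z1.2 ≤ z.2) := by
    intro z hz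
    have e1 : m z1 * (j0 - z1.2) * (j0 - z.2) = D * ((z1.1 - i0) * (j0 - z.2)) := by
      change (z1.1 - i0) * (D / (j0 - z1.2)) * (j0 - z1.2) * (j0 - z.2) = _
      rw [mul_assoc (z1.1 - i0), hdvd z1 hz1j]; ring
    have e2 : m z * (j0 - z1.2) * (j0 - z.2) = D * ((z.1 - i0) * (j0 - z1.2)) := by
      change (z.1 - i0) * (D / (j0 - z.2)) * (j0 - z1.2) * (j0 - z.2) = _
      have : (z.1 - i0) * (D / (j0 - z.2)) * (j0 - z1.2) * (j0 - z.2) =
        (z.1 - i0) * ((D / (j0 - z.2)) * (j0 - z.2)) * (j0 - z1.2) := by ring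
      rw [this, hdvd z hz.2]; ring
    obtain ⟨h1, h2⟩ := hm z hz
    constructor
    · have h3 : m z1 * (j0 - z1.2) * (j0 - z.2) ≤ m z * (j0 - z1.2) * (j0 - z.2) :=
        Nat.mul_le_mul_right _ (Nat.mul_le_mul_right _ h1)
      rw [e1, e2] at h3
      exact Nat.le_of_mul_le_mul_left h3 hD
    · intro he
      apply h2
      have h4 : m z * (j0 - z1.2) * (j0 - z.2) = m z1 * (j0 - z1.2) * (j0 - z.2) := by
        rw [e1, e2, he]
      have h5 : 0 < j0 - z.2 := Nat.sub_pos_of_lt hz.2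
      have h6 : 0 < j0 - z1.2 := Nat.sub_pos_of_lt hz1j
      exact Nat.eq_of_mul_eq_mul_right h6 (Nat.eq_of_mul_eq_mul_right h5 h4)
  obtain ⟨a1, ha1⟩ : ∃ a, z1.1 = i0 + a := ⟨z1.1 - i0, by omega⟩
  obtain ⟨d1, hd1⟩ : ∃ d, j0 = z1.2 + d := ⟨j0 - z1.2, by omega⟩
  have ha1p : 0 < a1 := by omega
  have hd1p : 0 < d1 := by omega
  have ea1 : z1.1 - i0 = a1 := by omega
  have ed1 : j0 - z1.2 = d1 := by omega
  -- strict inequality of slopes
  have hstrict : β * d1 < α * a1 := by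
    have h1 := hsup z1 hz1S
    have h2 : α * z1.1 + β * z1.2 ≠ α * i0 + β * j0 := fun h => by
      have := hright z1 hz1S h
      omega
    have h3 : α * i0 + β * j0 < α * z1.1 + β * z1.2 := lt_of_le_of_ne h1 (Ne.symm h2)
    rw [ha1] at h3
    have h4 : β * j0 = β * z1.2 + β * d1 := by rw [← mul_add, ← hd1]
    rw [mul_add] at h3
    omega
  refine ⟨z1.1, z1.2, d1, a1, hz1j, hz1S, h0, hz1S, hd1p, ha1p, ?_, ?_, ?_⟩
  · change d1 * z1.1 + a1 * z1.2 = d1 * i0 + a1 * j0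
    rw [ha1, hd1]; ring
  · intro z hz
    change d1 * i0 + a1 * j0 ≤ d1 * z.1 + a1 * z.2
    rcases lt_or_ge z.2 j0 with hlt2 | hge2
    · have h1 := (hcross z ⟨hz, hlt2⟩).1
      have h2 := hlt z hz hlt2
      obtain ⟨a, ha⟩ : ∃ a, z.1 = i0 + a := ⟨z.1 - i0, by omega⟩
      obtain ⟨d, hd⟩ : ∃ d, j0 = z.2 + d := ⟨j0 - z.2, by omega⟩
      have e1 : z.1 - i0 = a := by omega
      have e2 : j0 - z.2 = d := by omega
      rw [ea1, ed1, e1, e2] at h1
      rw [ha, hd]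
      nlinarith
    · rcases le_or_gt i0 z.1 with hge1 | hlt1
      · nlinarith
      · have h1 := hsup z hz
        obtain ⟨a, ha⟩ : ∃ a, i0 = z.1 + a := ⟨i0 - z.1, by omega⟩
        obtain ⟨d, hd⟩ : ∃ d, z.2 = j0 + d := ⟨z.2 - j0, by omega⟩
        rw [ha, hd] at h1 ⊢
        have h2 : α * a ≤ β * d := by nlinarith
        have h3 : d1 * a ≤ a1 * d := by
          by_contra hcon
          push Not at hcon
          have h5 : β * (a1 * d) ≤ β * (d1 * a) := Nat.mul_le_mul_left _ hcon.le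
          have h6 : a1 * (α * a) ≤ a1 * (β * d) := Nat.mul_le_mul_left _ h2
          have h7 : (β * d1) * a ≤ (α * a1) * a := Nat.mul_le_mul_right _ hstrict.le
          have h8 : β * (a1 * d) < β * (d1 * a) := Nat.mul_lt_mul_of_pos_left hcon hβ
          nlinarith
        nlinarith
  · intro z hz he
    change d1 * z.1 + a1 * z.2 = d1 * i0 + a1 * j0 at he
    change i0 ≤ z.1 ∧ z.1 ≤ z1.1
    rcases lt_or_ge z.2 j0 with hlt2 | hge2
    · have h1 := hcross z ⟨hz, hlt2⟩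
      have h2 := hlt z hz hlt2
      refine ⟨h2.le, ?_⟩
      obtain ⟨a, ha⟩ : ∃ a, z.1 = i0 + a := ⟨z.1 - i0, by omega⟩
      obtain ⟨d, hd⟩ : ∃ d, j0 = z.2 + d := ⟨j0 - z.2, by omega⟩
      have e1 : z.1 - i0 = a := by omega
      have e2 : j0 - z.2 = d := by omega
      rw [ea1, ed1, e1, e2] at h1
      have h3 : a * d1 = a1 * d := by
        have : d1 * z.1 + a1 * z.2 = d1 * i0 + a1 * j0 := he
        rw [ha, hd] at this
        nlinarith
      have h4 := h1.2 h3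
      have h5 : d ≤ d1 := by omega
      have h6 : a * d1 ≤ a1 * d1 := by rw [h3]; exact Nat.mul_le_mul_left _ h5
      have h7 := Nat.le_of_mul_le_mul_right h6 hd1p
      omega
    · have h1 : z.1 ≤ i0 := by
        by_contra hcon
        push Not at hcon
        have h3 : d1 * i0 < d1 * z.1 := Nat.mul_lt_mul_of_pos_left hcon hd1p
        have h4 : a1 * j0 ≤ a1 * z.2 := Nat.mul_le_mul_left _ hge2
        omega
      refine ⟨?_, by omega⟩
      by_contra hcon
      push Not at hcon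
      have h2 := hsup z hz
      obtain ⟨a, ha⟩ : ∃ a, i0 = z.1 + a := ⟨i0 - z.1, by omega⟩
      obtain ⟨d, hd⟩ : ∃ d, z.2 = j0 + d := ⟨z.2 - j0, by omega⟩
      have hap : 0 < a := by omega
      rw [ha, hd] at h2 he
      have h3 : α * a ≤ β * d := by nlinarith
      have h4 : d1 * a = a1 * d := by nlinarith
      have h5 : (β * d1) * a < (α * a1) * a := Nat.mul_lt_mul_of_pos_right hstrict hap
      have h6 : a1 * (α * a) ≤ a1 * (β * d) := Nat.mul_le_mul_left _ h3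
      nlinarith

/-- From a vertex one reaches the lowest vertex along edges. -/
theorem walk_aux (S : Set (ℕ × ℕ)) (q : ℕ) (hq : (q, 0) ∈ S) (hq' : ∀ i, (i, 0) ∈ S → q ≤ i) :
    ∀ j0 i0 α β : ℕ, (i0, j0) ∈ S → 0 < α → 0 < β →
      (∀ z ∈ S, α * i0 + β * j0 ≤ α * z.1 + β * z.2) →
      (∀ z ∈ S, α * z.1 + β * z.2 = α * i0 + β * j0 → z.1 ≤ i0) →
      Relation.ReflTransGen (Edge S) (i0, j0) (q, 0) := by
  intro j0
  induction j0 using Nat.strong_induction_on with
  | _ j0 ih =>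
    intro i0 α β h0 hα hβ hsup hright
    rcases Nat.eq_zero_or_pos j0 with rfl | hj0
    · have h1 := hq' i0 h0
      have h2 := hsup (q, 0) hq
      have h3 : i0 ≤ q := by
        simp only [mul_zero, add_zero] at h2
        exact Nat.le_of_mul_le_mul_left h2 hα
      have h4 : i0 = q := le_antisymm h3 h1
      rw [h4]
    · obtain ⟨i1, j1, α', β', hj1, h1, he⟩ := step S q i0 j0 α β hq h0 hj0 hα hβ hsup hright
      refine Relation.ReflTransGen.head ⟨α', β', he⟩ ?_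
      obtain ⟨-, -, hα', hβ', heq, hsup', hr'⟩ := he
      refine ih j1 hj1 i1 α' β' h1 hα' hβ' ?_ ?_
      · intro z hz
        have := hsup' z hz
        change α' * i1 + β' * j1 = α' * i0 + β' * j0 at heq
        rw [heq]
        exact this
      · intro z hz hz'
        change α' * i1 + β' * j1 = α' * i0 + β' * j0 at heq
        rw [heq] at hz'
        exact (hr' z hz hz').2

/-- The walk from the leftmost vertex `(0, p)` to the lowest vertex `(q, 0)`. -/
theorem walk (S : Set (ℕ × ℕ)) (p q : ℕ) (hp : (0, p) ∈ S) (hp' : ∀ j, (0, j) ∈ S → p ≤ j)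
    (hq : (q, 0) ∈ S) (hq' : ∀ i, (i, 0) ∈ S → q ≤ i) :
    Relation.ReflTransGen (Edge S) (0, p) (q, 0) := by
  refine walk_aux S q hq hq' p 0 (p + 1) 1 hp (Nat.succ_pos _) Nat.one_pos ?_ ?_
  · rintro ⟨i, j⟩ hz
    change (p + 1) * 0 + 1 * p ≤ (p + 1) * i + 1 * j
    rcases Nat.eq_zero_or_pos i with rfl | hi
    · have := hp' j hz
      omega
    · have : p + 1 ≤ (p + 1) * i := Nat.le_mul_of_pos_right _ hi
      omega
  · rintro ⟨i, j⟩ hz he
    change (p + 1) * i + 1 * j = (p + 1) * 0 + 1 * p at he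
    change i ≤ 0
    rcases Nat.eq_zero_or_pos i with rfl | hi
    · exact le_rfl
    · have : p + 1 ≤ (p + 1) * i := Nat.le_mul_of_pos_right _ hi
      omega

/-- If a property holds at the start of the walk and fails at the end, then it changes along some edge; the right end
of this edge has abscissa at most `q`. -/
theorem exists_edge (S : Set (ℕ × ℕ)) (p q : ℕ) (hp : (0, p) ∈ S) (hp' : ∀ j, (0, j) ∈ S → p ≤ j)
    (hq : (q, 0) ∈ S) (hq' : ∀ i, (i, 0) ∈ S → q ≤ i) (P : ℕ × ℕ → Prop) (hP : P (0, p)) (hP' : ¬ P (q, 0)) :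
    ∃ x y α β, EdgeAt S α β x y ∧ P x ∧ ¬ P y ∧ y.1 ≤ q := by
  by_contra hcon
  push Not at hcon
  have key : ∀ x, Relation.ReflTransGen (Edge S) x (q, 0) → P x → P (q, 0) := by
    intro x hx
    induction hx using Relation.ReflTransGen.head_induction_on with
    | refl => exact id
    | @head x y hxy hy ih =>
      intro hPx
      obtain ⟨α, β, he⟩ := hxy
      apply ih
      by_contra hPy
      have h1 := hcon x y α β he hPx hPy
      have h2 := fst_le_of_reflTransGen hy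
      exact absurd h2 (not_le.2 h1)
  exact hP' (key _ (walk S p q hp hp' hq hq') hP)

end K329.Walk
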